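import Mathlib.GroupTheory.Subgroup.Centralizer
import Mathlib.GroupTheory.OrderOfElement
import Mathlib.Algebra.Group.Subgroup.Finite
import Mathlib.Tactic

/-!
The order formula for a Klein four group acting on a group of odd order:
`|H| |C_H(V)|² = |C_H(t)| |C_H(t')| |C_H(tt')|`.
-/

namespace CfsgLib.LivWag

set_option linter.unusedSectionVars false

variable {X : Type*} [Group X] [Finite X]

/-- Square roots in a subgroup of odd order. -/
theorem exists_sqrt {H : Subgroup X} (hH : Odd (Nat.card H)) :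
    ∃ e : ℕ, ∀ x ∈ H, (x ^ e) ^ 2 = x ∧ (x ^ 2) ^ e = x := by
  obtain ⟨q, hq⟩ := hH
  refine ⟨q + 1, fun x hx => ?_⟩
  have h : x ^ ((q + 1) * 2) = x := by
    rw [show (q + 1) * 2 = Nat.card H + 1 by omega, pow_succ,
      show x ^ Nat.card H = 1 from by
        have h := congrArg Subtype.val (pow_card_eq_one' (x := (⟨x, hx⟩ : H)))
        rw [SubgroupClass.coe_pow] at h
        exact h, one_mul]
  exact ⟨by rw [← pow_mul, h], by rw [← pow_mul, mul_comm, h]⟩

theorem mul_conj_of_sq {t : X} (ht : t * t = 1) (x y : X) :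
    t * (x * y) * t = t * x * t * (t * y * t) := by
  calc t * (x * y) * t = t * x * (t * t) * y * t := by rw [ht, mul_one]; group
    _ = _ := by group

theorem pow_conj_of_sq {t : X} (ht : t * t = 1) (x : X) (n : ℕ) :
    t * x ^ n * t = (t * x * t) ^ n := by
  induction n with
  | zero => simp [ht]
  | succ n ih => rw [pow_succ, pow_succ, mul_conj_of_sq ht, ih]

theorem inv_conj_of_sq {t : X} (ht : t * t = 1) (x : X) : t * x⁻¹ * t = (t * x * t)⁻¹ := by
  rw [mul_inv_rev, mul_inv_rev, inv_eq_of_mul_eq_one_right ht, mul_assoc]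

theorem conj_conj_of_sq {t : X} (ht : t * t = 1) (x : X) : t * (t * x * t) * t = x := by
  calc t * (t * x * t) * t = (t * t) * x * (t * t) := by group
    _ = x := by rw [ht, one_mul, mul_one]

theorem mem_centralizer_iff_conj {H : Subgroup X} {t : X} (ht : t * t = 1) {x : X} :
    x ∈ H ⊓ Subgroup.centralizer {t} ↔ x ∈ H ∧ t * x * t = x := by
  rw [Subgroup.mem_inf, Subgroup.mem_centralizer_singleton_iff]
  refine and_congr_right fun _ => ⟨fun h => ?_, fun h => ?_⟩
  · rw [mul_assoc, h, ← mul_assoc, ht, one_mul]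
  · calc x * t = t * x * t * t := by rw [h]
      _ = t * x := by rw [mul_assoc (t * x), ht, mul_one]

/-- An involution splits a group of odd order into inverted and centralised elements. -/
theorem card_eq_inverted_mul {H : Subgroup X} (hH : Odd (Nat.card H)) {t : X} (ht : t * t = 1)
    (htH : ∀ x ∈ H, t * x * t ∈ H) :
    Nat.card H = Nat.card {x : X // x ∈ H ∧ t * x * t = x⁻¹} *
      Nat.card (H ⊓ Subgroup.centralizer {t} : Subgroup X) := by
  obtain ⟨e, he⟩ := exists_sqrt hH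
  rw [← Nat.card_prod]
  symm
  refine Nat.card_congr (Equiv.ofBijective
    (fun z => (⟨z.1.1 * z.2.1, H.mul_mem z.1.2.1 z.2.2.1⟩ : H)) ⟨?_, ?_⟩)
  · rintro ⟨⟨u, hu, hu'⟩, c, hc⟩ ⟨⟨v, hv, hv'⟩, d, hd⟩ h
    have h1 : u * c = v * d := congrArg Subtype.val h
    obtain ⟨hcH, hc'⟩ := (mem_centralizer_iff_conj ht).mp hc
    obtain ⟨hdH, hd'⟩ := (mem_centralizer_iff_conj ht).mp hd
    have h2 : u⁻¹ * c = v⁻¹ * d := by
      calc u⁻¹ * c = t * (u * c) * t := by rw [mul_conj_of_sq ht, hu', hc']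
        _ = v⁻¹ * d := by rw [h1, mul_conj_of_sq ht, hv', hd']
    have h3 : u ^ 2 = v ^ 2 := by
      calc u ^ 2 = (u * c) * (u⁻¹ * c)⁻¹ := by rw [sq]; group
        _ = (v * d) * (v⁻¹ * d)⁻¹ := by rw [h1, h2]
        _ = v ^ 2 := by rw [sq]; group
    have h4 : u = v := by rw [← (he u hu).2, h3, (he v hv).2]
    subst h4
    have h5 : c = d := mul_left_cancel h1
    subst h5
    rfl
  · rintro ⟨k, hk⟩
    set k' := t * k * t with hk'
    have hmem : k * k'⁻¹ ∈ H := H.mul_mem hk (H.inv_mem (htH k hk))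
    set u := (k * k'⁻¹) ^ e with hu
    have huH : u ∈ H := H.pow_mem hmem e
    have hu' : t * u * t = u⁻¹ := by
      rw [hu, pow_conj_of_sq ht, mul_conj_of_sq ht, inv_conj_of_sq ht, hk', conj_conj_of_sq ht,
        ← inv_pow, mul_inv_rev, inv_inv]
    have hu2 : u * u = k * k'⁻¹ := by rw [← sq]; exact (he _ hmem).1
    refine ⟨(⟨u, huH, hu'⟩, ⟨u⁻¹ * k, (mem_centralizer_iff_conj ht).mpr
      ⟨H.mul_mem (H.inv_mem huH) hk, ?_⟩⟩), Subtype.ext (mul_inv_cancel_left u k)⟩
    rw [mul_conj_of_sq ht, inv_conj_of_sq ht, hu', inv_inv, ← hk']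
    calc u * k' = u⁻¹ * (u * u) * k' := by group
      _ = u⁻¹ * k := by rw [hu2]; group

/-- The Klein four group order formula. -/
theorem klein_card_formula {H : Subgroup X} (hH : Odd (Nat.card H)) {t t' : X} (ht : t * t = 1)
    (ht' : t' * t' = 1) (hcomm : t' * t = t * t') (htH : ∀ x ∈ H, t * x * t ∈ H)
    (ht'H : ∀ x ∈ H, t' * x * t' ∈ H) :
    Nat.card H * Nat.card (H ⊓ Subgroup.centralizer {t'} ⊓ Subgroup.centralizer {t} : Subgroup X) ^ 2 =
      Nat.card (H ⊓ Subgroup.centralizer {t} : Subgroup X) *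
        Nat.card (H ⊓ Subgroup.centralizer {t'} : Subgroup X) *
        Nat.card (H ⊓ Subgroup.centralizer {t * t'} : Subgroup X) := by
  obtain ⟨e, he⟩ := exists_sqrt hH
  obtain ⟨s, hs⟩ : ∃ s, s = t * t' := ⟨_, rfl⟩
  rw [← hs]
  have hs2 : s * s = 1 := by
    calc s * s = t * (t' * t) * t' := by rw [hs]; group
      _ = t * t * (t' * t') := by rw [hcomm]; group
      _ = 1 := by rw [ht, ht', one_mul]
  have hsc : ∀ x, s * x * s = t * (t' * x * t') * t := by
    intro x
    calc s * x * s = t * t' * x * (t' * t) := by rw [hs, hcomm]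
      _ = _ := by group
  have hswap : ∀ x, t' * (t * x * t) * t' = t * (t' * x * t') * t := by
    intro x
    calc t' * (t * x * t) * t' = (t' * t) * x * (t * t') := by group
      _ = (t * t') * x * (t' * t) := by rw [hcomm]
      _ = _ := by group
  set A := H ⊓ Subgroup.centralizer {t'}
  set B := H ⊓ Subgroup.centralizer {s}
  have hA : ∀ x ∈ A, t * x * t ∈ A := fun x hx => by
    obtain ⟨h1, h2⟩ := (mem_centralizer_iff_conj ht').mp hx
    exact (mem_centralizer_iff_conj ht').mpr ⟨htH x h1, by rw [hswap, h2]⟩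
  have hB : ∀ x ∈ B, t * x * t ∈ B := fun x hx => by
    obtain ⟨h1, h2⟩ := (mem_centralizer_iff_conj hs2).mp hx
    rw [hsc] at h2
    refine (mem_centralizer_iff_conj hs2).mpr ⟨htH x h1, ?_⟩
    rw [hsc, hswap, h2]
  have cA := card_eq_inverted_mul (H := A) (hH.of_dvd_nat (Subgroup.card_dvd_of_le inf_le_left)) ht hA
  have cB := card_eq_inverted_mul (H := B) (hH.of_dvd_nat (Subgroup.card_dvd_of_le inf_le_left)) ht hB
  have cH := card_eq_inverted_mul hH ht htH
  have hV : (B ⊓ Subgroup.centralizer {t} : Subgroup X) = A ⊓ Subgroup.centralizer {t} := by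
    ext x
    simp only [A, B, Subgroup.mem_inf, Subgroup.mem_centralizer_singleton_iff, hs]
    constructor
    · rintro ⟨⟨h1, h2⟩, h3⟩
      refine ⟨⟨h1, mul_left_cancel (a := t) ?_⟩, h3⟩
      calc t * (x * t') = (t * x) * t' := by group
        _ = x * (t * t') := by rw [← h3]; group
        _ = _ := by rw [h2]; group
    · rintro ⟨⟨h1, h2⟩, h3⟩
      refine ⟨⟨h1, ?_⟩, h3⟩
      calc x * (t * t') = (x * t) * t' := by group
        _ = t * (x * t') := by rw [h3]; group
        _ = t * t' * x := by rw [h2]; group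
  -- splitting the elements inverted by `t`
  have hI : Nat.card {x : X // x ∈ H ∧ t * x * t = x⁻¹} =
      Nat.card {x : X // x ∈ B ∧ t * x * t = x⁻¹} * Nat.card {x : X // x ∈ A ∧ t * x * t = x⁻¹} := by
    rw [← Nat.card_prod]
    symm
    have hmemB : ∀ {x}, x ∈ B → t * x * t = x⁻¹ → x ∈ H ∧ t' * x * t' = x⁻¹ := by
      intro x hx hx'
      obtain ⟨h1, h2⟩ := (mem_centralizer_iff_conj hs2).mp hx
      refine ⟨h1, ?_⟩
      rw [hsc] at h2
      have := congrArg (fun y => t * y * t) h2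
      simp only [conj_conj_of_sq ht] at this
      rw [this, hx']
    refine Nat.card_congr (Equiv.ofBijective (fun z => (⟨z.1.1 * z.2.1 * z.1.1, ?_⟩ :
      {x : X // x ∈ H ∧ t * x * t = x⁻¹})) ⟨?_, ?_⟩)
    · obtain ⟨⟨b, hb, hb'⟩, a, ha, ha'⟩ := z
      refine ⟨H.mul_mem (H.mul_mem hb.1 ha.1) hb.1, ?_⟩
      change t * (b * a * b) * t = (b * a * b)⁻¹
      rw [mul_conj_of_sq ht, mul_conj_of_sq ht, hb', ha']
      group
    · rintro ⟨⟨b, hb, hb'⟩, a, ha, ha'⟩ ⟨⟨b₂, hb₂, hb₂'⟩, a₂, ha₂, ha₂'⟩ h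
      have h1 : b * a * b = b₂ * a₂ * b₂ := congrArg Subtype.val h
      obtain ⟨hbH, hbt⟩ := hmemB hb hb'
      obtain ⟨hbH₂, hbt₂⟩ := hmemB hb₂ hb₂'
      obtain ⟨haH, hat⟩ := (mem_centralizer_iff_conj ht').mp ha
      obtain ⟨haH₂, hat₂⟩ := (mem_centralizer_iff_conj ht').mp ha₂
      have h2 : b⁻¹ * a * b⁻¹ = b₂⁻¹ * a₂ * b₂⁻¹ := by
        calc b⁻¹ * a * b⁻¹ = t' * (b * a * b) * t' := by
              rw [mul_conj_of_sq ht', mul_conj_of_sq ht', hbt, hat]
          _ = _ := by rw [h1, mul_conj_of_sq ht', mul_conj_of_sq ht', hbt₂, hat₂]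
      -- both squares solve the same equation
      have h3 : (b ^ 2 * (b⁻¹ * a * b⁻¹)) ^ 2 = (b₂ ^ 2 * (b⁻¹ * a * b⁻¹)) ^ 2 := by
        calc (b ^ 2 * (b⁻¹ * a * b⁻¹)) ^ 2 = (b * a * b) * (b⁻¹ * a * b⁻¹) := by
              simp only [sq]; group
          _ = (b₂ * a₂ * b₂) * (b₂⁻¹ * a₂ * b₂⁻¹) := by rw [h1, h2]
          _ = (b₂ ^ 2 * (b₂⁻¹ * a₂ * b₂⁻¹)) ^ 2 := by simp only [sq]; group
          _ = _ := by rw [h2]
      have hm1 : b ^ 2 * (b⁻¹ * a * b⁻¹) ∈ H :=
        H.mul_mem (H.pow_mem hbH 2) (H.mul_mem (H.mul_mem (H.inv_mem hbH) haH) (H.inv_mem hbH))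
      have hm2 : b₂ ^ 2 * (b⁻¹ * a * b⁻¹) ∈ H :=
        H.mul_mem (H.pow_mem hbH₂ 2) (H.mul_mem (H.mul_mem (H.inv_mem hbH) haH) (H.inv_mem hbH))
      have h4 : b ^ 2 = b₂ ^ 2 := mul_right_cancel (by
        rw [← (he _ hm1).2, h3, (he _ hm2).2])
      have h5 : b = b₂ := by rw [← (he b hbH).2, h4, (he b₂ hbH₂).2]
      subst h5
      have h6 : a = a₂ := mul_left_cancel (mul_right_cancel h1)
      subst h6
      rfl
    · rintro ⟨i, hi, hit⟩
      set i' := t' * i * t' with hi'
      have hi'H : i' ∈ H := ht'H i hi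
      have hi't : t * i' * t = i'⁻¹ := by
        rw [hi', ← hswap, hit, inv_conj_of_sq ht']
      set w := (i * i') ^ e * i'⁻¹ with hw
      have hm : i * i' ∈ H := H.mul_mem hi hi'H
      have hwH : w ∈ H := H.mul_mem (H.pow_mem hm e) (H.inv_mem hi'H)
      have hwi : w * i' * w = i := by
        have : (w * i') * (w * i') = i * i' := by
          rw [hw, inv_mul_cancel_right, ← sq]; exact (he _ hm).1
        calc w * i' * w = (w * i') * (w * i') * i'⁻¹ := by group
          _ = i := by rw [this]; group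
      have huniq : ∀ y ∈ H, y * i' * y = i → y = w := by
        intro y hy hyi
        have : (y * i') ^ 2 = i * i' := by
          calc (y * i') ^ 2 = (y * i' * y) * i' := by rw [sq]; group
            _ = i * i' := by rw [hyi]
        rw [hw, ← this, (he _ (H.mul_mem hy hi'H)).2]
        group
      have hwt : t * w * t = w⁻¹ := by
        refine inv_injective ?_
        rw [inv_inv]
        refine huniq _ (H.inv_mem (htH w hwH)) ?_
        have h := congrArg (fun y => (t * y * t)⁻¹) hwi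
        simp only [mul_conj_of_sq ht, hi't, hit, inv_inv, mul_inv_rev] at h
        simpa [mul_assoc] using h
      have hwt' : t' * w * t' = w⁻¹ := by
        refine inv_injective ?_
        rw [inv_inv]
        refine huniq _ (H.inv_mem (ht'H w hwH)) ?_
        have h : t' * w * t' * i * (t' * w * t') = i' := by
          calc t' * w * t' * i * (t' * w * t')
              = t' * w * t' * (t' * i' * t') * (t' * w * t') := by
                rw [show t' * i' * t' = i from by rw [hi', conj_conj_of_sq ht']]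
            _ = t' * (w * i' * w) * t' := by
                rw [mul_conj_of_sq ht' (w * i') w, mul_conj_of_sq ht' w i']
            _ = i' := by rw [hwi, hi']
        set w' := t' * w * t'
        calc w'⁻¹ * i' * w'⁻¹ = w'⁻¹ * (w' * i * w') * w'⁻¹ := by rw [h]
          _ = i := by group
      set b := w ^ e with hb
      have hbH : b ∈ H := H.pow_mem hwH e
      have hb2 : b * b = w := by rw [← sq]; exact (he w hwH).1
      have hbt : t * b * t = b⁻¹ := by rw [hb, pow_conj_of_sq ht, hwt, inv_pow]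
      have hbt' : t' * b * t' = b⁻¹ := by rw [hb, pow_conj_of_sq ht', hwt', inv_pow]
      have hbB : b ∈ B := (mem_centralizer_iff_conj hs2).mpr ⟨hbH, by
        rw [hsc, hbt', inv_conj_of_sq ht, hbt, inv_inv]⟩
      set a := b⁻¹ * i * b⁻¹ with ha
      have hat : t * a * t = a⁻¹ := by
        rw [ha, mul_conj_of_sq ht, mul_conj_of_sq ht, inv_conj_of_sq ht, hbt, hit]; group
      have hat' : t' * a * t' = a := by
        rw [ha, mul_conj_of_sq ht', mul_conj_of_sq ht', inv_conj_of_sq ht', hbt', inv_inv, ← hi']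
        calc b * i' * b = b⁻¹ * ((b * b) * i' * (b * b)) * b⁻¹ := by group
          _ = b⁻¹ * i * b⁻¹ := by rw [hb2, hwi]
      exact ⟨(⟨b, hbB, hbt⟩, ⟨a, (mem_centralizer_iff_conj ht').mpr
        ⟨H.mul_mem (H.mul_mem (H.inv_mem hbH) hi) (H.inv_mem hbH), hat'⟩, hat⟩),
        Subtype.ext (by change b * a * b = i; rw [ha]; group)⟩
  rw [hV] at cB
  rw [cH, hI, cA, cB]
  ring

end CfsgLib.LivWag
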