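import Cfsg.Agent.Lib.LivWag.Induced
import Cfsg.Agent.S0743
import Mathlib.GroupTheory.Nilpotent

/-!
In a `k`-transitive group, `4 ≤ k < n`, some set of `k + 1` points carries all even permutations.

Induction on the degree. If a nontrivial `p`-group fixes more than `k` points, a largest such
group has a normaliser which is `k`-transitive on the fixed points (Witt, Gleason). Otherwise the
fixer of `k` points is semiregular outside them, and either it has at most two orbits there, or
some involution fixes `k - 1` points and visibly gives all permutations of a suitable set.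
-/

namespace CfsgLib.LivWag

open Equiv Equiv.Perm

universe u

variable {α : Type u} [Fintype α] [DecidableEq α] {G : Subgroup (Perm α)} {k : ℕ}

/-- At most two orbits of the fixer of every `k`-set outside it give all even permutations on all
`(k + 1)`-sets. -/
theorem alternating_le_of_two_orbits (hG : MulAction.IsMultiplyPretransitive G α k)
    (hkn : k < Fintype.card α) (hk : 3 ≤ k)
    (htwo : ∀ Γ : Finset α, Γ.card = k → ∀ y y' y'', y ∉ Γ → y' ∉ Γ → y'' ∉ Γ →
      (∃ h ∈ fixer G Γ, h y = y') ∨ (∃ h ∈ fixer G Γ, h y = y'') ∨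
        ∃ h ∈ fixer G Γ, h y' = y'')
    (Δ : Finset α) (hΔ : Δ.card = k + 1) :
    alternatingGroup ↥Δ ≤ inducedPerms G Δ := by
  classical
  rw [← closure_three_cycles_eq_alternating, Subgroup.closure_le]
  intro σ hσ
  -- a point outside the support
  obtain ⟨z, hz⟩ : ∃ z, z ∉ σ.support := by
    by_contra hall
    simp only [not_exists, not_not] at hall
    have h1 := Finset.card_le_card (fun x (_ : x ∈ (Finset.univ : Finset ↥Δ)) => hall x)
    rw [IsThreeCycle.card_support hσ, Finset.card_univ, Fintype.card_coe, hΔ] at h1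
    omega
  set Γ := Δ.erase (z : α) with hΓ
  have hΓc : Γ.card = k := by rw [hΓ, Finset.card_erase_of_mem z.2, hΔ]; omega
  have hzΓ : (z : α) ∉ Γ := Finset.notMem_erase _ _
  -- the permutations of `Δ` fixing `z` which are induced
  have lift : ∀ τ : Perm ↥Δ, τ z = z →
      ∃ g ∈ G, ∀ x : ↥Δ, x ≠ z → g x = τ x := by
    intro τ _
    obtain ⟨g, hg, hgf⟩ := exists_map hG hkn.le Γ hΓc.le
      (fun x => if h : x ∈ Δ then (τ ⟨x, h⟩ : α) else x) (by
        intro a ha b hb hab
        have ha' := Finset.mem_of_mem_erase (Finset.mem_coe.mp ha)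
        have hb' := Finset.mem_of_mem_erase (Finset.mem_coe.mp hb)
        simp only [ha', hb', dif_pos] at hab
        exact congrArg Subtype.val (τ.injective (Subtype.ext hab)))
    refine ⟨g, hg, fun x hx => ?_⟩
    rw [hgf x (Finset.mem_erase.mpr ⟨fun e => hx (Subtype.ext e), x.2⟩), dif_pos x.2]
  -- lifts moving `z`
  have notin : ∀ (τ : Perm ↥Δ) (g : Perm α), τ z = z → (∀ x : ↥Δ, x ≠ z → g x = τ x) →
      g z ∉ Γ := by
    intro τ g hτ hg hmem
    have hmem' := Finset.mem_of_mem_erase hmem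
    have h1 : τ.symm ⟨g z, hmem'⟩ ≠ z := by
      intro e
      have := congrArg τ e
      rw [Equiv.apply_symm_apply, hτ] at this
      exact (Finset.mem_erase.mp hmem).1 (congrArg Subtype.val this)
    have := hg _ h1
    rw [Equiv.apply_symm_apply] at this
    exact h1 (Subtype.ext (g.injective this))
  have fixin : ∀ (τ : Perm ↥Δ) (g h : Perm α), g ∈ G → h ∈ fixer G Γ → τ z = z →
      (∀ x : ↥Δ, x ≠ z → g x = τ x) → h z = g z → τ ∈ inducedPerms G Δ := by
    intro τ g h hg hh hτ hgx he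
    refine ⟨h⁻¹ * g, G.mul_mem (G.inv_mem hh.1) hg, fun x => ?_⟩
    rw [Perm.mul_apply]
    by_cases hx : x = z
    · rw [hx, hτ, ← he, Perm.inv_def, Equiv.symm_apply_apply]
    · rw [hgx x hx]
      refine ((fixer G Γ).inv_mem hh).2 _ (Finset.mem_erase.mpr ⟨fun e => hx ?_, (τ x).2⟩)
      exact τ.injective ((Subtype.ext e).trans hτ.symm)
  have sq : ∀ τ : Perm ↥Δ, τ z = z → τ * τ ∈ inducedPerms G Δ := by
    intro τ hτ
    by_cases hin : τ ∈ inducedPerms G Δ
    · exact mul_mem hin hin
    have hττ : (τ * τ) z = z := by rw [Perm.mul_apply, hτ, hτ]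
    obtain ⟨g₁, hg₁, hx₁⟩ := lift τ hτ
    obtain ⟨g₂, hg₂, hx₂⟩ := lift (τ * τ) hττ
    rcases htwo Γ hΓc z (g₁ z) (g₂ z) hzΓ (notin τ g₁ hτ hx₁) (notin _ g₂ hττ hx₂) with
      ⟨h, hh, he⟩ | ⟨h, hh, he⟩ | ⟨h, hh, he⟩
    · exact absurd (fixin τ g₁ h hg₁ hh hτ hx₁ he) hin
    · exact fixin _ g₂ h hg₂ hh hττ hx₂ he
    · exfalso
      apply hin
      refine ⟨g₁⁻¹ * (h⁻¹ * g₂), G.mul_mem (G.inv_mem hg₁) (G.mul_mem (G.inv_mem hh.1) hg₂),
        fun x => ?_⟩
      rw [Perm.mul_apply, Perm.mul_apply]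
      by_cases hx : x = z
      · rw [hx, hτ, ← he, Perm.inv_def h, Equiv.symm_apply_apply, Perm.inv_def g₁,
          Equiv.symm_apply_apply]
      · rw [hx₂ x hx, Perm.inv_eq_iff_eq]
        have h1 : τ x ≠ z := fun e => hx (τ.injective (e.trans hτ.symm))
        rw [((fixer G Γ).inv_mem hh).2 _ (Finset.mem_erase.mpr ⟨fun e => h1 ?_, Subtype.coe_prop _⟩),
          hx₁ _ h1, Perm.mul_apply]
        exact τ.injective ((Subtype.ext e).trans hτ.symm)
  have hsz : σ z = z := Perm.notMem_support.mp hz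
  have h3 : σ = σ⁻¹ * σ⁻¹ := by
    have := IsThreeCycle.orderOf hσ
    have h3' : σ ^ 3 = 1 := by rw [← this]; exact pow_orderOf_eq_one σ
    calc σ = σ ^ 3 * σ⁻¹ * σ⁻¹ := by group
      _ = σ⁻¹ * σ⁻¹ := by rw [h3', one_mul]
  rw [SetLike.mem_coe, h3]
  exact sq σ⁻¹ (by rw [Perm.inv_eq_iff_eq]; exact hsz.symm)

/-- Largest `p`-groups fixing more than `k` points: their normalisers are `k`-transitive on the
fixed points. -/
theorem exists_smaller (hG : MulAction.IsMultiplyPretransitive G α k) (hk : 1 ≤ k)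
    (hkn : k < Fintype.card α) {Δ₀ : Finset α} (hΔ₀ : Δ₀.card = k + 1)
    (hne : fixer G Δ₀ ≠ ⊥) :
    ∃ (F : Finset α) (G' : Subgroup (Perm ↥F)), k < F.card ∧ F.card < Fintype.card α ∧
      MulAction.IsMultiplyPretransitive G' ↥F k ∧
      ∀ σ ∈ G', ∃ g ∈ G, ∀ x : ↥F, g x = σ x := by
  classical
  obtain ⟨p, hp, hpd⟩ := Nat.exists_prime_and_dvd
    (fun h => hne ((fixer G Δ₀).eq_bot_of_card_eq h))
  have : Fact p.Prime := ⟨hp⟩
  let Ps : Set (Subgroup (Perm α)) :=
    {P | IsPGroup p P ∧ ∃ Δ : Finset α, Δ.card = k + 1 ∧ P ≤ fixer G Δ}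
  obtain ⟨g₀, hg₀⟩ := exists_prime_orderOf_dvd_card' (G := fixer G Δ₀) p hpd
  have hmem₀ : Subgroup.zpowers (g₀ : Perm α) ∈ Ps := by
    refine ⟨IsPGroup.of_card (n := 1) ?_, Δ₀, hΔ₀, Subgroup.zpowers_le.mpr g₀.2⟩
    rw [Nat.card_zpowers, Subgroup.orderOf_coe, hg₀, pow_one]
  obtain ⟨P, hP, hmax⟩ := Set.Finite.exists_maximalFor
    (fun P : Subgroup (Perm α) => Nat.card P) Ps (Set.toFinite Ps) ⟨_, hmem₀⟩
  have hmax' : ∀ Q ∈ Ps, Nat.card Q ≤ Nat.card P := fun Q hQ => by
    by_contra h
    exact h (hmax hQ (le_of_lt (not_le.mp h)))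
  obtain ⟨hPp, Δ, hΔ, hPΔ⟩ := hP
  have hP2 : p ≤ Nat.card P := by
    refine le_trans ?_ (hmax' _ hmem₀)
    rw [Nat.card_zpowers, Subgroup.orderOf_coe, hg₀]
  set F : Finset α := Finset.univ.filter fun x => ∀ g ∈ P, g x = x with hF
  have hmemF : ∀ {x : α}, x ∈ F ↔ ∀ g ∈ P, g x = x := by simp [hF]
  have hΔF : Δ ⊆ F := fun x hx => hmemF.mpr fun g hg => (hPΔ hg).2 x hx
  have hFk : k < F.card := by have := Finset.card_le_card hΔF; omega
  have hFn : F.card < Fintype.card α := by
    rw [← Finset.card_univ]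
    refine Finset.card_lt_card (Finset.ssubset_iff_subset_ne.mpr ⟨Finset.subset_univ _, fun e => ?_⟩)
    have : P = ⊥ := P.eq_bot_iff_forall.mpr fun g hg =>
      Equiv.ext fun x => hmemF.mp (e ▸ Finset.mem_univ x) g hg
    rw [this, Subgroup.card_bot] at hP2
    exact absurd hP2 (not_le.mpr hp.one_lt)
  have hPG : P ≤ G := hPΔ.trans (fixer_le G Δ)
  set N := G ⊓ Subgroup.normalizer (P : Set (Perm α)) with hN
  have hNF : ∀ g ∈ Subgroup.normalizer (P : Set (Perm α)), ∀ x ∈ F, g x ∈ F := by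
    intro g hg x hx
    refine hmemF.mpr fun q hq => ?_
    have hq' : g⁻¹ * q * g⁻¹⁻¹ ∈ P :=
      (Subgroup.mem_normalizer_iff.mp (Subgroup.inv_mem _ hg) q).mp hq
    have := hmemF.mp hx _ hq'
    rw [inv_inv, Perm.mul_apply, Perm.mul_apply, Perm.inv_eq_iff_eq] at this
    exact this
  refine ⟨F, inducedPerms N F, hFk, hFn, ?_, fun σ hσ => ?_⟩
  swap
  · obtain ⟨g, hg, hgx⟩ := hσ
    exact ⟨g, hg.1, hgx⟩
  -- restrictions
  have hres : ∀ g ∈ Subgroup.normalizer (P : Set (Perm α)),
      ∃ σ : Perm ↥F, ∀ x : ↥F, g x = σ x := by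
    intro g hg
    refine ⟨Equiv.ofBijective (fun x : ↥F => (⟨g x, hNF g hg x x.2⟩ : ↥F))
      (Finite.injective_iff_bijective.mp fun a b h => Subtype.ext
        (g.injective (congrArg Subtype.val h))), fun x => rfl⟩
  by_cases hsyl : ∀ S : Finset α, S ⊆ F → S.card = k →
      Nat.card P = p ^ (Nat.card (fixer G S)).factorization p
  · -- Witt
    rw [MulAction.isMultiplyPretransitive_iff]
    intro u v
    set S : Finset α := Finset.univ.image (fun i => (v i : α)) with hS
    have hSc : S.card = k := by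
      rw [hS, Finset.card_image_of_injective _ (fun i j h => v.injective (Subtype.ext h))]
      simp
    have hSF : S ⊆ F := by
      intro x hx
      obtain ⟨i, -, rfl⟩ := Finset.mem_image.mp hx
      exact (v i).2
    set U : Finset α := Finset.univ.image (fun i => (u i : α)) with hU
    have hUc : U.card = k := by
      rw [hU, Finset.card_image_of_injective _ (fun i j h => u.injective (Subtype.ext h))]
      simp
    obtain ⟨g, hg, hgu⟩ := exists_map hG hkn.le U hUc.le
      (fun x => if h : ∃ i, (u i : α) = x then (v h.choose : α) else x) (by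
        intro a ha b hb hab
        obtain ⟨i, -, rfl⟩ := Finset.mem_image.mp (Finset.mem_coe.mp ha)
        obtain ⟨j, -, rfl⟩ := Finset.mem_image.mp (Finset.mem_coe.mp hb)
        have hi : ∃ i', (u i' : α) = u i := ⟨i, rfl⟩
        have hj : ∃ j', (u j' : α) = u j := ⟨j, rfl⟩
        simp only [hi, hj, dif_pos] at hab
        rw [← hi.choose_spec, ← hj.choose_spec, v.injective (Subtype.ext hab)])
    have hguv : ∀ i, g (u i) = v i := by
      intro i
      have hi : ∃ i', (u i' : α) = u i := ⟨i, rfl⟩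
      rw [hgu _ (Finset.mem_image_of_mem _ (Finset.mem_univ i)), dif_pos hi,
        u.injective (Subtype.ext hi.choose_spec)]
    set P₁ := P.map (MulAut.conj g).toMonoidHom with hP₁
    have hP₁S : P₁ ≤ fixer G S := by
      rintro _ ⟨q, hq, rfl⟩
      refine ⟨G.mul_mem (G.mul_mem hg (hPG hq)) (G.inv_mem hg), fun x hx => ?_⟩
      obtain ⟨i, -, rfl⟩ := Finset.mem_image.mp hx
      change (g * q * g⁻¹) (v i : α) = v i
      rw [Perm.mul_apply, Perm.mul_apply, ← hguv, Perm.inv_def, Equiv.symm_apply_apply,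
        hmemF.mp (u i).2 q hq]
    have hPS : P ≤ fixer G S := fun q hq => ⟨hPG hq, fun x hx => hmemF.mp (hSF hx) q hq⟩
    have hcard₁ : Nat.card P₁ = Nat.card P :=
      (Nat.card_congr (P.equivMapOfInjective _ (MulAut.conj g).injective).toEquiv).symm
    have hval := hsyl S hSF hSc
    let S₁ : Sylow p (fixer G S) := Sylow.ofCard (P₁.subgroupOf (fixer G S)) (by
      rw [Nat.card_congr (Subgroup.subgroupOfEquivOfLe hP₁S).toEquiv, hcard₁, hval])
    let S₂ : Sylow p (fixer G S) := Sylow.ofCard (P.subgroupOf (fixer G S)) (by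
      rw [Nat.card_congr (Subgroup.subgroupOfEquivOfLe hPS).toEquiv, hval])
    obtain ⟨h, hh⟩ := MulAction.exists_smul_eq (fixer G S) S₁ S₂
    have hconj : ∀ q ∈ P₁, (h : Perm α) * q * (h : Perm α)⁻¹ ∈ P := by
      intro q hq
      have h1 : (⟨q, hP₁S hq⟩ : fixer G S) ∈ (S₁ : Subgroup (fixer G S)) := by
        simpa [S₁, Sylow.coe_ofCard, Subgroup.mem_subgroupOf] using hq
      have h2 := Subgroup.smul_mem_pointwise_smul _ (MulAut.conj h) _ h1
      rw [← Sylow.pointwise_smul_def, ← Sylow.smul_def, hh] at h2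
      simpa [S₂, Sylow.coe_ofCard, Subgroup.mem_subgroupOf] using h2
    have hhg : (h : Perm α) * g ∈ Subgroup.normalizer (P : Set (Perm α)) := by
      have himg : ∀ q ∈ P, ((h : Perm α) * g) * q * ((h : Perm α) * g)⁻¹ ∈ P := by
        intro q hq
        have := hconj (g * q * g⁻¹) ⟨q, hq, rfl⟩
        convert this using 1
        group
      have heq : P.map (MulAut.conj ((h : Perm α) * g)).toMonoidHom = P := by
        refine Subgroup.eq_of_le_of_card_ge ?_ (le_of_eq
          (Nat.card_congr (P.equivMapOfInjective _ (MulAut.conj _).injective).toEquiv))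
        rintro _ ⟨q, hq, rfl⟩
        exact himg q hq
      rw [Subgroup.mem_normalizer_iff]
      intro q
      refine ⟨himg q, fun hq => ?_⟩
      rw [← heq] at hq
      obtain ⟨q', hq', he⟩ := hq
      change ((h : Perm α) * g) * q' * ((h : Perm α) * g)⁻¹ = _ at he
      rwa [← mul_left_cancel (mul_right_cancel he)]
    obtain ⟨σ, hσ⟩ := hres _ hhg
    refine ⟨⟨σ, _, ⟨G.mul_mem h.2.1 hg, hhg⟩, hσ⟩, ?_⟩
    ext i
    change ((σ (u i) : ↥F) : α) = v i
    rw [← hσ, Perm.mul_apply, hguv,
      h.2.2 _ (Finset.mem_image.mpr ⟨i, Finset.mem_univ _, rfl⟩)]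
  · -- Gleason
    simp only [not_forall] at hsyl
    obtain ⟨S₀, hS₀F, hS₀, hS₀ne⟩ := hsyl
    refine Cfsg.Agent.S0743.result (inducedPerms N F) hp hk (by rwa [Fintype.card_coe]) fun s hs => ?_
    set S : Finset α := s.map (Function.Embedding.subtype _) with hS
    have hSc : S.card = k := by rw [hS, Finset.card_map, hs]
    have hSF : S ⊆ F := by
      intro x hx
      obtain ⟨y, -, rfl⟩ := Finset.mem_map.mp hx
      exact y.2
    have hPS : P ≤ fixer G S := fun q hq => ⟨hPG hq, fun x hx => hmemF.mp (hSF hx) q hq⟩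
    have hPs : IsPGroup p (P.subgroupOf (fixer G S)) :=
      hPp.of_equiv (Subgroup.subgroupOfEquivOfLe hPS).symm
    obtain ⟨Q, hQ⟩ := hPs.exists_le_sylow
    set Q' := (Q : Subgroup (fixer G S)).map (fixer G S).subtype with hQ'
    have hPQ : P ≤ Q' := by
      intro q hq
      exact ⟨⟨q, hPS hq⟩, hQ (Subgroup.mem_subgroupOf.mpr hq), rfl⟩
    have hQp : IsPGroup p Q' := Q.2.map _
    have hQne : P ≠ Q' := by
      intro e
      apply hS₀ne
      rw [card_fixer_of_trans hG hkn.le hS₀.le (hSc.trans hS₀.symm),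
        ← Q.card_eq_multiplicity, e]
      exact (Nat.card_congr ((Q : Subgroup (fixer G S)).equivMapOfInjective _
        Subtype.val_injective).toEquiv).symm
    have : Group.IsNilpotent Q' := hQp.isNilpotent
    set R := Q' ⊓ Subgroup.normalizer (P : Set (Perm α)) with hR
    have hPR : P < R := by
      have hlt : P.subgroupOf Q' < ⊤ := by
        rw [lt_top_iff_ne_top, ne_eq, Subgroup.subgroupOf_eq_top]
        exact fun h => hQne (le_antisymm hPQ h)
      obtain ⟨x, hx, hxP⟩ := SetLike.exists_of_lt (Group.normalizerCondition_of_isNilpotent _ hlt)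
      refine lt_of_le_of_ne (le_inf hPQ Subgroup.le_normalizer) fun e => hxP ?_
      rw [Subgroup.mem_subgroupOf, e]
      refine ⟨x.2, Subgroup.mem_normalizer_iff.mpr fun q => ?_⟩
      rw [Subgroup.mem_normalizer_iff] at hx
      constructor
      · intro hq
        have := (hx ⟨q, hPQ hq⟩).mp (Subgroup.mem_subgroupOf.mpr hq)
        simpa [Subgroup.mem_subgroupOf] using this
      · intro hq
        have h1 : q ∈ Q' := by
          have h2 := Q'.mul_mem (Q'.mul_mem (Q'.inv_mem x.2) (hPQ hq)) x.2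
          convert h2 using 1; group
        exact (hx ⟨q, h1⟩).mpr (by simpa [Subgroup.mem_subgroupOf] using hq)
    have hRN : R ≤ N := by
      rintro x ⟨hx1, hx2⟩
      obtain ⟨y, -, rfl⟩ := hx1
      exact ⟨y.2.1, hx2⟩
    have hle : inducedPerms R F ≤ inducedPerms N F := by
      rintro σ ⟨g, hg, hσ⟩
      exact ⟨g, hRN hg, hσ⟩
    refine ⟨(inducedPerms R F).subgroupOf (inducedPerms N F),
      (?_ : IsPGroup p (inducedPerms R F)).of_equiv (Subgroup.subgroupOfEquivOfLe hle).symm, ?_⟩
    · rintro ⟨σ, g, hg, hσ⟩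
      obtain ⟨i, hi⟩ := hQp ⟨g, hg.1⟩
      refine ⟨i, Subtype.ext (Equiv.ext fun x => Subtype.ext ?_)⟩
      have hpow : ∀ m : ℕ, ∀ x : ↥F, (g ^ m) x = (σ ^ m) x := by
        intro m
        induction m with
        | zero => simp
        | succ m ih => intro x; rw [pow_succ', pow_succ', Perm.mul_apply, ih, hσ, Perm.mul_apply]
      have hi' : g ^ p ^ i = 1 := by simpa using congrArg Subtype.val hi
      change (((σ ^ p ^ i) x : ↥F) : α) = x
      rw [← hpow, hi', Perm.one_apply]
    · ext y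
      constructor
      · intro hy
        by_contra hys
        -- a larger group fixing more than `k` points
        have hyS : (y : α) ∉ S := by
          intro h
          obtain ⟨z, hz, he⟩ := Finset.mem_map.mp h
          exact hys (Subtype.ext he ▸ hz)
        have hmem : R ∈ Ps := by
          refine ⟨hQp.to_le inf_le_left, insert (y : α) S,
            by rw [Finset.card_insert_of_notMem hyS, hSc], fun q hq => ?_⟩
          refine ⟨(hRN hq).1, fun x hx => ?_⟩
          rcases Finset.mem_insert.mp hx with rfl | hx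
          · obtain ⟨σ, hσ⟩ := hres q hq.2
            have := hy ⟨⟨σ, hle ⟨q, hq, hσ⟩⟩, Subgroup.mem_subgroupOf.mpr ⟨q, hq, hσ⟩⟩
            rw [hσ y]
            exact congrArg Subtype.val this
          · obtain ⟨q', -, rfl⟩ := hq.1
            exact q'.2.2 x hx
        have h1 := hmax' R hmem
        have h2 : P = R := Subgroup.eq_of_le_of_card_ge hPR.le h1
        exact hPR.ne h2
      · rintro hy ⟨⟨σ, hσN⟩, hσR⟩
        obtain ⟨q, hq, hσ⟩ := Subgroup.mem_subgroupOf.mp hσR
        obtain ⟨q', -, rfl⟩ := hq.1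
        apply Subtype.ext
        change ((σ y : ↥F) : α) = y
        rw [← hσ y]
        exact q'.2.2 _ (Finset.mem_map_of_mem _ hy)

/-- The two-orbit property, when the fixer of `k` points is semiregular of even order. -/
theorem two_orbits_of_even (hG : MulAction.IsMultiplyPretransitive G α k) (hk : 2 ≤ k)
    (hkn : k < Fintype.card α) (hsemi : ∀ S : Finset α, k + 1 ≤ S.card → fixer G S = ⊥)
    (heven : ∀ S : Finset α, S.card = k → Even (Nat.card (fixer G S)))
    (Γ : Finset α) (hΓ : Γ.card = k) {y y' y'' : α} (hy : y ∉ Γ) (hy' : y' ∉ Γ) (hy'' : y'' ∉ Γ) :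
    (∃ h ∈ fixer G Γ, h y = y') ∨ (∃ h ∈ fixer G Γ, h y = y'') ∨
      ∃ h ∈ fixer G Γ, h y' = y'' := by
  classical
  set κ := Nat.card (fixer G Γ) with hκ
  have hκS : ∀ S : Finset α, S.card = k → Nat.card (fixer G S) = κ := fun S hS =>
    card_fixer_of_trans hG hkn.le hS.le (hΓ.trans hS.symm)
  -- many involutions in one coset
  obtain ⟨D₀, hD₀Γ, hD₀⟩ := Finset.exists_subset_card_eq (s := Γ) (n := k - 1) (by omega)
  obtain ⟨a, ha⟩ : D₀.Nonempty := Finset.card_pos.mp (by omega)
  set D := D₀.erase a with hD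
  have hDc : D.card = k - 2 := by rw [hD, Finset.card_erase_of_mem ha, hD₀]; omega
  have haD : a ∉ D := Finset.notMem_erase _ _
  set U := (insert a D)ᶜ with hU
  have hUc : U.card = Fintype.card α - (k - 1) := by
    rw [hU, Finset.card_compl, Finset.card_insert_of_notMem haD, hDc]; omega
  have hmemU : ∀ {x}, x ∈ U ↔ x ≠ a ∧ x ∉ D := by simp [hU]
  have hex : ∀ s ∈ U.powersetCard 2, ∃ t ∈ G, t * t = 1 ∧ ∀ x, t x = x ↔ x ∈ D ∪ s := by
    intro s hs
    obtain ⟨hsU, hsc⟩ := Finset.mem_powersetCard.mp hs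
    have hdis : Disjoint D s := Finset.disjoint_right.mpr fun x hx => (hmemU.mp (hsU hx)).2
    have hc : (D ∪ s).card = k := by rw [Finset.card_union_of_disjoint hdis, hDc, hsc]; omega
    obtain ⟨t, ht⟩ := exists_prime_orderOf_dvd_card' (G := fixer G (D ∪ s)) 2
      (heven _ hc).two_dvd
    have ht1 : (t : Perm α) ≠ 1 := fun e => by
      rw [← Subgroup.orderOf_coe, e, orderOf_one] at ht; omega
    refine ⟨t, t.2.1, ?_, fun x => ⟨fun hx => ?_, t.2.2 x⟩⟩
    · rw [← Subgroup.orderOf_coe] at ht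
      rw [← sq, ← ht, pow_orderOf_eq_one]
    · by_contra hxm
      refine ht1 ?_
      have : (t : Perm α) ∈ fixer G (insert x (D ∪ s)) := ⟨t.2.1, fun z hz => by
        rcases Finset.mem_insert.mp hz with rfl | hz
        · exact hx
        · exact t.2.2 z hz⟩
      rwa [hsemi _ (by rw [Finset.card_insert_of_notMem hxm, hc]), Subgroup.mem_bot] at this
  choose! t htG ht2 htfix using hex
  have hmaps : ∀ s ∈ U.powersetCard 2, t s a ∈ U := by
    intro s hs
    obtain ⟨hsU, -⟩ := Finset.mem_powersetCard.mp hs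
    refine hmemU.mpr ⟨fun e => ?_, fun e => ?_⟩
    · have := (htfix s hs a).mp e
      rcases Finset.mem_union.mp this with h | h
      · exact haD h
      · exact (hmemU.mp (hsU h)).1 rfl
    · have h1 := (htfix s hs _).mpr (Finset.mem_union_left s e)
      exact haD ((t s).injective h1 ▸ e)
  have hfib : ∀ b ∈ U, ((U.powersetCard 2).filter fun s => t s a = b).card ≤ κ := by
    intro b hb
    set T := (U.powersetCard 2).filter fun s => t s a = b
    rcases T.eq_empty_or_nonempty with e | ⟨s₀, hs₀⟩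
    · rw [e, Finset.card_empty]; exact Nat.zero_le _
    obtain ⟨hs₀m, hs₀a⟩ := Finset.mem_filter.mp hs₀
    have hbc : (insert a (insert b D)).card = k := by
      rw [Finset.card_insert_of_notMem, Finset.card_insert_of_notMem (hmemU.mp hb).2, hDc]
      · omega
      · simp [haD, (hmemU.mp hb).1.symm]
    rw [← hκS _ hbc, ← Nat.card_eq_finsetCard]
    refine Nat.card_le_card_of_injective (fun s : ↥T =>
      (⟨t s * t s₀, G.mul_mem (htG _ (Finset.mem_filter.mp s.2).1) (htG _ hs₀m),
        fun x hx => ?_⟩ : fixer G (insert a (insert b D)))) ?_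
    · obtain ⟨hsm, hsa⟩ := Finset.mem_filter.mp s.2
      have e1 : t s₀ b = a := by rw [← hs₀a, ← Perm.mul_apply, ht2 _ hs₀m, Perm.one_apply]
      have e2 : t s b = a := by rw [← hsa, ← Perm.mul_apply, ht2 _ hsm, Perm.one_apply]
      rw [Perm.mul_apply]
      rcases Finset.mem_insert.mp hx with rfl | hx
      · rw [hs₀a, e2]
      rcases Finset.mem_insert.mp hx with rfl | hx
      · rw [e1, hsa]
      rw [(htfix _ hs₀m x).mpr (Finset.mem_union_left _ hx),
        (htfix _ hsm x).mpr (Finset.mem_union_left _ hx)]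
    · intro s s' h
      have h1 : t s = t s' := mul_right_cancel (congrArg Subtype.val h)
      obtain ⟨hsm, -⟩ := Finset.mem_filter.mp s.2
      obtain ⟨hsm', -⟩ := Finset.mem_filter.mp s'.2
      apply Subtype.ext
      have hh : ∀ (q : Finset α), q ∈ U.powersetCard 2 → ∀ x, x ∈ q ↔ t q x = x ∧ x ∉ D := by
        intro q hq x
        rw [htfix q hq, Finset.mem_union]
        refine ⟨fun h => ⟨Or.inr h, (hmemU.mp ((Finset.mem_powersetCard.mp hq).1 h)).2⟩, ?_⟩
        rintro ⟨h | h, h'⟩
        · exact absurd h h'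
        · exact h
      ext x
      rw [hh _ hsm, hh _ hsm', h1]
  have hbound := Finset.card_le_mul_card_image_of_maps_to (f := fun s => t s a) hmaps κ hfib
  rw [Finset.card_powersetCard, hUc, Nat.choose_two_right] at hbound
  -- semiregular orbits
  set K := (Finset.univ : Finset (fixer G Γ))
  let ev : α → ↥(fixer G Γ) → α := fun z h => h.1 z
  have horb : ∀ z, z ∉ Γ → (K.image (ev z)).card = κ := by
    intro z hz
    rw [Finset.card_image_of_injective, Finset.card_univ, ← Nat.card_eq_fintype_card]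
    intro h h' e
    have : ((h' : Perm α)⁻¹ * h) ∈ fixer G (insert z Γ) := by
      refine ⟨G.mul_mem (G.inv_mem h'.2.1) h.2.1, fun x hx => ?_⟩
      rcases Finset.mem_insert.mp hx with rfl | hx
      · rw [Perm.mul_apply, Perm.inv_eq_iff_eq]; exact e
      · exact ((fixer G Γ).mul_mem ((fixer G Γ).inv_mem h'.2) h.2).2 x hx
    rw [hsemi _ (by rw [Finset.card_insert_of_notMem hz, hΓ]), Subgroup.mem_bot] at this
    exact Subtype.ext (inv_mul_eq_one.mp this).symm
  have hdisj : ∀ z w, (¬ ∃ h ∈ fixer G Γ, h z = w) →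
      Disjoint (K.image (ev z)) (K.image (ev w)) := by
    intro z w hno
    rw [Finset.disjoint_left]
    intro x hx hx'
    obtain ⟨h, -, rfl⟩ := Finset.mem_image.mp hx
    obtain ⟨h', -, he⟩ := Finset.mem_image.mp hx'
    exact hno ⟨(h' : Perm α)⁻¹ * h, (fixer G Γ).mul_mem ((fixer G Γ).inv_mem h'.2) h.2,
      by rw [Perm.mul_apply, Perm.inv_eq_iff_eq]; exact he.symm⟩
  have hsub : ∀ z, z ∉ Γ → (K.image (ev z)) ⊆ Γᶜ := by
    intro z hz x hx
    obtain ⟨h, -, rfl⟩ := Finset.mem_image.mp hx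
    rw [Finset.mem_compl]
    intro hm
    exact hz ((h : Perm α).injective (h.2.2 _ hm) ▸ hm)
  by_contra hno
  simp only [not_or] at hno
  have hunion := Finset.card_le_card (Finset.union_subset
    (Finset.union_subset (hsub y hy) (hsub y' hy')) (hsub y'' hy''))
  rw [Finset.card_union_of_disjoint (Finset.disjoint_union_left.mpr
      ⟨hdisj _ _ hno.2.1, hdisj _ _ hno.2.2⟩),
    Finset.card_union_of_disjoint (hdisj _ _ hno.1), horb y hy, horb y' hy', horb y'' hy'',
    Finset.card_compl, hΓ] at hunion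
  have hκpos : 0 < κ := Nat.card_pos
  obtain ⟨d, hd⟩ : ∃ d, Fintype.card α = k + (d + 1) := ⟨Fintype.card α - k - 1, by omega⟩
  rw [show Fintype.card α - (k - 1) = d + 2 by omega, show d + 2 - 1 = d + 1 by omega] at hbound
  have h2 : (d + 2) * (d + 1) ≤ 2 * (κ * (d + 2)) + 1 := by omega
  have h3 : d + 1 ≤ 2 * κ := by
    by_contra h
    have : (d + 2) * (2 * κ + 1) ≤ (d + 2) * (d + 1) := Nat.mul_le_mul_left _ (by omega)
    ring_nf at this h2
    omega
  omega

/-- The two-orbit property when the fixers of `k` points have odd order and no involution fixes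
exactly `k - 1` points. -/
theorem two_orbits_of_odd (hG : MulAction.IsMultiplyPretransitive G α k) (hk : 4 ≤ k)
    (hkn : k < Fintype.card α)
    (hodd : ∀ S : Finset α, S.card = k → Odd (Nat.card (fixer G S)))
    (hex : ∀ t ∈ G, t * t = 1 → t ≠ 1 → (Finset.univ.filter fun x => t x = x).card ≠ k - 1)
    (Γ : Finset α) (hΓ : Γ.card = k) {y y' y'' : α} (hy : y ∉ Γ) (hy' : y' ∉ Γ) (hy'' : y'' ∉ Γ) :
    (∃ h ∈ fixer G Γ, h y = y') ∨ (∃ h ∈ fixer G Γ, h y = y'') ∨
      ∃ h ∈ fixer G Γ, h y' = y'' := by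
  classical
  let Fix : Perm α → Finset α := fun t => Finset.univ.filter fun x => t x = x
  have hFix : ∀ {t : Perm α} {x : α}, x ∈ Fix t ↔ t x = x := by simp [Fix]
  have small : ∀ t ∈ G, t * t = 1 → t ≠ 1 → (Fix t).card < k := by
    intro t htG ht2 ht1
    by_contra hlt
    obtain ⟨S, hS, hSc⟩ := Finset.exists_subset_card_eq (s := Fix t) (n := k) (by omega)
    exact ht1 (eq_one_of_sq_of_odd (hodd S hSc) ⟨htG, fun x hx => hFix.mp (hS hx)⟩
      (by rw [sq, ht2]))
  obtain ⟨a, haΓ, b, hbΓ, hab⟩ := Finset.one_lt_card.mp (show 1 < Γ.card by omega)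
  obtain ⟨g, hg, hgf⟩ := exists_map hG hkn.le Γ hΓ.le (Equiv.swap a b) (Equiv.injective _).injOn
  set E := (Γ.erase a).erase b with hE
  have hEc : E.card = k - 2 := by
    rw [hE, Finset.card_erase_of_mem (Finset.mem_erase.mpr ⟨hab.symm, hbΓ⟩),
      Finset.card_erase_of_mem haΓ, hΓ]; omega
  have hins : insert a (insert b E) = Γ := by
    rw [hE, Finset.insert_erase (Finset.mem_erase.mpr ⟨hab.symm, hbΓ⟩),
      Finset.insert_erase haΓ]
  have hmemE : ∀ {x}, x ∈ E ↔ x ≠ b ∧ x ≠ a ∧ x ∈ Γ := by simp [hE]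
  obtain ⟨t, htG, ht2, hta, htb, htE⟩ := exists_involution_of_swap hg
    (a := a) (b := b) (S := E) (by rw [hgf a haΓ, Equiv.swap_apply_left])
    (by rw [hgf b hbΓ, Equiv.swap_apply_right])
    (fun x hx => by
      obtain ⟨h1, h2, h3⟩ := hmemE.mp hx
      rw [hgf x h3, Equiv.swap_apply_of_ne_of_ne h2 h1])
    (by rw [hins]; exact hodd Γ hΓ)
  have htt : ∀ x, t (t x) = x := fun x => by rw [← Perm.mul_apply, ht2, Perm.one_apply]
  have ht1 : t ≠ 1 := fun e => hab (by rw [e] at hta; simpa using hta)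
  have hFE : Fix t = E := by
    refine (Finset.eq_of_subset_of_card_le (fun x hx => hFix.mpr (htE x hx)) ?_).symm
    have h1 := small t htG ht2 ht1
    have h2 : (Fix t).card ≠ k - 1 := hex t htG ht2 ht1
    omega
  obtain ⟨f₁, hf₁, f₂, hf₂, h12⟩ := Finset.one_lt_card.mp (show 1 < E.card by omega)
  set E' := (E.erase f₁).erase f₂ with hE'
  -- elements commuting with `t`, fixing `E'`, `a`, and mapping `y` as prescribed
  have liftTo : ∀ z, z ∉ Γ → ∃ g ∈ G, g y = z ∧ (∀ x ∈ E', g x = x) ∧ g a = a ∧ g b = b ∧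
      ((g f₁ = f₁ ∧ g f₂ = f₂) ∨ (g f₁ = f₂ ∧ g f₂ = f₁)) := by
    intro z hz
    have moved : ∀ w, w ∉ Γ → t w ≠ w ∧ t w ∉ Γ := by
      intro w hw
      have h1 : t w ≠ w := fun e => hw (hmemE.mp (hFE ▸ hFix.mpr e)).2.2
      refine ⟨h1, fun hm => ?_⟩
      rw [← hins, Finset.mem_insert, Finset.mem_insert] at hm
      rcases hm with h | h | h
      · exact hw (by rw [← htt w, h, hta]; exact hbΓ)
      · exact hw (by rw [← htt w, h, htb]; exact haΓ)
      · exact h1 (t.injective (htE _ h))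
    set S := insert a (insert b (insert y (insert (t y) E'))) with hS
    have hE'Γ : ∀ x ∈ E', x ∈ Γ ∧ x ≠ a ∧ x ≠ b ∧ t x = x := fun x hx => by
      have := Finset.mem_of_mem_erase (Finset.mem_of_mem_erase hx)
      obtain ⟨h1, h2, h3⟩ := hmemE.mp this
      exact ⟨h3, h2, h1, htE x this⟩
    have hSc : S.card = k := by
      rw [hS, Finset.card_insert_of_notMem, Finset.card_insert_of_notMem,
        Finset.card_insert_of_notMem, Finset.card_insert_of_notMem, hE',
        Finset.card_erase_of_mem (Finset.mem_erase.mpr ⟨h12.symm, hf₂⟩),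
        Finset.card_erase_of_mem hf₁, hEc]
      · omega
      · exact fun h => (moved y hy).2 (hE'Γ _ h).1
      · simp only [Finset.mem_insert, not_or]
        exact ⟨(moved y hy).1.symm, fun h => hy (hE'Γ _ h).1⟩
      · simp only [Finset.mem_insert, not_or]
        exact ⟨fun e => hy (e ▸ hbΓ), fun e => (moved y hy).2 (e ▸ hbΓ),
          fun h => (hE'Γ _ h).2.2.1 rfl⟩
      · simp only [Finset.mem_insert, not_or]
        exact ⟨hab, fun e => hy (e ▸ haΓ), fun e => (moved y hy).2 (e ▸ haΓ),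
          fun h => (hE'Γ _ h).2.1 rfl⟩
    let f : α → α := fun x => if x = y then z else if x = t y then t z else x
    have hfΓ : ∀ x ∈ Γ, f x = x := fun x hx => by
      simp only [f]
      rw [if_neg (fun e : x = y => hy (e ▸ hx)),
        if_neg (fun e : x = t y => (moved y hy).2 (e ▸ hx))]
    have hfy : f y = z := if_pos rfl
    have hfty : f (t y) = t z := by
      simp [f, (moved y hy).1]
    have hcases : ∀ x ∈ S, x = y ∨ x = t y ∨ (x ∈ Γ ∧ t x ∈ Γ) := by
      intro x hx
      simp only [hS, Finset.mem_insert] at hx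
      rcases hx with rfl | rfl | rfl | rfl | h
      · exact Or.inr (Or.inr ⟨haΓ, hta ▸ hbΓ⟩)
      · exact Or.inr (Or.inr ⟨hbΓ, htb ▸ haΓ⟩)
      · exact Or.inl rfl
      · exact Or.inr (Or.inl rfl)
      · exact Or.inr (Or.inr ⟨(hE'Γ x h).1, (hE'Γ x h).2.2.2.symm ▸ (hE'Γ x h).1⟩)
    obtain ⟨g₀, hg₀, hg₀f⟩ := exists_map hG hkn.le S hSc.le f (by
      intro x hx w hw he
      rcases hcases x hx with rfl | rfl | ⟨hxΓ, -⟩ <;>
        rcases hcases w hw with rfl | rfl | ⟨hwΓ, -⟩
      · rfl
      · rw [hfy, hfty] at he; exact absurd he.symm (moved z hz).1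
      · rw [hfy, hfΓ w hwΓ] at he; exact absurd (he ▸ hwΓ) hz
      · rw [hfty, hfy] at he; exact absurd he (moved z hz).1
      · rfl
      · rw [hfty, hfΓ w hwΓ] at he; exact absurd (he ▸ hwΓ) (moved z hz).2
      · rw [hfΓ x hxΓ, hfy] at he; exact absurd (he ▸ hxΓ) hz
      · rw [hfΓ x hxΓ, hfty] at he; exact absurd (he ▸ hxΓ) (moved z hz).2
      · rwa [hfΓ x hxΓ, hfΓ w hwΓ] at he)
    have hc : ∀ x ∈ S, t (g₀ x) = g₀ (t x) := by
      intro x hx
      rw [hg₀f x hx, hg₀f (t x) ?_]
      · rcases hcases x hx with rfl | rfl | ⟨hxΓ, htxΓ⟩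
        · rw [hfy, hfty]
        · rw [hfty, htt, htt, hfy]
        · rw [hfΓ x hxΓ, hfΓ _ htxΓ]
      · simp only [hS, Finset.mem_insert] at hx ⊢
        rcases hx with rfl | rfl | rfl | rfl | h
        · exact Or.inr (Or.inl hta)
        · exact Or.inl htb
        · exact Or.inr (Or.inr (Or.inr (Or.inl rfl)))
        · exact Or.inr (Or.inr (Or.inl (htt _)))
        · exact Or.inr (Or.inr (Or.inr (Or.inr ((hE'Γ x h).2.2.2.symm ▸ h))))
    obtain ⟨g, hg, hgt, hgS⟩ := exists_commute_lift htG ht2 hg₀ hc (hodd _ (by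
      rw [Finset.card_image_of_injective _ g₀.injective, hSc]))
    have hgE' : ∀ x ∈ E', g x = x := fun x hx => by
      have hxS : x ∈ S := by simp [hS, hx]
      rw [hgS x hxS, hg₀f x hxS, hfΓ x (hE'Γ x hx).1]
    have hval : ∀ x ∈ S, g x = f x := fun x hx => by rw [hgS x hx, hg₀f x hx]
    refine ⟨g, hg, ?_, hgE', ?_, ?_, ?_⟩
    · rw [hval y (by simp [hS]), hfy]
    · rw [hval a (by simp [hS]), hfΓ a haΓ]
    · rw [hval b (by simp [hS]), hfΓ b hbΓ]
    · have hin : ∀ f ∈ E, f ∉ E' → g f ∈ E ∧ g f ∉ E' := by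
        intro f hf hf'
        refine ⟨?_, fun h => hf' (g.injective (hgE' _ h) ▸ h)⟩
        rw [← hFE]
        exact hFix.mpr (by rw [← Perm.mul_apply, ← hgt, Perm.mul_apply, htE f hf])
      have htwo : ∀ f ∈ E, f ∉ E' → f = f₁ ∨ f = f₂ := fun f hf hf' => by
        simp only [hE', Finset.mem_erase] at hf'
        tauto
      have e1 := hin f₁ hf₁ (by simp [hE'])
      have e2 := hin f₂ hf₂ (by simp [hE'])
      rcases htwo _ e1.1 e1.2 with h | h <;> rcases htwo _ e2.1 e2.2 with h' | h'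
      · exact absurd (g.injective (h.trans h'.symm)) h12
      · exact Or.inl ⟨h, h'⟩
      · exact Or.inr ⟨h, h'⟩
      · exact absurd (g.injective (h.trans h'.symm)) h12
  have hΓsplit : ∀ x ∈ Γ, x = a ∨ x = b ∨ x = f₁ ∨ x = f₂ ∨ x ∈ E' := by
    intro x hx
    simp only [hE', Finset.mem_erase, hmemE]
    tauto
  have fixes : ∀ g ∈ G, (∀ x ∈ E', g x = x) → g a = a → g b = b → g f₁ = f₁ → g f₂ = f₂ →
      g ∈ fixer G Γ := by
    intro g hg h1 h2 h3 h4 h5
    refine ⟨hg, fun x hx => ?_⟩
    rcases hΓsplit x hx with rfl | rfl | rfl | rfl | h <;> first | assumption | exact h1 x h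
  obtain ⟨g', hg', hy1, hE1, ha1, hb1, hp1⟩ := liftTo y' hy'
  obtain ⟨g'', hg'', hy2, hE2, ha2, hb2, hp2⟩ := liftTo y'' hy''
  rcases hp1 with ⟨h1, h1'⟩ | ⟨h1, h1'⟩
  · exact Or.inl ⟨g', fixes g' hg' hE1 ha1 hb1 h1 h1', hy1⟩
  rcases hp2 with ⟨h2, h2'⟩ | ⟨h2, h2'⟩
  · exact Or.inr (Or.inl ⟨g'', fixes g'' hg'' hE2 ha2 hb2 h2 h2', hy2⟩)
  refine Or.inr (Or.inr ⟨g'' * g'⁻¹, fixes _ (G.mul_mem hg'' (G.inv_mem hg'))
    (fun x hx => ?_) ?_ ?_ ?_ ?_, ?_⟩)
  all_goals rw [Perm.mul_apply]
  · rw [show g'⁻¹ x = x by rw [Perm.inv_eq_iff_eq]; exact (hE1 x hx).symm, hE2 x hx]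
  · rw [show g'⁻¹ a = a by rw [Perm.inv_eq_iff_eq]; exact ha1.symm, ha2]
  · rw [show g'⁻¹ b = b by rw [Perm.inv_eq_iff_eq]; exact hb1.symm, hb2]
  · rw [show g'⁻¹ f₁ = f₂ by rw [Perm.inv_eq_iff_eq]; exact h1'.symm, h2']
  · rw [show g'⁻¹ f₂ = f₁ by rw [Perm.inv_eq_iff_eq]; exact h1.symm, h2]
  · rw [show g'⁻¹ y' = y by rw [Perm.inv_eq_iff_eq]; exact hy1.symm, hy2]

/-- In the semiregular case of odd order, the two-orbit property holds or some set carries
all permutations. -/
theorem odd_case (hG : MulAction.IsMultiplyPretransitive G α k) (hk : 4 ≤ k)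
    (hkn : k < Fintype.card α) (hsemi : ∀ S : Finset α, k + 1 ≤ S.card → fixer G S = ⊥)
    (hodd : ∀ S : Finset α, S.card = k → Odd (Nat.card (fixer G S))) :
    (∃ Δ : Finset α, Δ.card = k + 1 ∧ alternatingGroup ↥Δ ≤ inducedPerms G Δ) ∨
    (∀ Γ : Finset α, Γ.card = k → ∀ y y' y'', y ∉ Γ → y' ∉ Γ → y'' ∉ Γ →
      (∃ h ∈ fixer G Γ, h y = y') ∨ (∃ h ∈ fixer G Γ, h y = y'') ∨
        ∃ h ∈ fixer G Γ, h y' = y'') := by
  classical
  let Fix : Perm α → Finset α := fun t => Finset.univ.filter fun x => t x = x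
  have hFix : ∀ {t : Perm α} {x : α}, x ∈ Fix t ↔ t x = x := by simp [Fix]
  have small : ∀ t ∈ G, t * t = 1 → t ≠ 1 → (Fix t).card < k := by
    intro t htG ht2 ht1
    by_contra hlt
    obtain ⟨S, hS, hSc⟩ := Finset.exists_subset_card_eq (s := Fix t) (n := k) (by omega)
    exact ht1 (eq_one_of_sq_of_odd (hodd S hSc) ⟨htG, fun x hx => hFix.mp (hS hx)⟩
      (by rw [sq, ht2]))
  by_cases hex : ∃ t ∈ G, t * t = 1 ∧ t ≠ 1 ∧ (Fix t).card = k - 1
  · left
    obtain ⟨t, htG, ht2, ht1, hFc⟩ := hex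
    -- swapping two fixed points
    have swapF : ∀ t ∈ G, t * t = 1 → (Fix t).card = k - 1 → ∀ a, t a ≠ a → ∀ f ∈ Fix t,
        ∀ f' ∈ Fix t, f ≠ f' → ∃ g ∈ G, g * g = 1 ∧ g f = f' ∧ g f' = f ∧
          Fix g = insert a (insert (t a) (((Fix t).erase f).erase f')) := by
      intro t htG ht2 hFc a ha f hf f' hf' hff
      have htt : ∀ x, t (t x) = x := fun x => by rw [← Perm.mul_apply, ht2, Perm.one_apply]
      set E := ((Fix t).erase f).erase f'
      have hEc : E.card = k - 3 := by
        rw [Finset.card_erase_of_mem (Finset.mem_erase.mpr ⟨hff.symm, hf'⟩),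
          Finset.card_erase_of_mem hf, hFc]; omega
      have hEF : ∀ x ∈ E, t x = x := fun x hx =>
        hFix.mp (Finset.mem_of_mem_erase (Finset.mem_of_mem_erase hx))
      have hEne : ∀ x ∈ E, x ≠ f ∧ x ≠ f' := fun x hx =>
        ⟨(Finset.mem_erase.mp (Finset.mem_of_mem_erase hx)).1, (Finset.mem_erase.mp hx).1⟩
      have htane : ∀ x, t x = x → x ≠ a ∧ x ≠ t a := fun x hx =>
        ⟨fun e => ha (e ▸ hx), fun e => ha (by rw [e, htt] at hx; exact hx.symm)⟩
      set S := insert f (insert a (insert (t a) E)) with hS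
      have hSc : S.card = k := by
        rw [hS, Finset.card_insert_of_notMem, Finset.card_insert_of_notMem,
          Finset.card_insert_of_notMem, hEc]
        · omega
        · exact fun h => (htane _ (hEF _ h)).2 rfl
        · simp only [Finset.mem_insert, not_or]
          exact ⟨ha.symm, fun h => (htane _ (hEF _ h)).1 rfl⟩
        · simp only [Finset.mem_insert, not_or]
          exact ⟨(htane _ (hFix.mp hf)).1, (htane _ (hFix.mp hf)).2, fun h => (hEne _ h).1 rfl⟩
      obtain ⟨g₀, hg₀, hg₀f⟩ := exists_map hG hkn.le S hSc.le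
        (fun x => if x = f then f' else x) (by
          intro x hx z hz he
          simp only at he
          have hnot : f' ∉ insert a (insert (t a) E) := by
            simp only [Finset.mem_insert, not_or]
            exact ⟨(htane _ (hFix.mp hf')).1, (htane _ (hFix.mp hf')).2,
              fun h => (hEne _ h).2 rfl⟩
          split_ifs at he with h1 h2 h2
          · exact h1.trans h2.symm
          · exact absurd (he ▸ (Finset.mem_insert.mp (Finset.mem_coe.mp hz)).resolve_left h2) hnot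
          · exact absurd (he ▸ (Finset.mem_insert.mp (Finset.mem_coe.mp hx)).resolve_left h1) hnot
          · exact he)
      have hc : ∀ x ∈ S, t (g₀ x) = g₀ (t x) := by
        intro x hx
        rcases Finset.mem_insert.mp hx with e | hx'
        · subst e
          rw [hFix.mp hf, hg₀f _ hx, if_pos rfl, hFix.mp hf']
        · have hxf : x ≠ f := by
            rintro rfl
            simp only [Finset.mem_insert] at hx'
            rcases hx' with h | h | h
            · exact (htane _ (hFix.mp hf)).1 h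
            · exact (htane _ (hFix.mp hf)).2 h
            · exact (hEne _ h).1 rfl
          have htx : t x ∈ S ∧ t x ≠ f := by
            refine ⟨?_, fun e => hxf (by rw [← htt x, e, hFix.mp hf])⟩
            simp only [hS, Finset.mem_insert] at hx' ⊢
            rcases hx' with rfl | rfl | h
            · right; right; left; rfl
            · right; left; exact htt a
            · right; right; right; rw [hEF x h]; exact h
          rw [hg₀f _ hx, if_neg hxf, hg₀f _ htx.1, if_neg htx.2]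
      obtain ⟨g, hg, hgt, hgS⟩ := exists_commute_lift htG ht2 hg₀ hc (hodd _ (by
        rw [Finset.card_image_of_injective _ g₀.injective, hSc]))
      have hgE : ∀ x ∈ insert a (insert (t a) E), g x = x := fun x hx => by
        have hxf : x ≠ f := by
          rintro rfl
          simp only [Finset.mem_insert] at hx
          rcases hx with h | h | h
          · exact (htane _ (hFix.mp hf)).1 h
          · exact (htane _ (hFix.mp hf)).2 h
          · exact (hEne _ h).1 rfl
        rw [hgS x (Finset.mem_insert_of_mem hx), hg₀f x (Finset.mem_insert_of_mem hx), if_neg hxf]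
      have hgf : g f = f' := by
        rw [hgS f (Finset.mem_insert_self _ _), hg₀f f (Finset.mem_insert_self _ _), if_pos rfl]
      have hgf' : g f' = f := by
        have h1 : t (g f') = g f' := by
          rw [← Perm.mul_apply, ← hgt, Perm.mul_apply, hFix.mp hf']
        have hne : g f' ≠ f' := fun e => hff (g.injective (hgf.trans e.symm))
        by_contra hne'
        have hmem : g f' ∈ E :=
          Finset.mem_erase.mpr ⟨hne, Finset.mem_erase.mpr ⟨hne', hFix.mpr h1⟩⟩
        have h2 := g.injective (hgE _ (by simp [hmem] : g f' ∈ insert a (insert (t a) E)))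
        exact hne h2
      refine ⟨g, hg, ?_, hgf, hgf', ?_⟩
      · have hmem : g * g ∈ fixer G (insert f' S) := by
          refine ⟨G.mul_mem hg hg, fun x hx => ?_⟩
          rw [Perm.mul_apply]
          rcases Finset.mem_insert.mp hx with rfl | hx
          · rw [hgf', hgf]
          rcases Finset.mem_insert.mp hx with rfl | hx
          · rw [hgf, hgf']
          rw [hgE x hx, hgE x hx]
        rwa [hsemi, Subgroup.mem_bot] at hmem
        rw [Finset.card_insert_of_notMem, hSc]
        simp only [hS, Finset.mem_insert, not_or]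
        exact ⟨hff.symm, (htane _ (hFix.mp hf')).1, (htane _ (hFix.mp hf')).2,
          fun h => (hEne _ h).2 rfl⟩
      · refine (Finset.eq_of_subset_of_card_le (fun x hx => hFix.mpr (hgE x hx)) ?_).symm
        have h1 : g ≠ 1 := fun e => hff (by rw [e] at hgf; simpa using hgf)
        have h2 : g * g = 1 := by
          have hmem : g * g ∈ fixer G (insert f' S) := by
            refine ⟨G.mul_mem hg hg, fun x hx => ?_⟩
            rw [Perm.mul_apply]
            rcases Finset.mem_insert.mp hx with rfl | hx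
            · rw [hgf', hgf]
            rcases Finset.mem_insert.mp hx with rfl | hx
            · rw [hgf, hgf']
            rw [hgE x hx, hgE x hx]
          rwa [hsemi, Subgroup.mem_bot] at hmem
          rw [Finset.card_insert_of_notMem, hSc]
          simp only [hS, Finset.mem_insert, not_or]
          exact ⟨hff.symm, (htane _ (hFix.mp hf')).1, (htane _ (hFix.mp hf')).2,
            fun h => (hEne _ h).2 rfl⟩
        have := small g hg h2 h1
        rw [Finset.card_insert_of_notMem, Finset.card_insert_of_notMem, hEc]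
        · omega
        · exact fun h => (htane _ (hEF _ h)).2 rfl
        · simp only [Finset.mem_insert, not_or]
          exact ⟨ha.symm, fun h => (htane _ (hEF _ h)).1 rfl⟩
    obtain ⟨a, ha⟩ : ∃ a, t a ≠ a := by
      by_contra h
      simp only [not_exists, not_not] at h
      exact ht1 (Equiv.ext h)
    obtain ⟨f₁, hf₁, f₂, hf₂, h12⟩ := Finset.one_lt_card.mp (show 1 < (Fix t).card by omega)
    obtain ⟨f₀, hf₀⟩ : (((Fix t).erase f₁).erase f₂).Nonempty := Finset.card_pos.mp (by
      rw [Finset.card_erase_of_mem (Finset.mem_erase.mpr ⟨h12.symm, hf₂⟩),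
        Finset.card_erase_of_mem hf₁, hFc]; omega)
    have hf₀t : f₀ ∈ Fix t := Finset.mem_of_mem_erase (Finset.mem_of_mem_erase hf₀)
    obtain ⟨g₁, hg₁, hg₁2, hg₁a, hg₁b, hg₁F⟩ := swapF t htG ht2 hFc a ha f₁ hf₁ f₂ hf₂ h12
    have htt : ∀ x, t (t x) = x := fun x => by rw [← Perm.mul_apply, ht2, Perm.one_apply]
    have htane : ∀ x, t x = x → x ≠ a ∧ x ≠ t a := fun x hx =>
      ⟨fun e => ha (e ▸ hx), fun e => ha (by rw [e, htt] at hx; exact hx.symm)⟩
    set Δ := insert a (insert (t a) (Fix t)) with hΔ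
    have hΔc : Δ.card = k + 1 := by
      rw [hΔ, Finset.card_insert_of_notMem, Finset.card_insert_of_notMem, hFc]
      · omega
      · exact fun h => (htane _ (hFix.mp h)).2 rfl
      · simp only [Finset.mem_insert, not_or]
        exact ⟨ha.symm, fun h => (htane _ (hFix.mp h)).1 rfl⟩
    refine ⟨Δ, hΔc, ?_⟩
    -- all transpositions with `f₀`
    have hf₀Δ : f₀ ∈ Δ := by simp [hΔ, hf₀t]
    have hsw : ∀ x : ↥Δ, (x : α) ≠ f₀ → Equiv.swap ⟨f₀, hf₀Δ⟩ x ∈ inducedPerms G Δ := by
      intro x hx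
      have key : ∀ g ∈ G, g f₀ = x → g x = f₀ →
          (∀ z ∈ Δ, z ≠ f₀ → z ≠ (x : α) → g z = z) →
          Equiv.swap ⟨f₀, hf₀Δ⟩ x ∈ inducedPerms G Δ := by
        intro g hg h1 h2 h3
        refine ⟨g, hg, fun z => ?_⟩
        rw [Equiv.swap_apply_def]
        split_ifs with e1 e2
        · subst e1; exact h1
        · subst e2; exact h2
        · exact h3 z z.2 (fun e => e1 (Subtype.ext e)) (fun e => e2 (Subtype.ext e))
      by_cases hxF : (x : α) ∈ Fix t
      · obtain ⟨g, hg, -, h1, h2, h3⟩ := swapF t htG ht2 hFc a ha f₀ hf₀t x hxF (Ne.symm hx)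
        refine key g hg h1 h2 fun z hz hz1 hz2 => hFix.mp ?_
        rw [h3]
        simp only [hΔ, Finset.mem_insert, Finset.mem_erase] at hz ⊢
        rcases hz with h | h | h
        · exact Or.inl h
        · exact Or.inr (Or.inl h)
        · exact Or.inr (Or.inr ⟨hz2, hz1, h⟩)
      · have hxg : (x : α) ∈ Fix g₁ := by
          rw [hg₁F]
          have := x.2
          simp only [hΔ, Finset.mem_insert] at this ⊢
          rcases this with h | h | h
          · exact Or.inl h
          · exact Or.inr (Or.inl h)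
          · exact absurd h hxF
        have hf₀g : f₀ ∈ Fix g₁ := by rw [hg₁F]; simp [hf₀]
        have hg₁c : (Fix g₁).card = k - 1 := by
          rw [hg₁F, Finset.card_insert_of_notMem, Finset.card_insert_of_notMem,
            Finset.card_erase_of_mem (Finset.mem_erase.mpr ⟨h12.symm, hf₂⟩),
            Finset.card_erase_of_mem hf₁, hFc]
          · omega
          · exact fun h => (htane _ (hFix.mp (Finset.mem_of_mem_erase
              (Finset.mem_of_mem_erase h)))).2 rfl
          · simp only [Finset.mem_insert, not_or]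
            exact ⟨ha.symm, fun h => (htane _ (hFix.mp (Finset.mem_of_mem_erase
              (Finset.mem_of_mem_erase h)))).1 rfl⟩
        obtain ⟨g, hg, -, h1, h2, h3⟩ := swapF g₁ hg₁ hg₁2 hg₁c f₁
          (by rw [hg₁a]; exact h12.symm) f₀ hf₀g x hxg (Ne.symm hx)
        refine key g hg h1 h2 fun z hz hz1 hz2 => hFix.mp ?_
        rw [h3, hg₁a, hg₁F]
        simp only [hΔ, Finset.mem_insert, Finset.mem_erase] at hz ⊢
        tauto
    have hall : inducedPerms G Δ = ⊤ := by
      rw [eq_top_iff, ← Equiv.Perm.closure_isSwap, Subgroup.closure_le]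
      rintro σ ⟨x, y, hxy, rfl⟩
      by_cases hx : (x : α) = f₀
      · have hx' : x = ⟨f₀, hf₀Δ⟩ := Subtype.ext hx
        rw [hx']
        exact hsw y fun e => hxy (hx'.trans (Subtype.ext e).symm)
      by_cases hy : (y : α) = f₀
      · have hy' : y = ⟨f₀, hf₀Δ⟩ := Subtype.ext hy
        rw [hy', Equiv.swap_comm]
        exact hsw x hx
      have e : Equiv.swap x y =
          Equiv.swap ⟨f₀, hf₀Δ⟩ x * Equiv.swap ⟨f₀, hf₀Δ⟩ y * Equiv.swap ⟨f₀, hf₀Δ⟩ x := by
        have h1 := Equiv.swap_apply_apply (Equiv.swap ⟨f₀, hf₀Δ⟩ x) (⟨f₀, hf₀Δ⟩ : ↥Δ) y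
        rw [Equiv.swap_apply_left, Equiv.swap_apply_of_ne_of_ne
          (fun e => hy (congrArg Subtype.val e)) hxy.symm, Equiv.swap_inv] at h1
        exact h1
      rw [e]
      exact mul_mem (mul_mem (hsw x hx) (hsw y hy)) (hsw x hx)
    rw [hall]
    exact le_top
  · right
    simp only [not_exists, not_and] at hex
    exact fun Γ hΓ y y' y'' hy hy' hy'' =>
      two_orbits_of_odd hG hk hkn hodd hex Γ hΓ hy hy' hy''

/-- In a `k`-transitive group, `4 ≤ k < n`, some `(k + 1)`-set carries all even permutations. -/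
theorem exists_induced_alternating {α : Type u} [Fintype α] [DecidableEq α]
    (G : Subgroup (Perm α)) {k : ℕ} (hk : 4 ≤ k) (hkn : k < Fintype.card α)
    (hG : MulAction.IsMultiplyPretransitive G α k) :
    ∃ Δ : Finset α, Δ.card = k + 1 ∧ alternatingGroup ↥Δ ≤ inducedPerms G Δ := by
  classical
  by_cases hsemi : ∀ S : Finset α, S.card = k + 1 → fixer G S = ⊥
  · have hsemi' : ∀ S : Finset α, k + 1 ≤ S.card → fixer G S = ⊥ := by
      intro S hS
      obtain ⟨T, hT, hTc⟩ := Finset.exists_subset_card_eq (s := S) (n := k + 1) hS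
      exact le_bot_iff.mp (hsemi T hTc ▸ fixer_anti hT)
    obtain ⟨Δ, -, hΔ⟩ := Finset.exists_subset_card_eq (s := (Finset.univ : Finset α))
      (n := k + 1) (by rw [Finset.card_univ]; omega)
    obtain ⟨Γ₀, -, hΓ₀⟩ := Finset.exists_subset_card_eq (s := (Finset.univ : Finset α))
      (n := k) (by rw [Finset.card_univ]; omega)
    rcases Nat.even_or_odd (Nat.card (fixer G Γ₀)) with he | ho
    · refine ⟨Δ, hΔ, alternating_le_of_two_orbits hG hkn (by omega)
        (fun Γ hΓ y y' y'' hy hy' hy'' => two_orbits_of_even hG (by omega) hkn hsemi'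
          (fun S hS => by rw [card_fixer_of_trans hG hkn.le hS.le (hΓ₀.trans hS.symm)]; exact he)
          Γ hΓ hy hy' hy'') Δ hΔ⟩
    · rcases odd_case hG hk hkn hsemi' (fun S hS => by
          rw [card_fixer_of_trans hG hkn.le hS.le (hΓ₀.trans hS.symm)]; exact ho) with h | h
      · exact h
      · exact ⟨Δ, hΔ, alternating_le_of_two_orbits hG hkn (by omega) h Δ hΔ⟩
  · simp only [not_forall] at hsemi
    obtain ⟨Δ₀, hΔ₀, hne⟩ := hsemi
    obtain ⟨F, G', hFk, hFn, hG', hlift⟩ := exists_smaller hG (by omega) hkn hΔ₀ hne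
    obtain ⟨Δ', hΔ'c, hΔ'⟩ := exists_induced_alternating G' hk (by rwa [Fintype.card_coe]) hG'
    refine ⟨Δ'.map (Function.Embedding.subtype _), by rw [Finset.card_map, hΔ'c], fun σ hσ => ?_⟩
    let e : ↥Δ' ≃ ↥(Δ'.map (Function.Embedding.subtype (· ∈ F))) := Equiv.ofBijective
      (fun x => ⟨((x : ↥F) : α), Finset.mem_map_of_mem _ x.2⟩)
      ⟨fun x y h => Subtype.ext (Subtype.ext (congrArg Subtype.val h :)), fun y => by
        obtain ⟨x, hx, he⟩ := Finset.mem_map.mp y.2
        exact ⟨⟨x, hx⟩, Subtype.ext he⟩⟩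
    have hσ' : e.symm.permCongr σ ∈ alternatingGroup ↥Δ' := by
      rw [mem_alternatingGroup, sign_permCongr]
      exact mem_alternatingGroup.mp hσ
    obtain ⟨g', hg', hx'⟩ := hΔ' hσ'
    obtain ⟨g, hg, hx⟩ := hlift g' hg'
    refine ⟨g, hg, fun y => ?_⟩
    obtain ⟨x, rfl⟩ := e.surjective y
    have h1 := hx (x : ↥F)
    rw [hx' x, Equiv.permCongr_apply, Equiv.symm_symm] at h1
    have h2 : (((e.symm (σ (e x)) : ↥Δ') : ↥F) : α) = (σ (e x) : α) := by
      conv_rhs => rw [← e.apply_symm_apply (σ (e x))]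
      rfl
    rw [← h2]
    exact h1
termination_by Fintype.card α
decreasing_by simpa [Fintype.card_coe] using hFn

end CfsgLib.LivWag
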