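import Cfsg.Agent.Lib.LivWag.Induced
import Cfsg.Agent.Lib.PermGroup.PrimeSylow
import Cfsg.Agent.S0744

/-!
Groups which are `(j - 1)`-transitive but not `j`-transitive, and both `j`- and
`(j + 1)`-homogeneous, for `j ≤ 4`.

The fixers of `j`-sets are trivial, the fixers of `(j - 1)`-sets have odd order, and only few
orders remain; three of them are excluded by Sylow's theorem in prime degree.
-/

namespace CfsgLib.LivWag

open Equiv Equiv.Perm

variable {α : Type*} [Fintype α] [DecidableEq α] {G : Subgroup (Perm α)} {j : ℕ}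

theorem card_fixingSubgroup (S : Finset α) :
    Nat.card (fixingSubgroup G (S : Set α)) = Nat.card (fixer G S) :=
  Nat.card_congr
    { toFun := fun g => ⟨(g.1 : Perm α), g.1.2, fun x hx =>
        (mem_fixingSubgroup_iff G).mp g.2 x hx⟩
      invFun := fun g => ⟨⟨g, g.2.1⟩, (mem_fixingSubgroup_iff G).mpr fun x hx => g.2.2 x hx⟩
      left_inv := fun g => rfl
      right_inv := fun g => rfl }

/-- Two homogeneities without transitivity make the fixers trivial. -/
theorem fixer_eq_bot (hj : 1 ≤ j) (hjn : j + 1 ≤ Fintype.card α)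
    (hh : MulAction.IsPretransitive G (Set.powersetCard α j))
    (hh' : MulAction.IsPretransitive G (Set.powersetCard α (j + 1)))
    (hnt : ¬ MulAction.IsMultiplyPretransitive G α j) (S : Finset α) (hS : j ≤ S.card) :
    fixer G S = ⊥ := by
  obtain ⟨S₁, hS₁, hS₁c⟩ := Finset.exists_subset_card_eq (s := S) (n := j) hS
  refine le_bot_iff.mp ((fixer_anti hS₁).trans ?_)
  rw [le_bot_iff]
  by_contra hne
  obtain ⟨S₂, -, hS₂⟩ := Finset.exists_subset_card_eq (s := (Finset.univ : Finset α))
    (n := j + 1) (by rw [Finset.card_univ]; omega)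
  refine hnt (Cfsg.Agent.S0744.result G (k := j + 1) (by omega) hjn
    (Nat.card (fixer G S₁)) (Nat.card (fixer G S₂)) ?_ ?_ ?_)
  · exact (Subgroup.one_lt_card_iff_ne_bot _).mpr hne
  · intro s hs
    rw [card_fixingSubgroup]
    exact card_fixer_of_homogeneous hh (by omega) hS₁c
  · intro s hs
    rw [card_fixingSubgroup]
    exact card_fixer_of_homogeneous hh' hs hS₂

/-- Restriction to an invariant set on which nothing but the identity is trivial. -/
theorem card_inducedPerms {H : Subgroup (Perm α)} {S : Finset α}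
    (hmaps : ∀ g ∈ H, ∀ x, g x ∈ S ↔ x ∈ S) (hbot : fixer H S = ⊥) :
    Nat.card (inducedPerms H S) = Nat.card H := by
  symm
  refine Nat.card_congr (Equiv.ofBijective
    (fun g : H => (⟨(g : Perm α).subtypePerm (hmaps g g.2), g, g.2, fun x => rfl⟩ :
      inducedPerms H S)) ⟨fun g h e => ?_, fun σ => ?_⟩)
  · have hx : ∀ x : ↥S, (g : Perm α) x = (h : Perm α) x := fun x =>
      congrArg Subtype.val (Equiv.ext_iff.mp (congrArg Subtype.val e) x :)
    have : ((h : Perm α)⁻¹ * g) ∈ fixer H S :=
      ⟨H.mul_mem (H.inv_mem h.2) g.2, fun x hxS => by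
        rw [Perm.mul_apply, Perm.inv_eq_iff_eq]; exact hx ⟨x, hxS⟩⟩
    rw [hbot, Subgroup.mem_bot, inv_mul_eq_one] at this
    exact Subtype.ext this.symm
  · obtain ⟨g, hg, hgx⟩ := σ.2
    exact ⟨⟨g, hg⟩, Subtype.ext (Equiv.ext fun x => Subtype.ext (hgx x))⟩

/-- Induced permutations come from the set stabiliser. -/
theorem inducedPerms_setStab (S : Finset α) :
    inducedPerms (setStab G S) S = inducedPerms G S := by
  apply le_antisymm
  · rintro σ ⟨g, hg, hgx⟩
    exact ⟨g, hg.1, hgx⟩
  · rintro σ ⟨g, hg, hgx⟩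
    exact ⟨g, mem_setStab_of_maps hg (fun x hx => by rw [hgx ⟨x, hx⟩]; exact (σ _).2), hgx⟩

/-- Orbit counting on sets. -/
theorem card_eq_choose_mul {k : ℕ} (hh : MulAction.IsPretransitive G (Set.powersetCard α k))
    {S : Finset α} (hS : S.card = k) :
    Nat.card G = (Fintype.card α).choose k * Nat.card (setStab G S) := by
  set s : Set.powersetCard α k := ⟨S, hS⟩
  have h1 := MulAction.orbitProdStabilizerEquivGroup G s
  have h2 : Nat.card (MulAction.stabilizer G s) = Nat.card (setStab G S) :=
    Nat.card_congr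
      { toFun := fun g => ⟨(g.1 : Perm α), g.1.2, congrArg Subtype.val g.2⟩
        invFun := fun g => ⟨⟨g, g.2.1⟩, Subtype.ext g.2.2⟩
        left_inv := fun g => rfl
        right_inv := fun g => rfl }
  rw [← Nat.card_congr h1, Nat.card_prod, h2, MulAction.orbit_eq_univ,
    Nat.card_congr (Equiv.Set.univ _), Set.powersetCard.card, Nat.card_eq_fintype_card]

/-- Orbit counting on tuples. -/
theorem card_eq_descFactorial_mul {k : ℕ} (hG : MulAction.IsMultiplyPretransitive G α k)
    (hk : k ≤ Fintype.card α) (S : Finset α) (hS : S.card ≤ k) :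
    Nat.card G = (Fintype.card α).descFactorial S.card * Nat.card (fixer G S) := by
  induction S using Finset.induction_on with
  | empty =>
    rw [Finset.card_empty, Nat.descFactorial_zero, one_mul]
    congr 2
    ext g
    simp [mem_fixer]
  | insert y S hy ih =>
    rw [Finset.card_insert_of_notMem hy] at hS
    rw [ih (by omega), card_fixer_eq_mul hy (fun z hz => exists_fixer_map hG hk (by omega) hy hz),
      Finset.card_insert_of_notMem hy, Nat.descFactorial_succ]
    ring

/-- A transitive group of prime degree `p` and order `p * m`, where `m` admits only one Sylow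
subgroup, has order dividing `p * (p - 1)`. -/
theorem dvd_of_prime_degree {β : Type*} [Fintype β] [DecidableEq β] {p m : ℕ} (hp : p.Prime)
    (hβ : Fintype.card β = p) (R : Subgroup (Perm β)) [MulAction.IsPretransitive R β]
    (hR : Nat.card R = p * m) (huniq : ∀ x ∈ m.divisors, x % p = 1 → x = 1) : m ∣ p - 1 := by
  have := Fact.mk hp
  obtain ⟨P⟩ : Nonempty (Sylow p R) := inferInstance
  obtain ⟨d, hd, -, hcard, hmod⟩ := PermGroup.sylow_data hβ R P
  rw [hR, mul_assoc] at hcard
  have hm : m = d * Nat.card (Sylow p R) := Nat.eq_of_mul_eq_mul_left hp.pos hcard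
  have hm0 : m ≠ 0 := fun e => by
    rw [e, mul_zero] at hR; exact absurd hR Nat.card_pos.ne'
  have h1 : Nat.card (Sylow p R) = 1 := huniq _ (Nat.mem_divisors.mpr ⟨⟨d, by rw [hm]; ring⟩, hm0⟩)
    (by rw [hmod, Nat.mod_eq_of_lt hp.one_lt])
  rwa [hm, h1, mul_one]

/-- Groups of order six on four points have transpositions. -/
theorem exists_swap_of_card_six {β : Type*} [Fintype β] [DecidableEq β]
    (hβ : Fintype.card β = 4) (L : Subgroup (Perm β)) (hL : Nat.card L = 6) :
    ∃ s ∈ L, s.IsSwap := by
  have h2 : Fact (Nat.Prime 2) := ⟨Nat.prime_two⟩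
  have h3 : Fact (Nat.Prime 3) := ⟨Nat.prime_three⟩
  obtain ⟨⟨s, hsL⟩, hs⟩ := exists_prime_orderOf_dvd_card' (G := L) 2 (by rw [hL]; norm_num)
  obtain ⟨⟨c, hcL⟩, hc⟩ := exists_prime_orderOf_dvd_card' (G := L) 3 (by rw [hL]; norm_num)
  rw [Subgroup.orderOf_mk] at hs hc
  have hc3 : c.support.card = 3 := by
    obtain ⟨k, hk⟩ := cycleType_prime_order (hc ▸ Nat.prime_three)
    have h1 : c.cycleType.sum ≤ 4 := by
      rw [sum_cycleType, ← hβ, ← Finset.card_univ]; exact Finset.card_le_univ _
    rw [hk, hc, Multiset.sum_replicate, smul_eq_mul] at h1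
    rw [← sum_cycleType, hk, hc, Multiset.sum_replicate, smul_eq_mul]
    omega
  by_cases hp : ∃ p, s p = p
  · refine ⟨s, hsL, ?_⟩
    obtain ⟨p, hp⟩ := hp
    obtain ⟨k, hk⟩ := cycleType_prime_order (hs ▸ Nat.prime_two)
    have h1 : s.cycleType.sum ≤ 3 := by
      rw [sum_cycleType]
      have : s.support ⊆ Finset.univ.erase p := fun x hx =>
        Finset.mem_erase.mpr ⟨fun e => mem_support.mp hx (e ▸ hp), Finset.mem_univ _⟩
      have := Finset.card_le_card this
      rw [Finset.card_erase_of_mem (Finset.mem_univ _), Finset.card_univ, hβ] at this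
      omega
    rw [hk, hs, Multiset.sum_replicate, smul_eq_mul] at h1
    obtain rfl : k = 0 := by omega
    rw [← card_support_eq_two, ← sum_cycleType, hk, hs]
    rfl
  exfalso
  simp only [not_exists] at hp
  obtain ⟨p, hpc⟩ : ∃ p, p ∉ c.support := by
    by_contra h
    simp only [not_exists, not_not] at h
    rw [Finset.eq_univ_iff_forall.mpr h, Finset.card_univ, hβ] at hc3
    omega
  have hcp : c p = p := notMem_support.mp hpc
  -- the orbit of `p` is everything
  have horb : MulAction.orbit L p = Set.univ := by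
    rw [Set.eq_univ_iff_forall]
    intro x
    by_cases hx : x = p
    · rw [hx]; exact MulAction.mem_orbit_self p
    have hs' : s p ∈ c.support := by
      by_contra h
      have := Finset.card_le_card (show c.support ⊆ (Finset.univ.erase p).erase (s p) from
        fun y hy => Finset.mem_erase.mpr ⟨fun e => h (e ▸ hy), Finset.mem_erase.mpr
          ⟨fun e => hpc (e ▸ hy), Finset.mem_univ _⟩⟩)
      rw [Finset.card_erase_of_mem (Finset.mem_erase.mpr ⟨hp p, Finset.mem_univ _⟩),
        Finset.card_erase_of_mem (Finset.mem_univ _), Finset.card_univ, hβ, hc3] at this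
      omega
    have hsupp : c.support = Finset.univ.erase p := Finset.eq_of_subset_of_card_le
      (fun y hy => Finset.mem_erase.mpr ⟨fun e => hpc (e ▸ hy), Finset.mem_univ _⟩)
      (by rw [Finset.card_erase_of_mem (Finset.mem_univ _), Finset.card_univ, hβ, hc3])
    have hxs : x ∈ c.support := hsupp ▸ Finset.mem_erase.mpr ⟨hx, Finset.mem_univ _⟩
    obtain ⟨i, hi⟩ := ((card_support_eq_three_iff.mp hc3).isCycle).exists_pow_eq
      (mem_support.mp hs') (mem_support.mp hxs)
    refine ⟨⟨c ^ i * s, mul_mem (pow_mem hcL i) hsL⟩, ?_⟩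
    change (c ^ i * s) p = x
    rw [Perm.mul_apply, hi]
  have h1 := Nat.card_congr (MulAction.orbitProdStabilizerEquivGroup L p)
  rw [Nat.card_prod, horb, Nat.card_congr (Equiv.Set.univ _), Nat.card_eq_fintype_card, hβ, hL] at h1
  omega

/-- The arithmetic of the small cases. -/
theorem small_arith : ∀ j ∈ Finset.Icc 2 4, ∀ l ∈ (Nat.factorial j).divisors,
    ∀ d ∈ ((j + 1) * l).divisors, 2 ≤ d → l ≠ Nat.factorial j →
    (d + 1) * l % Nat.factorial j = 0 → (d + 1) * l / Nat.factorial j % 2 = 1 →
    ((j, j + d, l) ∈ ([(3, 5, 2), (3, 11, 2), (4, 7, 6), (4, 12, 8), (4, 24, 8), (4, 6, 8),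
      (4, 9, 4), (4, 9, 12)] : List (ℕ × ℕ × ℕ))) := by
  decide +kernel

set_option maxHeartbeats 800000 in
/-- The exceptional orders. -/
theorem small_cases (hj : 2 ≤ j) (hj4 : j ≤ 4) (hjn : j + 2 ≤ Fintype.card α)
    (ht : MulAction.IsMultiplyPretransitive G α (j - 1))
    (hnt : ¬ MulAction.IsMultiplyPretransitive G α j)
    (hh : MulAction.IsPretransitive G (Set.powersetCard α j))
    (hh' : MulAction.IsPretransitive G (Set.powersetCard α (j + 1))) :
    (Fintype.card α = 5 ∧ j = 3 ∧ Nat.card G = 20) ∨
    (Fintype.card α = 6 ∧ j = 4 ∧ Nat.card G = 120) ∨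
    (Fintype.card α = 9 ∧ j = 4 ∧ (Nat.card G = 504 ∨ Nat.card G = 1512)) := by
  classical
  set n := Fintype.card α with hn
  have hbot := fixer_eq_bot (by omega) (by omega) hh hh' hnt
  -- every transposition of a set, induced, would give transitivity
  have hswaps : (∀ (D : Finset α) (a b : α), D.card = j - 2 → a ∉ D → b ∉ D → a ≠ b →
      ∃ g ∈ G, g a = b ∧ g b = a ∧ ∀ x ∈ D, g x = x) → False := by
    intro hall
    apply hnt
    rw [MulAction.isMultiplyPretransitive_iff]
    intro u v
    set S := Finset.univ.image u with hS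
    set T := Finset.univ.image v with hT
    have hSc : S.card = j := by rw [hS, Finset.card_image_of_injective _ u.injective]; simp
    have hTc : T.card = j := by rw [hT, Finset.card_image_of_injective _ v.injective]; simp
    have htop : inducedPerms G T = ⊤ := by
      rw [eq_top_iff, ← Equiv.Perm.closure_isSwap, Subgroup.closure_le]
      rintro σ ⟨x, y, hxy, rfl⟩
      have hne : (x : α) ≠ y := fun e => hxy (Subtype.ext e)
      obtain ⟨g, hg, h1, h2, h3⟩ := hall ((T.erase x).erase y) x y (by
        rw [Finset.card_erase_of_mem (Finset.mem_erase.mpr ⟨hne.symm, y.2⟩),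
          Finset.card_erase_of_mem x.2, hTc]; omega) (by simp) (by simp) hne
      refine ⟨g, hg, fun z => ?_⟩
      rw [Equiv.swap_apply_def]
      split_ifs with e1 e2
      · rw [e1]; exact h1
      · rw [e2]; exact h2
      · exact h3 z (Finset.mem_erase.mpr ⟨fun e => e2 (Subtype.ext e),
          Finset.mem_erase.mpr ⟨fun e => e1 (Subtype.ext e), z.2⟩⟩)
    obtain ⟨g, hg, hgST⟩ := exists_image_eq hh hSc hTc
    have hmem : ∀ i, g (u i) ∈ T := fun i => by
      rw [← hgST]; exact Finset.mem_image_of_mem g (Finset.mem_image_of_mem _ (Finset.mem_univ i))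
    let p : Fin j ≃ ↥T := Equiv.ofBijective (fun i => ⟨g (u i), hmem i⟩)
      ((Fintype.bijective_iff_injective_and_card _).mpr
        ⟨fun a b hab => u.injective (g.injective (congrArg Subtype.val hab)), by simp [hTc]⟩)
    let q : Fin j ≃ ↥T := Equiv.ofBijective
      (fun i => ⟨v i, Finset.mem_image_of_mem _ (Finset.mem_univ i)⟩)
      ((Fintype.bijective_iff_injective_and_card _).mpr
        ⟨fun a b hab => v.injective (congrArg Subtype.val hab), by simp [hTc]⟩)
    obtain ⟨h', hh', hx⟩ :=
      (show p.symm.trans q ∈ inducedPerms G T by rw [htop]; exact Subgroup.mem_top _)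
    refine ⟨⟨h' * g, G.mul_mem hh' hg⟩, ?_⟩
    ext i
    change h' (g (u i)) = v i
    rw [show g (u i) = (p i : α) from rfl, hx (p i), Equiv.trans_apply, Equiv.symm_apply_apply]
    rfl
  -- the fixers of `j - 1` points
  obtain ⟨U, -, hU⟩ := Finset.exists_subset_card_eq (s := (Finset.univ : Finset α))
    (n := j - 1) (by rw [Finset.card_univ]; omega)
  set τ := Nat.card (fixer G U)
  have hτodd : Odd τ := by
    rw [← Nat.not_even_iff_odd]
    intro he
    apply hswaps
    intro D a b hD haD hbD hab
    have hinv : ∀ e ∈ (insert a D)ᶜ, ∃ t ∈ G, t * t = 1 ∧ t e = e ∧ (∀ x ∈ D, t x = x) ∧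
        ∀ x, t x = x → x ∈ insert e D := by
      intro e he'
      simp only [Finset.mem_compl, Finset.mem_insert, not_or] at he'
      have hc : (insert e D).card = j - 1 := by
        rw [Finset.card_insert_of_notMem he'.2, hD]; omega
      have h2 : 2 ∣ Nat.card (fixer G (insert e D)) := by
        rw [card_fixer_of_trans ht (by omega) hc.le (hU.trans hc.symm)]
        exact he.two_dvd
      obtain ⟨t, ht'⟩ := exists_prime_orderOf_dvd_card' (G := fixer G (insert e D)) 2 h2
      rw [← Subgroup.orderOf_coe] at ht'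
      refine ⟨t, t.2.1, by rw [← sq, ← ht', pow_orderOf_eq_one],
        t.2.2 e (Finset.mem_insert_self _ _), fun x hx => t.2.2 x (Finset.mem_insert_of_mem hx),
        fun x hx => ?_⟩
      by_contra hxm
      have hmem : (t : Perm α) ∈ fixer G (insert x (insert e D)) := ⟨t.2.1, fun z hz => by
        rcases Finset.mem_insert.mp hz with rfl | hz
        · exact hx
        · exact t.2.2 z hz⟩
      rw [hbot _ (by rw [Finset.card_insert_of_notMem hxm, hc]; omega), Subgroup.mem_bot] at hmem
      rw [hmem, orderOf_one] at ht'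
      omega
    choose! t htG ht2 hte htD htfix using hinv
    have htt : ∀ e ∈ (insert a D)ᶜ, ∀ x, t e (t e x) = x := fun e he x => by
      rw [← Perm.mul_apply, ht2 e he, Perm.one_apply]
    have hta : ∀ e ∈ (insert a D)ᶜ, t e a ≠ a := fun e he h => by
      have := htfix e he a h
      simp only [Finset.mem_compl, Finset.mem_insert, not_or] at he this
      rcases this with h | h
      · exact he.1 h.symm
      · exact haD h
    have hmaps : Set.MapsTo (fun e => t e a) ((insert a D)ᶜ : Finset α) ((insert a D)ᶜ : Finset α) := by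
      intro e he
      simp only [Finset.mem_coe] at he ⊢
      simp only [Finset.mem_compl, Finset.mem_insert, not_or] at *
      refine ⟨hta e (by simpa using he), fun h => haD ?_⟩
      have := htD e (by simpa using he) _ h
      rw [htt e (by simpa using he)] at this
      exact this.symm ▸ h
    have hinj : Set.InjOn (fun e => t e a) ((insert a D)ᶜ : Finset α) := by
      intro e he e' he' heq
      simp only [Finset.mem_coe] at he he'
      simp only at heq
      have hmem : t e * t e' ∈ fixer G (insert a (insert (t e' a) D)) := by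
        refine ⟨G.mul_mem (htG e he) (htG e' he'), fun x hx => ?_⟩
        rw [Perm.mul_apply]
        rcases Finset.mem_insert.mp hx with rfl | hx
        · rw [← heq, htt e he]
        rcases Finset.mem_insert.mp hx with rfl | hx
        · rw [htt e' he', heq]
        rw [htD e' he' x hx, htD e he x hx]
      have hta' := Finset.mem_coe.mpr he'
      have hb' := hmaps hta'
      simp only [Finset.mem_coe, Finset.mem_compl, Finset.mem_insert, not_or] at hb'
      rw [hbot _ (by
        rw [Finset.card_insert_of_notMem (by simp [haD, (hta e' he').symm]),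
          Finset.card_insert_of_notMem hb'.2, hD]; omega), Subgroup.mem_bot] at hmem
      have h1 : t e = t e' := by
        calc t e = t e * (t e' * t e') := by rw [ht2 e' he', mul_one]
          _ = t e' := by rw [← mul_assoc, hmem, one_mul]
      have := htfix e' he' e (by rw [← h1]; exact hte e he)
      rcases Finset.mem_insert.mp this with h | h
      · exact h
      · simp [h] at he
    obtain ⟨e, he, heb⟩ := Finset.surjOn_of_injOn_of_card_le (fun e => t e a) hmaps hinj le_rfl
      (show b ∈ (((insert a D)ᶜ : Finset α) : Set α) by simp [hab.symm, hbD])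
    simp only [Finset.mem_coe] at he
    simp only at heb
    exact ⟨t e, htG e he, heb, by rw [← heb, htt e he], htD e he⟩
  -- the induced group
  obtain ⟨Γ, -, hΓ⟩ := Finset.exists_subset_card_eq (s := (Finset.univ : Finset α))
    (n := j) (by rw [Finset.card_univ]; omega)
  set L := inducedPerms G Γ with hL
  set l := Nat.card L
  have hl : Nat.card G = n.choose j * l := by
    rw [card_eq_choose_mul hh hΓ]
    congr 1
    change _ = Nat.card (inducedPerms G Γ)
    rw [← inducedPerms_setStab, card_inducedPerms (fun g hg x => apply_mem_of_setStab hg)]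
    refine le_bot_iff.mp ((?_ : fixer (setStab G Γ) Γ ≤ fixer G Γ).trans (hbot Γ hΓ.ge).le)
    exact fun g hg => ⟨hg.1.1, hg.2⟩
  have hlt : Nat.card G = n.descFactorial (j - 1) * τ := by
    rw [card_eq_descFactorial_mul ht (by omega) U hU.le, hU]
  have hldvd : l ∣ j.factorial := by
    have := Subgroup.card_subgroup_dvd_card L
    rwa [Nat.card_perm, Nat.card_eq_fintype_card (α := ↥Γ), Fintype.card_coe, hΓ] at this
  have hlne : l ≠ j.factorial := by
    intro e
    apply hswaps
    intro D a b hD ha hb hab
    set T := insert a (insert b D)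
    have hTc : T.card = j := by
      rw [Finset.card_insert_of_notMem (by simp [hab, ha]), Finset.card_insert_of_notMem hb, hD]
      omega
    have hcT : Nat.card (inducedPerms G T) = j.factorial := by
      rw [← e, ← inducedPerms_setStab, card_inducedPerms (fun g hg x => apply_mem_of_setStab hg)]
      · have := card_eq_choose_mul hh hTc
        rw [hl] at this
        exact (Nat.eq_of_mul_eq_mul_left (Nat.choose_pos (by omega)) this).symm
      · refine le_bot_iff.mp ((?_ : fixer (setStab G T) T ≤ fixer G T).trans (hbot T hTc.ge).le)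
        exact fun g hg => ⟨hg.1.1, hg.2⟩
    have htop : inducedPerms G T = ⊤ := Subgroup.eq_top_of_card_eq _ (by
      rw [hcT, Nat.card_perm, Nat.card_eq_fintype_card, Fintype.card_coe, hTc])
    obtain ⟨g, hg, hx⟩ : Equiv.swap (⟨a, by simp [T]⟩ : ↥T) ⟨b, by simp [T]⟩ ∈ inducedPerms G T :=
      htop ▸ Subgroup.mem_top _
    refine ⟨g, hg, ?_, ?_, fun x hxD => ?_⟩
    · have := hx ⟨a, by simp [T]⟩
      rwa [Equiv.swap_apply_left] at this
    · have := hx ⟨b, by simp [T]⟩
      rwa [Equiv.swap_apply_right] at this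
    · have := hx ⟨x, by simp [T, hxD]⟩
      rwa [Equiv.swap_apply_of_ne_of_ne
        (fun h => ne_of_mem_of_not_mem hxD ha (Subtype.ext_iff.mp h))
        (fun h => ne_of_mem_of_not_mem hxD hb (Subtype.ext_iff.mp h))] at this
  have hdiv : n - j ∣ (j + 1) * l := by
    obtain ⟨S, -, hS⟩ := Finset.exists_subset_card_eq (s := (Finset.univ : Finset α))
      (n := j + 1) (by rw [Finset.card_univ]; omega)
    refine ⟨Nat.card (setStab G S), ?_⟩
    have h1 := card_eq_choose_mul hh' hS
    rw [hl] at h1
    refine Nat.eq_of_mul_eq_mul_left (Nat.choose_pos (show j ≤ n by omega)) ?_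
    calc n.choose j * ((j + 1) * l) = n.choose j * l * (j + 1) := by ring
      _ = n.choose (j + 1) * (j + 1) * Nat.card (setStab G S) := by rw [h1]; ring
      _ = _ := by rw [Nat.choose_succ_right_eq]; ring
  have hτl : τ * j.factorial = (n - (j - 1)) * l := by
    have hpos : 0 < n.descFactorial (j - 1) := Nat.pos_of_ne_zero fun h => by
      rw [Nat.descFactorial_eq_zero_iff_lt] at h; omega
    refine Nat.eq_of_mul_eq_mul_left hpos ?_
    rw [← mul_assoc, ← hlt, hl, ← mul_assoc, mul_comm (n.descFactorial (j - 1)) (n - (j - 1)),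
      ← Nat.descFactorial_succ, show j - 1 + 1 = j by omega, Nat.descFactorial_eq_factorial_mul_choose]
    ring
  -- no transpositions in degree seven
  have hseven : ¬ (j = 4 ∧ n = 7 ∧ l = 6) := by
    rintro ⟨rfl, hn7, hl6⟩
    obtain ⟨s, ⟨g, hg, hgs⟩, x, y, hxy, rfl⟩ :=
      exists_swap_of_card_six (β := ↥Γ) (by rw [Fintype.card_coe, hΓ]) L hl6
    set D := (Γ.erase x).erase y with hD
    have hne : (x : α) ≠ y := fun e => hxy (Subtype.ext e)
    have hDc : D.card = 2 := by
      rw [hD, Finset.card_erase_of_mem (Finset.mem_erase.mpr ⟨hne.symm, y.2⟩),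
        Finset.card_erase_of_mem x.2, hΓ]
    have hgx : g x = y := by rw [hgs x, Equiv.swap_apply_left]
    have hgy : g y = x := by rw [hgs y, Equiv.swap_apply_right]
    have hgD : ∀ z ∈ D, g z = z := by
      intro z hz
      simp only [hD, Finset.mem_erase] at hz
      rw [hgs ⟨z, hz.2.2⟩, Equiv.swap_apply_of_ne_of_ne (fun e => hz.2.1 (congrArg Subtype.val e))
        (fun e => hz.1 (congrArg Subtype.val e))]
    have hins : insert (x : α) (insert (y : α) D) = Γ := by
      rw [hD, Finset.insert_erase (Finset.mem_erase.mpr ⟨hne.symm, y.2⟩), Finset.insert_erase x.2]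
    obtain ⟨t, htG, ht2, htx, -, htD⟩ := exists_involution_of_swap hg hgx hgy hgD (by
      rw [hins, hbot Γ hΓ.ge, Subgroup.card_bot]; exact odd_one)
    have ht1 : t ≠ 1 := fun e => hne (by rw [e] at htx; simpa using htx)
    -- an involution on seven points fixing two fixes a third
    obtain ⟨e, heD, hte⟩ : ∃ e, e ∉ D ∧ t e = e := by
      by_contra hno
      simp only [not_exists, not_and] at hno
      have hsup : t.support = Dᶜ := by
        ext z
        rw [mem_support, Finset.mem_compl]
        exact ⟨fun h hz => h (htD z hz), hno z⟩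
      have hall : ∀ k ∈ t.cycleType, 2 ∣ k := fun k hk => by
        have h1 : k ∣ 2 := (dvd_of_mem_cycleType hk).trans (orderOf_dvd_of_pow_eq_one (by rw [sq, ht2]))
        have h2 := two_le_of_mem_cycleType hk
        have := Nat.le_of_dvd two_pos h1
        omega
      have h1 := Multiset.dvd_sum hall
      rw [sum_cycleType, hsup, Finset.card_compl, hDc] at h1
      rw [← hn, hn7] at h1
      norm_num at h1
    refine ht1 (eq_one_of_sq_of_odd ?_ (H := fixer G (insert e D)) ⟨htG, fun z hz => ?_⟩
      (by rw [sq, ht2]))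
    · rw [card_fixer_of_trans ht (by omega) (by rw [Finset.card_insert_of_notMem heD, hDc]) (by
        rw [hU, Finset.card_insert_of_notMem heD, hDc])]
      exact hτodd
    · rcases Finset.mem_insert.mp hz with rfl | hz
      · exact hte
      · exact htD z hz
  -- Sylow in prime degree
  have hSylow : ¬ (j = 3 ∧ n = 11 ∧ l = 2) ∧ ¬ (j = 4 ∧ n = 12 ∧ l = 8) ∧
      ¬ (j = 4 ∧ n = 24 ∧ l = 8) := by
    have hpoint : ∀ p m : ℕ, p.Prime → n = p + 1 → j = 4 → n.choose j * l = n * (p * m) →
        (∀ x ∈ m.divisors, x % p = 1 → x = 1) → m ∣ p - 1 := by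
      intro p m hp hnp hj hc huniq
      subst hj
      obtain ⟨x⟩ : Nonempty α := Fintype.card_pos_iff.mp (by omega)
      set T : Finset α := Finset.univ.erase x with hT
      have hmaps : ∀ g ∈ fixer G {x}, ∀ z, g z ∈ T ↔ z ∈ T := by
        intro g hg z
        have hgx := hg.2 x (Finset.mem_singleton_self x)
        simp only [hT, Finset.mem_erase, Finset.mem_univ, and_true]
        exact ⟨fun h e => h (e ▸ hgx), fun h e => h (g.injective (e.trans hgx.symm))⟩
      have hcR : Nat.card (inducedPerms (fixer G {x}) T) = p * m := by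
        rw [card_inducedPerms hmaps]
        · have h1 := card_eq_descFactorial_mul ht (by omega) {x} (by simp)
          rw [hl, hc, Finset.card_singleton, Nat.descFactorial_one] at h1
          exact (Nat.eq_of_mul_eq_mul_left (by omega) h1).symm
        · rw [eq_bot_iff]
          rintro g ⟨hg, hgT⟩
          rw [Subgroup.mem_bot]
          ext z
          by_cases hz : z = x
          · rw [hz, hg.2 x (Finset.mem_singleton_self x), Perm.one_apply]
          · rw [hgT z (by simp [hT, hz]), Perm.one_apply]
      have : MulAction.IsPretransitive (inducedPerms (fixer G {x}) T) ↥T := by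
        refine ⟨fun y z => ?_⟩
        obtain ⟨g, hg, hgy⟩ := exists_fixer_map ht (by omega) (S := {x}) (by simp)
          (y := (y : α)) (z := (z : α)) (by simpa [hT] using (Finset.mem_erase.mp y.2).1)
          (by simpa [hT] using (Finset.mem_erase.mp z.2).1)
        exact ⟨⟨g.subtypePerm (hmaps g hg), g, hg, fun w => rfl⟩, Subtype.ext hgy⟩
      exact dvd_of_prime_degree hp (by
        rw [Fintype.card_coe, hT, Finset.card_erase_of_mem (Finset.mem_univ x), Finset.card_univ,
          ← hn, hnp]; omega) _ hcR huniq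
    refine ⟨?_, ?_, ?_⟩
    · rintro ⟨rfl, hn11, hl2⟩
      have : MulAction.IsPretransitive G α :=
        MulAction.is_one_pretransitive_iff.mp
          (MulAction.isMultiplyPretransitive_of_le (n := 3 - 1) (by norm_num)
            (by rw [Nat.card_eq_fintype_card]; omega))
      have := dvd_of_prime_degree (p := 11) (m := 30) (by norm_num) (hn ▸ hn11) G
        (by rw [hl, hn11, hl2]; decide) (by decide)
      norm_num at this
    · rintro ⟨hj', hn12, hl8⟩
      have := hpoint 11 30 (by norm_num) hn12 hj' (by rw [hn12, hl8, hj']; decide) (by decide)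
      norm_num at this
    · rintro ⟨hj', hn24, hl8⟩
      have := hpoint 23 154 (by norm_num) hn24 hj' (by rw [hn24, hl8, hj']; decide) (by decide)
      norm_num at this
  -- arithmetic
  have hl0 : 0 < l := Nat.card_pos
  have hmul : (n - j + 1) * l = τ * j.factorial := by
    rw [hτl]; congr 1; omega
  have := small_arith j (Finset.mem_Icc.mpr ⟨hj, hj4⟩) l (Nat.mem_divisors.mpr ⟨hldvd, j.factorial_ne_zero⟩)
    (n - j) (Nat.mem_divisors.mpr ⟨hdiv, by positivity⟩) (by omega) hlne
    (by rw [hmul, Nat.mul_mod_left])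
    (by rw [hmul, Nat.mul_div_cancel _ j.factorial_pos]; exact Nat.odd_iff.mp hτodd)
  rw [show j + (n - j) = n by omega] at this
  simp only [List.mem_cons, List.not_mem_nil, or_false, Prod.mk.injEq] at this
  rcases this with ⟨h1, h2, h3⟩ | ⟨h1, h2, h3⟩ | ⟨h1, h2, h3⟩ | ⟨h1, h2, h3⟩ | ⟨h1, h2, h3⟩ |
    ⟨h1, h2, h3⟩ | ⟨h1, h2, h3⟩ | ⟨h1, h2, h3⟩
  · exact Or.inl ⟨h2, h1, by rw [hl, h1, h2, h3]; decide⟩
  · exact absurd ⟨h1, h2, h3⟩ hSylow.1
  · exact absurd ⟨h1, h2, h3⟩ hseven
  · exact absurd ⟨h1, h2, h3⟩ hSylow.2.1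
  · exact absurd ⟨h1, h2, h3⟩ hSylow.2.2
  · exact Or.inr (Or.inl ⟨h2, h1, by rw [hl, h1, h2, h3]; decide⟩)
  · exact Or.inr (Or.inr ⟨h2, h1, Or.inl (by rw [hl, h1, h2, h3]; decide)⟩)
  · exact Or.inr (Or.inr ⟨h2, h1, Or.inr (by rw [hl, h1, h2, h3]; decide)⟩)

end CfsgLib.LivWag
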