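import Cfsg.Agent.Lib.LivWag.HighDegree
import Cfsg.Agent.Lib.LivWag.SmallDegree
import Cfsg.Agent.Lib.LivWag.KleinFormula

/-!
Hall's theorem: 4-transitive groups in which the fixer of four points has odd order.

In even degree every five points carry the alternating group, which is impossible beyond degree
six. In odd degree an involution fixes three points, and counting in its centraliser leaves the
alternating group of degree seven and the Mathieu group of degree eleven.
-/

namespace CfsgLib.LivWag.Hall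

open Equiv Equiv.Perm

variable {α : Type*} [Fintype α] [DecidableEq α] {G : Subgroup (Perm α)}

/-- Orbit counting in a fixer, with the orbit given. -/
theorem card_fixer_orbit {H : Subgroup (Perm α)} {S : Finset α} {y : α} (O : Finset α)
    (hO : ∀ z, z ∈ O ↔ ∃ g ∈ fixer H S, g y = z) :
    Nat.card (fixer H S) = O.card * Nat.card (fixer H (insert y S)) := by
  classical
  set K := fixer H S
  have horb : MulAction.orbit K y = (O : Set α) := by
    ext z
    simp only [MulAction.mem_orbit_iff, Finset.mem_coe, hO z]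
    exact ⟨fun ⟨g, hg⟩ => ⟨g, g.2, hg⟩, fun ⟨g, hg, hgz⟩ => ⟨⟨g, hg⟩, hgz⟩⟩
  have hst : Nat.card (MulAction.stabilizer K y) = Nat.card (fixer H (insert y S)) :=
    Nat.card_congr
      { toFun := fun g => ⟨(g.1 : Perm α), g.1.2.1, fun x hx => by
          rcases Finset.mem_insert.mp hx with rfl | hx
          · exact g.2
          · exact g.1.2.2 x hx⟩
        invFun := fun g => ⟨⟨(g : Perm α), g.2.1,
          fun x hx => g.2.2 x (Finset.mem_insert_of_mem hx)⟩,
          g.2.2 y (Finset.mem_insert_self _ _)⟩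
        left_inv := fun g => rfl
        right_inv := fun g => rfl }
  rw [← hst, ← Set.ncard_coe_finset O, ← horb, ← Nat.card_coe_set_eq, ← Nat.card_prod]
  exact (Nat.card_congr (MulAction.orbitProdStabilizerEquivGroup K y)).symm

/-- The centraliser of `t` in `G`. -/
abbrev cen (G : Subgroup (Perm α)) (t : Perm α) : Subgroup (Perm α) :=
  G ⊓ Subgroup.centralizer {t}

omit [Fintype α] [DecidableEq α] in
theorem mem_cen {t g : Perm α} : g ∈ cen G t ↔ g ∈ G ∧ g * t = t * g := by
  rw [Subgroup.mem_inf, Subgroup.mem_centralizer_singleton_iff]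

theorem card_fixer_cen_conj {g t t₂ : Perm α} (hg : g ∈ G) (h : g * t = t₂ * g) (S : Finset α) :
    Nat.card (fixer (cen G t) S) = Nat.card (fixer (cen G t₂) (S.image g)) := by
  have ht₂ : t₂ = g * t * g⁻¹ := by rw [h]; group
  subst ht₂
  refine Nat.card_congr
    { toFun := fun a => ⟨g * a * g⁻¹, mem_cen.mpr ⟨G.mul_mem (G.mul_mem hg (mem_cen.mp a.2.1).1)
        (G.inv_mem hg), ?_⟩, fun y hy => ?_⟩
      invFun := fun a => ⟨g⁻¹ * a * g, mem_cen.mpr ⟨G.mul_mem (G.mul_mem (G.inv_mem hg)
        (mem_cen.mp a.2.1).1) hg, ?_⟩, fun x hx => ?_⟩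
      left_inv := fun a => Subtype.ext (by simp [mul_assoc])
      right_inv := fun a => Subtype.ext (by simp [mul_assoc]) }
  · calc g * a * g⁻¹ * (g * t * g⁻¹) = g * ((a : Perm α) * t) * g⁻¹ := by group
      _ = g * t * g⁻¹ * (g * a * g⁻¹) := by rw [(mem_cen.mp a.2.1).2]; group
  · obtain ⟨x, hx, rfl⟩ := Finset.mem_image.mp hy
    rw [Perm.mul_apply, Perm.mul_apply, Perm.inv_def, Equiv.symm_apply_apply, a.2.2 x hx]
  · calc g⁻¹ * a * g * t = g⁻¹ * ((a : Perm α) * (g * t * g⁻¹)) * g := by group
      _ = t * (g⁻¹ * a * g) := by rw [(mem_cen.mp a.2.1).2]; group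
  · rw [Perm.mul_apply, Perm.mul_apply, a.2.2 _ (Finset.mem_image_of_mem _ hx),
      Perm.inv_def, Equiv.symm_apply_apply]

theorem map_four (hG : MulAction.IsMultiplyPretransitive G α 4) (hn : 4 ≤ Fintype.card α)
    {a b c d a' b' c' d' : α} (hab : a ≠ b) (hac : a ≠ c) (had : a ≠ d) (hbc : b ≠ c) (hbd : b ≠ d)
    (hcd : c ≠ d) (hab' : a' ≠ b') (hac' : a' ≠ c') (had' : a' ≠ d') (hbc' : b' ≠ c')
    (hbd' : b' ≠ d') (hcd' : c' ≠ d') :
    ∃ g ∈ G, g a = a' ∧ g b = b' ∧ g c = c' ∧ g d = d' := by
  let f : α → α := fun x => if x = a then a' else if x = b then b' else if x = c then c' else d'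
  have ha : f a = a' := by simp [f]
  have hb : f b = b' := by simp [f, hab.symm]
  have hc : f c = c' := by simp [f, hac.symm, hbc.symm]
  have hd : f d = d' := by simp [f, had.symm, hbd.symm, hcd.symm]
  obtain ⟨g, hg, hgf⟩ := exists_map hG hn {a, b, c, d} (by
      simp [hab, hac, had, hbc, hbd, hcd]) f (by
    intro x hx y hy he
    simp only [Finset.coe_insert, Finset.coe_singleton, Set.mem_insert_iff,
      Set.mem_singleton_iff] at hx hy
    rcases hx with rfl | rfl | rfl | rfl <;> rcases hy with rfl | rfl | rfl | rfl <;>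
      simp only [ha, hb, hc, hd] at he <;>
      first | rfl | exact absurd he (by assumption) | exact absurd he.symm (by assumption))
  exact ⟨g, hg, by rw [hgf a (by simp), ha], by rw [hgf b (by simp), hb],
    by rw [hgf c (by simp), hc], by rw [hgf d (by simp), hd]⟩

theorem odd_of_four (hG : MulAction.IsMultiplyPretransitive G α 4) (hn : 4 ≤ Fintype.card α)
    {S₀ : Finset α} (hS₀ : S₀.card = 4) (h : Odd (Nat.card (fixer G S₀))) (S : Finset α)
    (hS : 4 ≤ S.card) : Odd (Nat.card (fixer G S)) := by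
  obtain ⟨S', hS', hc⟩ := Finset.exists_subset_card_eq (s := S) (n := 4) hS
  rw [card_fixer_of_trans hG hn (S := S₀) (T := S') hS₀.le (hc.trans hS₀.symm)] at h
  exact h.of_dvd_nat (Subgroup.card_dvd_of_le (fixer_anti hS'))

/-- A quadruple with two transpositions, carried over. -/
theorem conj_pairs (hG : MulAction.IsMultiplyPretransitive G α 4) (hn : 4 ≤ Fintype.card α)
    (hodd : ∀ S : Finset α, 4 ≤ S.card → Odd (Nat.card (fixer G S)))
    {t t₂ : Perm α} (ht : t ∈ G) (ht2 : t * t = 1) (ht₂ : t₂ ∈ G) (ht₂2 : t₂ * t₂ = 1)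
    {a b c d a' b' c' d' : α} (hab : a ≠ b) (hac : a ≠ c) (had : a ≠ d) (hbc : b ≠ c) (hbd : b ≠ d)
    (hcd : c ≠ d) (hab' : a' ≠ b') (hac' : a' ≠ c') (had' : a' ≠ d') (hbc' : b' ≠ c')
    (hbd' : b' ≠ d') (hcd' : c' ≠ d')
    (e1 : t a = b) (e2 : t c = d) (f1 : t₂ a' = b') (f2 : t₂ c' = d') :
    ∃ g ∈ G, g * t = t₂ * g ∧ g a = a' ∧ g b = b' ∧ g c = c' ∧ g d = d' := by
  obtain ⟨g, hg, g1, g2, g3, g4⟩ :=
    map_four hG hn hab hac had hbc hbd hcd hab' hac' had' hbc' hbd' hcd'
  have tt : ∀ {u : Perm α}, u * u = 1 → ∀ x, u (u x) = x := fun hu x => by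
    rw [← Perm.mul_apply, hu, Perm.one_apply]
  have e1' : t b = a := by rw [← e1, tt ht2]
  have e2' : t d = c := by rw [← e2, tt ht2]
  have f1' : t₂ b' = a' := by rw [← f1, tt ht₂2]
  have f2' : t₂ d' = c' := by rw [← f2, tt ht₂2]
  obtain ⟨g', hg', hc', hag⟩ := exists_conj_lift ht ht2 ht₂ ht₂2 hg (S := {a, b, c, d}) (by
    intro x hx
    simp only [Finset.mem_insert, Finset.mem_singleton] at hx
    rcases hx with rfl | rfl | rfl | rfl
    · rw [g1, f1, e1, g2]
    · rw [g2, f1', e1', g1]
    · rw [g3, f2, e2, g4]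
    · rw [g4, f2', e2', g3]) (hodd _ (by
      rw [Finset.card_image_of_injective _ g.injective]; simp [hab, hac, had, hbc, hbd, hcd]))
  exact ⟨g', hg', hc', by rw [hag a (by simp), g1], by rw [hag b (by simp), g2],
    by rw [hag c (by simp), g3], by rw [hag d (by simp), g4]⟩

/-- A quadruple with one transposition and two fixed points, carried over. -/
theorem conj_fix (hG : MulAction.IsMultiplyPretransitive G α 4) (hn : 4 ≤ Fintype.card α)
    (hodd : ∀ S : Finset α, 4 ≤ S.card → Odd (Nat.card (fixer G S)))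
    {t t₂ : Perm α} (ht : t ∈ G) (ht2 : t * t = 1) (ht₂ : t₂ ∈ G) (ht₂2 : t₂ * t₂ = 1)
    {a b c d a' b' c' d' : α} (hab : a ≠ b) (hac : a ≠ c) (had : a ≠ d) (hbc : b ≠ c) (hbd : b ≠ d)
    (hcd : c ≠ d) (hab' : a' ≠ b') (hac' : a' ≠ c') (had' : a' ≠ d') (hbc' : b' ≠ c')
    (hbd' : b' ≠ d') (hcd' : c' ≠ d')
    (e1 : t a = a) (e1' : t b = b) (e2 : t c = d) (f1 : t₂ a' = a') (f1' : t₂ b' = b')
    (f2 : t₂ c' = d') :
    ∃ g ∈ G, g * t = t₂ * g ∧ g a = a' ∧ g b = b' ∧ g c = c' ∧ g d = d' := by
  obtain ⟨g, hg, g1, g2, g3, g4⟩ :=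
    map_four hG hn hab hac had hbc hbd hcd hab' hac' had' hbc' hbd' hcd'
  have tt : ∀ {u : Perm α}, u * u = 1 → ∀ x, u (u x) = x := fun hu x => by
    rw [← Perm.mul_apply, hu, Perm.one_apply]
  have e2' : t d = c := by rw [← e2, tt ht2]
  have f2' : t₂ d' = c' := by rw [← f2, tt ht₂2]
  obtain ⟨g', hg', hc', hag⟩ := exists_conj_lift ht ht2 ht₂ ht₂2 hg (S := {a, b, c, d}) (by
    intro x hx
    simp only [Finset.mem_insert, Finset.mem_singleton] at hx
    rcases hx with rfl | rfl | rfl | rfl
    · rw [g1, f1, e1, g1]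
    · rw [g2, f1', e1', g2]
    · rw [g3, f2, e2, g4]
    · rw [g4, f2', e2', g3]) (hodd _ (by
      rw [Finset.card_image_of_injective _ g.injective]; simp [hab, hac, had, hbc, hbd, hcd]))
  exact ⟨g', hg', hc', by rw [hag a (by simp), g1], by rw [hag b (by simp), g2],
    by rw [hag c (by simp), g3], by rw [hag d (by simp), g4]⟩

/-- An involution moves evenly many points. -/
theorem even_card_support {t : Perm α} (ht : t * t = 1) : Even t.support.card := by
  rw [← sum_cycleType]
  refine even_iff_two_dvd.mpr (Multiset.dvd_sum fun k hk => ?_)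
  have h1 : k ∣ 2 := (dvd_of_mem_cycleType hk).trans (orderOf_dvd_of_pow_eq_one (by rw [sq, ht]))
  have h2 := two_le_of_mem_cycleType hk
  have := Nat.le_of_dvd two_pos h1
  omega

theorem card_fixed_add {t : Perm α} :
    (Finset.univ.filter fun x => t x = x).card + t.support.card = Fintype.card α := by
  have h : t.support = Finset.univ.filter fun x => ¬ t x = x := by ext; simp
  rw [h, ← Finset.card_univ]
  exact Finset.card_filter_add_card_filter_not (fun x => t x = x)

/-- Even degree: at most six points. -/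
theorem even_degree_le (hG : MulAction.IsMultiplyPretransitive G α 4)
    (hodd : ∀ S : Finset α, 4 ≤ S.card → Odd (Nat.card (fixer G S)))
    (he : Even (Fintype.card α)) : Fintype.card α ≤ 6 := by
  classical
  by_contra hn
  have hk : 4 ≤ Fintype.card α := by omega
  have hfix : ∀ t ∈ G, t * t = 1 → t ≠ 1 →
      (Finset.univ.filter fun x => t x = x).card ≤ 2 := by
    intro t htG ht2 ht1
    by_contra h3
    set F := Finset.univ.filter fun x => t x = x with hF
    have hev : Even F.card := by
      have := card_fixed_add (t := t)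
      have := even_card_support ht2
      rw [← hF] at *
      rw [Nat.even_iff] at *
      omega
    have h4 : 4 ≤ F.card := by rw [Nat.even_iff] at hev; omega
    exact ht1 (eq_one_of_sq_of_odd (hodd F h4) ⟨htG, fun x hx => (Finset.mem_filter.mp hx).2⟩
      (by rw [sq, ht2]))
  have hA : ∀ S : Finset α, S.card = 5 → alternatingGroup ↥S ≤ inducedPerms G S := fun S hS =>
    alternating_le_of_two_orbits hG (by omega) (by norm_num)
      (fun Γ hΓ y y' y'' h1 h2 h3 => two_orbits_of_odd hG le_rfl (by omega)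
        (fun T hT => hodd T hT.ge)
        (fun t htG ht2 ht1 => by have := hfix t htG ht2 ht1; omega) Γ hΓ h1 h2 h3) S hS
  have hodd3 : ∀ S : Finset α, 3 ≤ S.card → Odd (Nat.card (fixer G S)) := by
    intro S hS
    rw [← Nat.not_even_iff_odd]
    intro h2
    obtain ⟨t, ht⟩ := exists_prime_orderOf_dvd_card' (G := fixer G S) 2 h2.two_dvd
    rw [← Subgroup.orderOf_coe] at ht
    have ht2 : (t : Perm α) * t = 1 := by rw [← sq, ← ht, pow_orderOf_eq_one]
    have ht1 : (t : Perm α) ≠ 1 := fun e => by rw [e, orderOf_one] at ht; omega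
    have := hfix t t.2.1 ht2 ht1
    have : S.card ≤ (Finset.univ.filter fun x => (t : Perm α) x = x).card :=
      Finset.card_le_card fun x hx => Finset.mem_filter.mpr ⟨Finset.mem_univ _, t.2.2 x hx⟩
    omega
  refine five_absurd hG (by omega) hA (fun S hS g hg τ hτ hgτ => ?_) hodd3 he
  by_contra hs
  have htop := induced_eq_top_of_odd (hA S hS) hg hτ hgτ hs
  obtain ⟨a, haS, b, hbS, hab⟩ := Finset.one_lt_card.mp (show 1 < S.card by omega)
  obtain ⟨σ, hσG, hσ⟩ : Equiv.swap (⟨a, haS⟩ : ↥S) ⟨b, hbS⟩ ∈ inducedPerms G S :=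
    htop ▸ Subgroup.mem_top _
  have hE : ∀ x ∈ (S.erase a).erase b, σ x = x := by
    intro x hx
    simp only [Finset.mem_erase] at hx
    rw [hσ ⟨x, hx.2.2⟩, Equiv.swap_apply_of_ne_of_ne
      (fun e => hx.2.1 (Subtype.ext_iff.mp e)) (fun e => hx.1 (Subtype.ext_iff.mp e))]
  obtain ⟨t, htG, ht2, hta, -, htE⟩ := exists_involution_of_swap hσG (a := a) (b := b)
    (by rw [hσ ⟨a, haS⟩, Equiv.swap_apply_left]) (by rw [hσ ⟨b, hbS⟩, Equiv.swap_apply_right]) hE
    (by
      rw [Finset.insert_erase (Finset.mem_erase.mpr ⟨hab.symm, hbS⟩), Finset.insert_erase haS]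
      exact hodd S (by omega))
  have ht1 : t ≠ 1 := fun e => hab (by rw [e] at hta; simpa using hta)
  have h1 := hfix t htG ht2 ht1
  have h2 : ((S.erase a).erase b).card ≤ (Finset.univ.filter fun x => t x = x).card :=
    Finset.card_le_card fun x hx => Finset.mem_filter.mpr ⟨Finset.mem_univ _, htE x hx⟩
  rw [Finset.card_erase_of_mem (Finset.mem_erase.mpr ⟨hab.symm, hbS⟩),
    Finset.card_erase_of_mem haS, hS] at h2
  omega

/-- An element of odd order fixes the other two of three permuted points once it fixes one. -/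
theorem fix_three_of_odd {g : Perm α} (ho : Odd (orderOf g)) {a b x : α} (hbx : b ≠ x)
    (ha : g a = a) (hF : ∀ z, z = a ∨ z = b ∨ z = x → g z = a ∨ g z = b ∨ g z = x) :
    g b = b ∧ g x = x := by
  rcases hF b (.inr (.inl rfl)) with h | h | h
  · have hba : b = a := g.injective (h.trans ha.symm)
    subst hba
    rcases hF x (.inr (.inr rfl)) with h' | h' | h'
    · exact absurd (g.injective (ha.trans h'.symm)) hbx
    · exact absurd (g.injective (ha.trans h'.symm)) hbx
    · exact ⟨h, h'⟩
  · rcases hF x (.inr (.inr rfl)) with h' | h' | h'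
    · have hxa : x = a := g.injective (h'.trans ha.symm)
      subst hxa
      exact ⟨h, ha⟩
    · exact absurd (g.injective (h.trans h'.symm)) hbx
    · exact ⟨h, h'⟩
  · rcases hF x (.inr (.inr rfl)) with h' | h' | h'
    · have hxa : x = a := g.injective (h'.trans ha.symm)
      subst hxa
      exact absurd (g.injective (ha.trans h.symm)) hbx.symm
    · have := (pow_odd_apply_of_swap h h' ho).1
      rw [pow_orderOf_eq_one, Perm.one_apply] at this
      exact absurd this hbx
    · exact absurd (g.injective (h.trans h'.symm)) hbx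

/-- Subgroups of the fixer of four points have odd order elements. -/
theorem odd_orderOf (hodd : ∀ S : Finset α, 4 ≤ S.card → Odd (Nat.card (fixer G S)))
    {S : Finset α} (hS : 4 ≤ S.card) {g : Perm α} (hg : g ∈ G) (hfix : ∀ x ∈ S, g x = x) :
    Odd (orderOf g) := by
  refine (hodd S hS).of_dvd_nat ?_
  rw [← Subgroup.orderOf_mk g (show g ∈ fixer G S from ⟨hg, hfix⟩)]
  exact orderOf_dvd_natCard _

omit [Fintype α] in
theorem insert_four (a b c d x : α) : insert x ({a, b, c, d} : Finset α) = {a, b, c, d, x} := by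
  ext; simp; tauto

omit [Fintype α] in
theorem four_eq (a b c d : α) : ({a, b, c, d} : Finset α) = insert b (insert d {c, a}) := by
  ext; simp; tauto

omit [Fintype α] in
theorem five_eq (a b c d x : α) :
    ({a, b, c, d, x} : Finset α) = insert b (insert d {x, c, a}) := by
  ext; simp; tauto

omit [Fintype α] in
theorem four_subset (a b c d x : α) : ({a, b, c, d} : Finset α) ⊆ {a, b, c, d, x} := by
  intro w; simp; tauto

set_option maxHeartbeats 1600000 in
/-- Counting in the centraliser of an involution of odd degree. -/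
theorem config (hG : MulAction.IsMultiplyPretransitive G α 4) (hn : 7 ≤ Fintype.card α)
    (hodd : ∀ S : Finset α, 4 ≤ S.card → Odd (Nat.card (fixer G S)))
    (ho : Odd (Fintype.card α)) {a b c d x : α} {t : Perm α} (ht : t ∈ G) (ht2 : t * t = 1)
    (hta : t a = a) (htb : t b = b) (htc : t c = d) (htx : t x = x)
    (hab : a ≠ b) (hax : a ≠ x) (hbx : b ≠ x) (hcd : c ≠ d) :
    ((Fintype.card α = 7 ∧ Nat.card G = 2520) ∨ (Fintype.card α = 11 ∧ Nat.card G = 7920)) ∨
      ((∀ g ∈ fixer G {a, b, x, c}, g d = d) ∧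
        (∀ z, (∀ g ∈ fixer G {a, b, x, c}, g z = z) → z = a ∨ z = b ∨ z = x ∨ z = c ∨ z = d) ∧
        ¬ ∀ g ∈ fixer G {a, b, x, c}, g * t = t * g) := by
  classical
  have hk : 4 ≤ Fintype.card α := by omega
  have tt : ∀ {u : Perm α}, u * u = 1 → ∀ y, u (u y) = y := fun hu y => by
    rw [← Perm.mul_apply, hu, Perm.one_apply]
  have htd : t d = c := by rw [← htc, tt ht2]
  have hac : a ≠ c := fun e => hcd (by rw [← e, hta, e] at htc; exact htc)
  have hbc : b ≠ c := fun e => hcd (by rw [← e, htb, e] at htc; exact htc)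
  have hxc : x ≠ c := fun e => hcd (by rw [← e, htx, e] at htc; exact htc)
  have had : a ≠ d := fun e => hac (by rw [← htd, ← e, hta])
  have hbd : b ≠ d := fun e => hbc (by rw [← htd, ← e, htb])
  have hxd : x ≠ d := fun e => hxc (by rw [← htd, ← e, htx])
  have ht1 : t ≠ 1 := fun e => hcd (by rw [e] at htc; simpa using htc)
  -- at most three fixed points
  have fix3 : ∀ u ∈ G, u * u = 1 → u ≠ 1 → ∀ p q r z, p ≠ q → p ≠ r → q ≠ r →
      u p = p → u q = q → u r = r → u z = z → z = p ∨ z = q ∨ z = r := by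
    intro u hu hu2 hu1 p q r z hpq hpr hqr h1 h2 h3 h4
    by_contra hne
    simp only [not_or] at hne
    refine hu1 (eq_one_of_sq_of_odd (hodd {z, p, q, r} (by simp [hne, hpq, hpr, hqr]))
      ⟨hu, fun w hw => ?_⟩ (by rw [sq, hu2]))
    simp only [Finset.mem_insert, Finset.mem_singleton] at hw
    rcases hw with rfl | rfl | rfl | rfl <;> assumption
  -- a second involution, commuting with `t`
  obtain ⟨g₀, hg₀, hg₀t, k1, k2, k3, k4⟩ := conj_fix hG hk hodd ht ht2 ht ht2 hab hac had hbc hbd
    hcd hab.symm hbc hbd hac had hcd hta htb htc htb hta htc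
  obtain ⟨mo, io, hmo, hio⟩ := exists_two_part g₀
  set t' := g₀ ^ mo with ht'def
  have ht'G : t' ∈ G := G.pow_mem hg₀ mo
  have ht'a : t' a = b := (pow_odd_apply_of_swap k1 k2 hmo).1
  have ht'b : t' b = a := (pow_odd_apply_of_swap k1 k2 hmo).2
  have ht'c : t' c = c := pow_apply_of_fixed k3 mo
  have ht'd : t' d = d := pow_apply_of_fixed k4 mo
  have hcomm : t' * t = t * t' := (Commute.pow_left (show Commute g₀ t from hg₀t) mo).eq
  have ht'2 : t' * t' = 1 := by
    have hmem : t' * t' ∈ fixer G {a, b, c, d} := ⟨G.mul_mem ht'G ht'G, fun w hw => by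
      simp only [Finset.mem_insert, Finset.mem_singleton] at hw
      rw [Perm.mul_apply]
      rcases hw with rfl | rfl | rfl | rfl
      · rw [ht'a, ht'b]
      · rw [ht'b, ht'a]
      · rw [ht'c, ht'c]
      · rw [ht'd, ht'd]⟩
    obtain ⟨j, -, hj⟩ := (Nat.dvd_prime_pow Nat.prime_two).mp
      (show orderOf (t' * t') ∣ 2 ^ io by rw [← hio, ← sq]; exact orderOf_pow_dvd 2)
    exact eq_one_of_two_power_of_odd (hodd _ (by simp [hab, hac, had, hbc, hbd, hcd])) hmem hj
  have ht'1 : t' ≠ 1 := fun e => hab (by rw [e] at ht'a; simpa using ht'a)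
  have ht'x : t' x = x := by
    have h : t (t' x) = t' x := by rw [← Perm.mul_apply, ← hcomm, Perm.mul_apply, htx]
    rcases fix3 t ht ht2 ht1 a b x _ hab hax hbx hta htb htx h with e | e | e
    · exact absurd (t'.injective (e.trans ht'b.symm)) hbx.symm
    · exact absurd (t'.injective (e.trans ht'a.symm)) hax.symm
    · exact e
  obtain ⟨s, hsdef⟩ : ∃ s, s = t * t' := ⟨_, rfl⟩
  have hsG : s ∈ G := by rw [hsdef]; exact G.mul_mem ht ht'G
  have hs2 : s * s = 1 := by
    calc s * s = t * (t' * t) * t' := by rw [hsdef]; group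
      _ = t * t * (t' * t') := by rw [hcomm]; group
      _ = 1 := by rw [ht2, ht'2, one_mul]
  have hsa : s a = b := by rw [hsdef, Perm.mul_apply, ht'a, htb]
  have hsb : s b = a := by rw [hsdef, Perm.mul_apply, ht'b, hta]
  have hsc : s c = d := by rw [hsdef, Perm.mul_apply, ht'c, htc]
  have hsd : s d = c := by rw [hsdef, Perm.mul_apply, ht'd, htd]
  have hsx : s x = x := by rw [hsdef, Perm.mul_apply, ht'x, htx]
  set F : Finset α := {a, b, x} with hF
  have hFc : F.card = 3 := by simp [hF, hab, hax, hbx]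
  have hmemF : ∀ {z}, z ∈ F ↔ z = a ∨ z = b ∨ z = x := by simp [hF]
  have hfixF : ∀ {z}, t z = z ↔ z ∈ F := by
    intro z
    rw [hmemF]
    refine ⟨fun h => fix3 t ht ht2 ht1 a b x z hab hax hbx hta htb htx h, ?_⟩
    rintro (rfl | rfl | rfl) <;> assumption
  have hpermF : ∀ g ∈ cen G t, ∀ z ∈ F, g z ∈ F := fun g hg z hz => hfixF.mp (by
    rw [← Perm.mul_apply, ← (mem_cen.mp hg).2, Perm.mul_apply, hfixF.mpr hz])
  -- fixing one of `a, b, x` in an odd order group means fixing all
  have fixall : ∀ g ∈ cen G t, Odd (orderOf g) → ∀ f ∈ F, g f = f → ∀ z ∈ F, g z = z := by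
    intro g hg hgo f hf hgf z hz
    have hp : ∀ w, w = a ∨ w = b ∨ w = x → g w = a ∨ g w = b ∨ g w = x := fun w hw =>
      hmemF.mp (hpermF g hg w (hmemF.mpr hw))
    rw [hmemF] at hf hz
    have hb' : g a = a → g b = b ∧ g x = x := fun h => fix_three_of_odd hgo hbx h hp
    have ha' : g b = b → g a = a ∧ g x = x := fun h => fix_three_of_odd hgo hax h
      (fun w hw => by
        rcases hp w (by tauto) with e | e | e
        · exact Or.inr (Or.inl e)
        · exact Or.inl e
        · exact Or.inr (Or.inr e))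
    have hx' : g x = x → g a = a ∧ g b = b := fun h => fix_three_of_odd hgo hab h
      (fun w hw => by
        rcases hp w (by tauto) with e | e | e
        · exact Or.inr (Or.inl e)
        · exact Or.inr (Or.inr e)
        · exact Or.inl e)
    rcases hf with rfl | rfl | rfl <;> rcases hz with rfl | rfl | rfl <;>
      first | exact hgf | exact (hb' hgf).1 | exact (hb' hgf).2 | exact (ha' hgf).1 |
        exact (ha' hgf).2 | exact (hx' hgf).1 | exact (hx' hgf).2
  set Mv := Fᶜ with hMv
  have hmemMv : ∀ {z}, z ∈ Mv ↔ t z ≠ z := by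
    intro z; rw [hMv, Finset.mem_compl, ne_eq, hfixF]
  have hFne : ∀ {z}, z ∈ Mv → z ≠ a ∧ z ≠ b ∧ z ≠ x := by
    intro z hz
    rw [hMv, Finset.mem_compl, hmemF, not_or, not_or] at hz
    exact hz
  have hcMv : c ∈ Mv := hmemMv.mpr (by rw [htc]; exact hcd.symm)
  have hdMv : d ∈ Mv := hmemMv.mpr (by rw [htd]; exact hcd)
  set M' := (Mv.erase c).erase d with hM'
  have hM'c : M'.card = Fintype.card α - 5 := by
    rw [hM', Finset.card_erase_of_mem (Finset.mem_erase.mpr ⟨hcd.symm, hdMv⟩),
      Finset.card_erase_of_mem hcMv, hMv, Finset.card_compl, hFc]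
    omega
  have hmemM' : ∀ {y}, y ∈ M' ↔ y ≠ d ∧ y ≠ c ∧ y ∈ Mv := by simp [hM']
  have hM't : ∀ y ∈ M', t y ∈ M' ∧ t y ≠ y ∧ y ≠ c ∧ y ≠ d ∧ c ≠ t y ∧ d ≠ t y := by
    intro y hy
    obtain ⟨h1, h2, h3⟩ := hmemM'.mp hy
    have h4 : t y ≠ d := fun e => h2 (by rw [← tt ht2 y, e, htd])
    have h5 : t y ≠ c := fun e => h1 (by rw [← tt ht2 y, e, htc])
    have h6 : t y ∈ Mv := hmemMv.mpr fun e => hmemMv.mp h3 (t.injective e)
    exact ⟨hmemM'.mpr ⟨h4, h5, h6⟩, hmemMv.mp h3, h2, h1, h5.symm, h4.symm⟩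
  let C : Finset α → ℕ := fun S => Nat.card (fixer (cen G t) S)
  set e₁ := C (insert c F) with he₁
  have hcd' : ∀ g ∈ cen G t, g c = c → g d = d := fun g hg hgc => by
    rw [← htc, ← Perm.mul_apply, (mem_cen.mp hg).2, Perm.mul_apply, hgc]
  have oddC : ∀ g ∈ cen G t, ∀ y ∈ M', g c = c → g y = y → Odd (orderOf g) := by
    intro g hg y hy hgc hgy
    obtain ⟨-, hty, hyc, hyd, hcty, hdty⟩ := hM't y hy
    refine odd_orderOf hodd (S := {c, d, y, t y}) ?_ (mem_cen.mp hg).1 fun w hw => ?_
    · simp [hcd, hyc.symm, hcty, hyd.symm, hdty, hty.symm]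
    · simp only [Finset.mem_insert, Finset.mem_singleton] at hw
      rcases hw with rfl | rfl | rfl | rfl
      · exact hgc
      · exact hcd' g hg hgc
      · exact hgy
      · rw [← Perm.mul_apply, (mem_cen.mp hg).2, Perm.mul_apply, hgy]
  -- three orbit counts
  have hCc : C {c} = 6 * e₁ := by
    have hO : ∀ z, z ∈ F ↔ ∃ g ∈ fixer (cen G t) {c}, g a = z := by
      intro z
      constructor
      · intro hz
        obtain ⟨z', hz'F, hz'⟩ : ∃ z' ∈ F, z' ≠ z := by
          by_cases h : z = a
          · exact ⟨b, by simp [hF], fun e => hab (h ▸ e.symm)⟩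
          · exact ⟨a, by simp [hF], fun e => h e.symm⟩
        have hzc : z ≠ c ∧ z ≠ d := by
          rw [hmemF] at hz
          rcases hz with rfl | rfl | rfl
          exacts [⟨hac, had⟩, ⟨hbc, hbd⟩, ⟨hxc, hxd⟩]
        have hz'c : z' ≠ c ∧ z' ≠ d := by
          rw [hmemF] at hz'F
          rcases hz'F with rfl | rfl | rfl
          exacts [⟨hac, had⟩, ⟨hbc, hbd⟩, ⟨hxc, hxd⟩]
        obtain ⟨g, hg, hgt, g1, -, g3, -⟩ := conj_fix hG hk hodd ht ht2 ht ht2 hab hac had hbc
          hbd hcd hz'.symm hzc.1 hzc.2 hz'c.1 hz'c.2 hcd hta htb htc (hfixF.mpr hz)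
          (hfixF.mpr hz'F) htc
        exact ⟨g, ⟨mem_cen.mpr ⟨hg, hgt⟩, fun w hw => by
          rw [Finset.mem_singleton] at hw; rw [hw]; exact g3⟩, g1⟩
      · rintro ⟨g, hg, rfl⟩
        exact hpermF g hg.1 a (by simp [hF])
    have hO2 : ∀ z, z ∈ ({b, x} : Finset α) ↔ ∃ g ∈ fixer (cen G t) {a, c}, g b = z := by
      intro z
      constructor
      · intro hz
        have hzd : a ≠ z ∧ z ≠ c ∧ z ≠ d ∧ t z = z := by
          simp only [Finset.mem_insert, Finset.mem_singleton] at hz
          rcases hz with rfl | rfl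
          exacts [⟨hab, hbc, hbd, htb⟩, ⟨hax, hxc, hxd, htx⟩]
        obtain ⟨g, hg, hgt, g1, g2, g3, -⟩ := conj_fix hG hk hodd ht ht2 ht ht2 hab hac had hbc
          hbd hcd hzd.1 hac had hzd.2.1 hzd.2.2.1 hcd hta htb htc hta hzd.2.2.2 htc
        refine ⟨g, ⟨mem_cen.mpr ⟨hg, hgt⟩, fun w hw => ?_⟩, g2⟩
        simp only [Finset.mem_insert, Finset.mem_singleton] at hw
        rcases hw with rfl | rfl <;> assumption
      · rintro ⟨g, hg, rfl⟩
        have h1 := hmemF.mp (hpermF g hg.1 b (by simp [hF]))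
        rcases h1 with e | e | e
        · exact absurd (g.injective (e.trans (hg.2 a (by simp)).symm)) hab.symm
        · simp [e]
        · simp [e]
    change Nat.card (fixer (cen G t) {c}) = _
    rw [card_fixer_orbit (H := cen G t) (y := a) F hO, hFc,
      card_fixer_orbit (H := cen G t) (y := b) ({b, x} : Finset α) hO2, Finset.card_pair hbx, he₁]
    change 3 * (2 * C {b, a, c}) = 6 * C (insert c F)
    have : fixer (cen G t) {b, a, c} = fixer (cen G t) (insert c F) := by
      refine le_antisymm ?_ ?_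
      · refine fun g hg => ⟨hg.1, fun w hw => ?_⟩
        rcases Finset.mem_insert.mp hw with rfl | hw
        · exact hg.2 _ (by simp)
        rcases hmemF.mp hw with rfl | rfl | rfl
        · exact hg.2 _ (by simp)
        · exact hg.2 _ (by simp)
        · have h := hmemF.mp (hpermF g hg.1 w hw)
          rcases h with e | e | e
          · exact absurd (g.injective (e.trans (hg.2 a (by simp)).symm)) hax.symm
          · exact absurd (g.injective (e.trans (hg.2 b (by simp)).symm)) hbx.symm
          · exact e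
      · refine fixer_anti ?_
        intro w hw
        simp only [Finset.mem_insert, Finset.mem_singleton, hmemF] at hw ⊢
        tauto
    simp only [C, this]
    ring
  have hCy : ∀ y ∈ M', C {c} = (Fintype.card α - 5) * C {y, c} := by
    intro y hy
    obtain ⟨-, hty, hyc, hyd, hcty, hdty⟩ := hM't y hy
    change Nat.card (fixer (cen G t) {c}) = _
    rw [card_fixer_orbit (H := cen G t) (y := y) M' ?_, hM'c]
    intro z
    constructor
    · intro hz
      obtain ⟨-, htz, hzc, hzd, hctz, hdtz⟩ := hM't z hz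
      obtain ⟨g, hg, hgt, g1, -, g3, -⟩ := conj_pairs hG hk hodd ht ht2 ht ht2 hcd hyc.symm hcty
        hyd.symm hdty hty.symm hcd hzc.symm hctz hzd.symm hdtz htz.symm htc rfl htc rfl
      exact ⟨g, ⟨mem_cen.mpr ⟨hg, hgt⟩, fun w hw => by
        rw [Finset.mem_singleton] at hw; rw [hw]; exact g1⟩, g3⟩
    · rintro ⟨g, hg, rfl⟩
      have hgc := hg.2 c (Finset.mem_singleton_self c)
      have hgd := hcd' g hg.1 hgc
      refine hmemM'.mpr ⟨fun e => hyd (g.injective (e.trans hgd.symm)),
        fun e => hyc (g.injective (e.trans hgc.symm)), hmemMv.mpr fun e => hty (g.injective ?_)⟩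
      rw [← Perm.mul_apply g t, (mem_cen.mp hg.1).2, Perm.mul_apply, e]
  obtain ⟨y₀, hy₀⟩ : M'.Nonempty := Finset.card_pos.mp (by omega)
  obtain ⟨hty₀M, hty₀, hy₀c, hy₀d, hcty₀, hdty₀⟩ := hM't y₀ hy₀
  set e₃ := C (insert y₀ (insert c F)) with he₃
  -- `e₃` does not depend on the point
  have he₃y : ∀ y ∈ M', C (insert y (insert c F)) = e₃ := by
    intro y hy
    obtain ⟨-, hty, hyc, hyd, hcty, hdty⟩ := hM't y hy
    obtain ⟨g, hg, hgt, g1, -, g3, -⟩ := conj_pairs hG hk hodd ht ht2 ht ht2 hcd hy₀c.symm hcty₀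
      hy₀d.symm hdty₀ hty₀.symm hcd hyc.symm hcty hyd.symm hdty hty.symm htc rfl htc rfl
    change Nat.card _ = Nat.card _
    rw [card_fixer_cen_conj hg hgt (insert y₀ (insert c F)), Finset.image_insert,
      Finset.image_insert, g3, g1,
      show F.image g = F from Finset.eq_of_subset_of_card_le
        (fun z hz => by
          obtain ⟨w, hw, rfl⟩ := Finset.mem_image.mp hz
          exact hpermF g (mem_cen.mpr ⟨hg, hgt⟩) w hw)
        (by rw [Finset.card_image_of_injective _ g.injective])]
  -- fixers of a pair of transpositions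
  have he₃' : ∀ y ∈ M', ∀ f ∈ F, C (insert f {y, c}) = C (insert y (insert c F)) := by
    intro y hy f hf
    change Nat.card _ = Nat.card _
    suffices h : fixer (cen G t) (insert f {y, c}) = fixer (cen G t) (insert y (insert c F)) by rw [h]
    refine le_antisymm ?_ ?_
    · refine fun g hg => ⟨hg.1, fun w hw => ?_⟩
      simp only [Finset.mem_insert] at hw
      rcases hw with rfl | rfl | hw
      · exact hg.2 _ (by simp)
      · exact hg.2 _ (by simp)
      · exact fixall g hg.1 (oddC g hg.1 y hy (hg.2 c (by simp)) (hg.2 y (by simp))) f hf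
          (hg.2 f (by simp)) w hw
    · refine fixer_anti ?_
      intro w hw
      simp only [Finset.mem_insert, Finset.mem_singleton] at hw ⊢
      rcases hw with rfl | rfl | rfl
      · exact Or.inr (Or.inr hf)
      · exact Or.inl rfl
      · exact Or.inr (Or.inl rfl)
  set i := (Finset.univ.filter fun z => ∃ g ∈ fixer (cen G t) {y₀, c}, g a = z).card with hi
  set e₂ := C {y₀, c} with he₂
  have he₂i : e₂ = i * e₃ := by
    rw [he₂, he₃, ← he₃' y₀ hy₀ a (by simp [hF])]
    exact card_fixer_orbit _ fun z => by simp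
  have hi13 : i = 1 ∨ i = 3 := by
    have hi3 : i ≤ 3 := hFc ▸ Finset.card_le_card (fun z hz => by
      obtain ⟨g, hg, rfl⟩ := (Finset.mem_filter.mp hz).2
      exact hpermF g hg.1 a (by simp [hF]))
    have hodd2 : Odd e₂ := by
      refine (hodd {c, d, y₀, t y₀} (by simp [hcd, hy₀c.symm, hcty₀, hy₀d.symm, hdty₀, hty₀.symm])
        ).of_dvd_nat (Subgroup.card_dvd_of_le fun g hg => ⟨(mem_cen.mp hg.1).1, fun w hw => ?_⟩)
      simp only [Finset.mem_insert, Finset.mem_singleton] at hw
      rcases hw with rfl | rfl | rfl | rfl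
      · exact hg.2 _ (by simp)
      · exact hcd' g hg.1 (hg.2 c (by simp))
      · exact hg.2 _ (by simp)
      · rw [← Perm.mul_apply, (mem_cen.mp hg.1).2, Perm.mul_apply, hg.2 y₀ (by simp)]
    rw [he₂i, Nat.odd_mul] at hodd2
    obtain ⟨q, hq⟩ := hodd2.1
    omega
  have hmain : 6 * e₁ = (Fintype.card α - 5) * e₂ := by rw [← hCc, hCy y₀ hy₀]
  -- transport to the other two involutions
  obtain ⟨g₁, hg₁, hg₁t, p1, p2, p3, p4⟩ := conj_fix hG hk hodd ht ht2 ht'G ht'2 hab hac had hbc
    hbd hcd hcd hac.symm hbc.symm had.symm hbd.symm hab hta htb htc ht'c ht'd ht'a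
  have he₁' : Nat.card (fixer (cen G t') {a, b, c, d}) = e₁ := by
    change _ = Nat.card _
    rw [card_fixer_cen_conj hg₁ hg₁t]
    have hgx : g₁ x = x := by
      have h : t' (g₁ x) = g₁ x := by rw [← Perm.mul_apply, ← hg₁t, Perm.mul_apply, htx]
      rcases fix3 t' ht'G ht'2 ht'1 c d x _ hcd hxc.symm hxd.symm ht'c ht'd ht'x h with e | e | e
      · exact absurd (g₁.injective (e.trans p1.symm)) hax.symm
      · exact absurd (g₁.injective (e.trans p2.symm)) hbx.symm
      · exact e
    rw [hF, Finset.image_insert, Finset.image_insert, Finset.image_insert, Finset.image_singleton,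
      p1, p2, p3, hgx]
    rw [show fixer (cen G t') {a, b, c, d} = fixer (cen G t') {a, c, d, x} from
      le_antisymm (fun g hg => ⟨hg.1, fun w hw => ?_⟩) (fun g hg => ⟨hg.1, fun w hw => ?_⟩)]
    · simp only [Finset.mem_insert, Finset.mem_singleton] at hw
      rcases hw with rfl | rfl | rfl | rfl
      · exact hg.2 _ (by simp)
      · exact hg.2 _ (by simp)
      · exact hg.2 _ (by simp)
      · have h : t' (g w) = g w := by
          rw [← Perm.mul_apply, ← (mem_cen.mp hg.1).2, Perm.mul_apply, ht'x]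
        rcases fix3 t' ht'G ht'2 ht'1 c d w _ hcd hxc.symm hxd.symm ht'c ht'd ht'x h with e | e | e
        · exact absurd (g.injective (e.trans (hg.2 c (by simp)).symm)) hxc
        · exact absurd (g.injective (e.trans (hg.2 d (by simp)).symm)) hxd
        · exact e
    · simp only [Finset.mem_insert, Finset.mem_singleton] at hw
      rcases hw with rfl | rfl | rfl | rfl
      · exact hg.2 _ (by simp)
      · rw [← ht'a, ← Perm.mul_apply, (mem_cen.mp hg.1).2, Perm.mul_apply, hg.2 a (by simp)]
      · exact hg.2 _ (by simp)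
      · exact hg.2 _ (by simp)
  obtain ⟨g₂, hg₂, hg₂t, q1, q2, q3, q4⟩ := conj_pairs hG hk hodd ht ht2 hsG hs2 hcd hy₀c.symm
    hcty₀ hy₀d.symm hdty₀ hty₀.symm hab hac had hbc hbd hcd htc rfl hsa hsc
  have hs1 : s ≠ 1 := fun e => hab (by rw [e] at hsa; simpa using hsa)
  have hsfix : ∀ {z}, s z = z ↔ z ∈ F.image g₂ := by
    intro z
    rw [Finset.mem_image]
    constructor
    · intro h
      refine ⟨g₂⁻¹ z, hfixF.mp (g₂.injective ?_), by rw [Perm.inv_def, Equiv.apply_symm_apply]⟩
      rw [← Perm.mul_apply g₂ t, hg₂t, Perm.mul_apply, Perm.inv_def, Equiv.apply_symm_apply, h]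
    · rintro ⟨w, hw, rfl⟩
      rw [← Perm.mul_apply, ← hg₂t, Perm.mul_apply, hfixF.mpr hw]
  obtain ⟨f₀, hf₀, hf₀x⟩ := Finset.mem_image.mp (hsfix.mp hsx)
  have hsS : ∀ S : Finset α, a ∈ S → c ∈ S →
      fixer (cen G s) (insert b (insert d S)) = fixer (cen G s) S := by
    intro S haS hcS
    refine le_antisymm (fixer_anti ((Finset.subset_insert _ _).trans (Finset.subset_insert _ _)))
      fun g hg => ⟨hg.1, fun w hw => ?_⟩
    rcases Finset.mem_insert.mp hw with rfl | hw
    · rw [← hsa, ← Perm.mul_apply, (mem_cen.mp hg.1).2, Perm.mul_apply, hg.2 a haS]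
    rcases Finset.mem_insert.mp hw with rfl | hw
    · rw [← hsc, ← Perm.mul_apply, (mem_cen.mp hg.1).2, Perm.mul_apply, hg.2 c hcS]
    · exact hg.2 w hw
  have he₂' : Nat.card (fixer (cen G s) {a, b, c, d}) = e₂ := by
    rw [four_eq a b c d,
      hsS _ (by simp) (by simp)]
    change _ = Nat.card _
    rw [card_fixer_cen_conj hg₂ hg₂t, Finset.image_insert, Finset.image_singleton, q1, q3]
  have he₃'' : Nat.card (fixer (cen G s) {a, b, c, d, x}) = e₃ := by
    rw [five_eq a b c d x,
      hsS _ (by simp) (by simp), ← he₃y y₀ hy₀, ← he₃' y₀ hy₀ f₀ hf₀]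
    change _ = Nat.card _
    rw [card_fixer_cen_conj hg₂ hg₂t, Finset.image_insert, Finset.image_insert,
      Finset.image_singleton, q1, q3, hf₀x]
  -- the Klein formula
  set K := fixer G {a, b, c, d}
  set L := fixer G {a, b, c, d, x}
  set v := Nat.card (K ⊓ Subgroup.centralizer {t'} ⊓ Subgroup.centralizer {t} : Subgroup (Perm α))
  have cenfix : ∀ (u : Perm α) (S : Finset α),
      fixer G S ⊓ Subgroup.centralizer {u} = fixer (cen G u) S := by
    intro u S; ext g
    simp only [Subgroup.mem_inf, mem_fixer]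
    exact ⟨fun h => ⟨⟨h.1.1, h.2⟩, h.1.2⟩, fun h => ⟨⟨h.1.1, h.2⟩, h.1.2⟩⟩
  have hinv : ∀ u ∈ G, u * u = 1 → ∀ S : Finset α, (∀ w ∈ S, u w ∈ S) →
      ∀ g ∈ fixer G S, u * g * u ∈ fixer G S := by
    intro u hu hu2 S hS g hg
    refine ⟨G.mul_mem (G.mul_mem hu hg.1) hu, fun w hw => ?_⟩
    rw [Perm.mul_apply, Perm.mul_apply, hg.2 _ (hS w hw), tt hu2]
  have hCKt : fixer (cen G t) {a, b, c, d} = fixer (cen G t) (insert c F) := by
    refine le_antisymm ?_ ?_ <;> refine fun g hg => ⟨hg.1, fun w hw => ?_⟩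
    · rcases Finset.mem_insert.mp hw with rfl | hw
      · exact hg.2 _ (by simp)
      · exact fixall g hg.1 (odd_orderOf hodd (S := {a, b, c, d})
          (by simp [hab, hac, had, hbc, hbd, hcd]) (mem_cen.mp hg.1).1 hg.2) a (by simp [hF])
          (hg.2 a (by simp)) w hw
    · simp only [Finset.mem_insert, Finset.mem_singleton] at hw
      rcases hw with rfl | rfl | rfl | rfl
      · exact hg.2 _ (by simp [hF])
      · exact hg.2 _ (by simp [hF])
      · exact hg.2 _ (by simp)
      · exact hcd' g hg.1 (hg.2 c (by simp))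
  have hKt : Nat.card (K ⊓ Subgroup.centralizer {t} : Subgroup _) = e₁ := by
    rw [cenfix, hCKt]
  have hKt' : Nat.card (K ⊓ Subgroup.centralizer {t'} : Subgroup _) = e₁ := by rw [cenfix, he₁']
  have hKs : Nat.card (K ⊓ Subgroup.centralizer {s} : Subgroup _) = e₂ := by rw [cenfix, he₂']
  have hxK : ∀ g ∈ K ⊓ Subgroup.centralizer {t}, g x = x := fun g hg => by
    rw [cenfix, hCKt] at hg
    exact hg.2 x (by simp [hF])
  have hLt : (L ⊓ Subgroup.centralizer {t} : Subgroup _) = K ⊓ Subgroup.centralizer {t} := by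
    refine le_antisymm (inf_le_inf_right _ (fixer_anti (four_subset a b c d x))) fun g hg => ?_
    refine ⟨⟨hg.1.1, fun w hw => ?_⟩, hg.2⟩
    simp only [Finset.mem_insert, Finset.mem_singleton] at hw
    rcases hw with rfl | rfl | rfl | rfl | rfl
    all_goals first | exact hxK g hg | exact hg.1.2 _ (by simp)
  have hLt' : (L ⊓ Subgroup.centralizer {t'} : Subgroup _) = K ⊓ Subgroup.centralizer {t'} := by
    refine le_antisymm (inf_le_inf_right _ (fixer_anti (four_subset a b c d x))) fun g hg => ?_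
    refine ⟨⟨hg.1.1, fun w hw => ?_⟩, hg.2⟩
    have hgx : g x = x := by
      have hc' : g * t' = t' * g := Subgroup.mem_centralizer_singleton_iff.mp hg.2
      have h : t' (g x) = g x := by rw [← Perm.mul_apply, ← hc', Perm.mul_apply, ht'x]
      rcases fix3 t' ht'G ht'2 ht'1 c d x _ hcd hxc.symm hxd.symm ht'c ht'd ht'x h with e | e | e
      · exact absurd (g.injective (e.trans (hg.1.2 c (by simp)).symm)) hxc
      · exact absurd (g.injective (e.trans (hg.1.2 d (by simp)).symm)) hxd
      · exact e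
    simp only [Finset.mem_insert, Finset.mem_singleton] at hw
    rcases hw with rfl | rfl | rfl | rfl | rfl
    all_goals first | exact hgx | exact hg.1.2 _ (by simp)
  have hLs : Nat.card (L ⊓ Subgroup.centralizer {s} : Subgroup _) = e₃ := by rw [cenfix, he₃'']
  have hKinv : ∀ w ∈ ({a, b, c, d} : Finset α), t w ∈ ({a, b, c, d} : Finset α) := by
    simp [hta, htb, htc, htd]
  have hKinv' : ∀ w ∈ ({a, b, c, d} : Finset α), t' w ∈ ({a, b, c, d} : Finset α) := by
    simp [ht'a, ht'b, ht'c, ht'd]
  have hLinv : ∀ w ∈ ({a, b, c, d, x} : Finset α), t w ∈ ({a, b, c, d, x} : Finset α) := by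
    simp [hta, htb, htc, htd, htx]
  have hLinv' : ∀ w ∈ ({a, b, c, d, x} : Finset α), t' w ∈ ({a, b, c, d, x} : Finset α) := by
    simp [ht'a, ht'b, ht'c, ht'd, ht'x]
  have hκ : Nat.card K * v ^ 2 = e₁ * e₁ * e₂ := by
    have h := klein_card_formula (H := K) (hodd _ (by simp [hab, hac, had, hbc, hbd, hcd])) ht2
      ht'2 hcomm
      (hinv t ht ht2 _ hKinv) (hinv t' ht'G ht'2 _ hKinv')
    rwa [hKt, hKt', ← hsdef, hKs] at h
  have hlam : Nat.card L * v ^ 2 = e₁ * e₁ * e₃ := by
    have h := klein_card_formula (H := L)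
      (hodd _ (by simp [hab, hac, had, hbc, hbd, hcd, hax, hbx, hxc.symm, hxd.symm])) ht2
      ht'2 hcomm
      (hinv t ht ht2 _ hLinv) (hinv t' ht'G ht'2 _ hLinv')
    rwa [hLt', hLt, hKt, hKt', ← hsdef, hLs] at h
  set O := Finset.univ.filter fun z => ∃ g ∈ K, g x = z with hO
  have hKO : Nat.card K = O.card * Nat.card L := by
    have h := card_fixer_orbit (H := G) (S := {a, b, c, d}) (y := x) O (fun z => by simp [hO, K])
    rw [insert_four] at h
    exact h
  have he₁pos : 0 < e₁ := Nat.card_pos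
  have he₃pos : 0 < e₃ := Nat.card_pos
  have hvpos : 0 < v := Nat.card_pos
  have hOi : O.card = i := by
    have h1 : (O.card * e₃) * (e₁ * e₁) = (i * e₃) * (e₁ * e₁) := by
      calc (O.card * e₃) * (e₁ * e₁) = O.card * (e₁ * e₁ * e₃) := by ring
        _ = Nat.card K * v ^ 2 := by rw [← hlam, hKO]; ring
        _ = _ := by rw [hκ, he₂i]; ring
    exact Nat.eq_of_mul_eq_mul_right he₃pos
      (Nat.eq_of_mul_eq_mul_right (Nat.mul_pos he₁pos he₁pos) h1)
  have hGcard : Nat.card G = Fintype.card α * (Fintype.card α - 1) * (Fintype.card α - 2) *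
      (Fintype.card α - 3) * Nat.card K := by
    have hc4 : ({a, b, c, d} : Finset α).card = 4 := by simp [hab, hac, had, hbc, hbd, hcd]
    rw [card_eq_descFactorial_mul hG hk {a, b, c, d} hc4.le, hc4]
    simp only [Nat.descFactorial_succ, Nat.descFactorial_zero]
    simp only [Nat.sub_zero, mul_one]
    ring
  rcases hi13 with hi1 | hi3
  swap
  · -- degree seven
    left; left
    set O' := Finset.univ.filter fun z => ∃ g ∈ fixer (cen G s) {a, b, c, d}, g x = z with hO'
    have hO'c : O'.card = 3 := by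
      have h := card_fixer_orbit (H := cen G s) (S := {a, b, c, d}) (y := x) O'
        (fun z => by simp [hO'])
      rw [insert_four, he₂',
        he₃'', he₂i, hi3] at h
      exact (Nat.eq_of_mul_eq_mul_right he₃pos h).symm
    have hOO : O' = O := by
      refine Finset.eq_of_subset_of_card_le (fun z hz => ?_) (by rw [hO'c, hOi, hi3])
      obtain ⟨g, hg, rfl⟩ := (Finset.mem_filter.mp hz).2
      exact Finset.mem_filter.mpr ⟨Finset.mem_univ _, g, ⟨(mem_cen.mp hg.1).1, hg.2⟩, rfl⟩
    have hOs : ∀ z ∈ O, s z = z ∧ z ≠ a ∧ z ≠ b ∧ z ≠ c ∧ z ≠ d := by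
      intro z hz
      rw [← hOO] at hz
      obtain ⟨g, hg, rfl⟩ := (Finset.mem_filter.mp hz).2
      refine ⟨by rw [← Perm.mul_apply, ← (mem_cen.mp hg.1).2, Perm.mul_apply, hsx], ?_, ?_, ?_, ?_⟩
      · exact fun e => hax.symm (g.injective (e.trans (hg.2 a (by simp)).symm))
      · exact fun e => hbx.symm (g.injective (e.trans (hg.2 b (by simp)).symm))
      · exact fun e => hxc (g.injective (e.trans (hg.2 c (by simp)).symm))
      · exact fun e => hxd (g.injective (e.trans (hg.2 d (by simp)).symm))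
    have hxO : x ∈ O := Finset.mem_filter.mpr ⟨Finset.mem_univ _, 1, K.one_mem, rfl⟩
    obtain ⟨p, hp, q, hq, hpq⟩ := Finset.one_lt_card.mp (show 1 < (O.erase x).card by
      rw [Finset.card_erase_of_mem hxO, hOi, hi3]; norm_num)
    obtain ⟨hpx, hpO⟩ := Finset.mem_erase.mp hp
    obtain ⟨hsp, hpa, hpb, hpc, hpd⟩ := hOs p hpO
    have hpM : p ∈ M' := hmemM'.mpr ⟨hpd, hpc, hmemMv.mpr fun e => by
      rcases hmemF.mp (hfixF.mp e) with e' | e' | e'
      exacts [hpa e', hpb e', hpx e']⟩
    have heq : fixer (cen G t) (insert c F) = fixer (cen G t) (insert p (insert c F)) := by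
      refine le_antisymm (fun g hg => ⟨hg.1, fun w hw => ?_⟩) (fixer_anti (Finset.subset_insert _ _))
      rcases Finset.mem_insert.mp hw with rfl | hw
      swap
      · exact hg.2 w hw
      have hgK : g ∈ K := by
        rw [← hCKt] at hg
        exact ⟨(mem_cen.mp hg.1).1, hg.2⟩
      have hgx : g x = x := hg.2 x (by simp [hF])
      have hmapsO : ∀ z ∈ O.erase x, g z ∈ O.erase x := by
        intro z hz
        obtain ⟨hzx, hzO⟩ := Finset.mem_erase.mp hz
        obtain ⟨k, hk', rfl⟩ := (Finset.mem_filter.mp hzO).2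
        exact Finset.mem_erase.mpr ⟨fun e => hzx (g.injective (e.trans hgx.symm)),
          Finset.mem_filter.mpr ⟨Finset.mem_univ _, g * k, K.mul_mem hgK hk', rfl⟩⟩
      have hpair : O.erase x = {w, q} := by
        refine (Finset.eq_of_subset_of_card_le ?_ ?_).symm
        · intro z hz
          simp only [Finset.mem_insert, Finset.mem_singleton] at hz
          rcases hz with rfl | rfl <;> assumption
        · rw [Finset.card_erase_of_mem hxO, hOi, hi3, Finset.card_pair hpq]
      have h1 := hmapsO w hp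
      rw [hpair, Finset.mem_insert, Finset.mem_singleton] at h1
      rcases h1 with h1 | h1
      · exact h1
      exfalso
      have h2 := hmapsO q hq
      rw [hpair, Finset.mem_insert, Finset.mem_singleton] at h2
      rcases h2 with h2 | h2
      · have := (pow_odd_apply_of_swap h1 h2 (odd_orderOf hodd (S := {a, b, c, d})
          (by simp [hab, hac, had, hbc, hbd, hcd]) hgK.1 hgK.2)).1
        rw [pow_orderOf_eq_one, Perm.one_apply] at this
        exact hpq this
      · exact hpq (g.injective (h1.trans h2.symm))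
    have h13 : e₁ = e₃ := by
      rw [← he₃y p hpM, he₁]
      simp only [C, heq]
    have hn7 : Fintype.card α = 7 := by
      rw [he₂i, hi3, h13] at hmain
      have : Fintype.card α - 5 = 2 :=
        Nat.eq_of_mul_eq_mul_right (show 0 < 3 * e₃ by omega) (by rw [← hmain]; ring)
      omega
    have hL1 : Nat.card L = 1 := by
      rw [Subgroup.card_eq_one, Subgroup.eq_bot_iff_forall]
      intro g hg
      have hgo : Odd (orderOf g) := odd_orderOf hodd (S := {a, b, c, d, x})
        (by simp [hab, hac, had, hbc, hbd, hcd, hax, hbx, hxc.symm, hxd.symm]) hg.1 hg.2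
      have hsup : g.support ⊆ ({a, b, c, d, x} : Finset α)ᶜ := fun z hz =>
        Finset.mem_compl.mpr fun h => Perm.mem_support.mp hz (hg.2 z h)
      have h2 : g.support.card ≤ 2 := by
        have := Finset.card_le_card hsup
        rw [Finset.card_compl, hn7] at this
        simpa [hab, hac, had, hbc, hbd, hcd, hax, hbx, hxc.symm, hxd.symm] using this
      by_contra hg1
      have h3 : g.IsSwap := card_support_eq_two.mp (le_antisymm h2 (two_le_card_support_of_ne_one hg1))
      obtain ⟨u, w, huw, rfl⟩ := h3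
      rw [orderOf_eq_prime (p := 2) (by rw [sq, Equiv.swap_mul_self]) hg1] at hgo
      exact absurd hgo (by decide)
    refine ⟨hn7, ?_⟩
    rw [hGcard, hKO, hL1, hOi, hi3, hn7]
  -- the fixer of four points fixes a fifth
  rw [hi1] at he₂i hOi
  rw [one_mul] at he₂i
  have hKx : ∀ g ∈ K, g x = x := by
    obtain ⟨z, hz⟩ := Finset.card_eq_one.mp hOi
    intro g hg
    have h1 : g x ∈ O := Finset.mem_filter.mpr ⟨Finset.mem_univ _, g, hg, rfl⟩
    have h2 : x ∈ O := Finset.mem_filter.mpr ⟨Finset.mem_univ _, 1, K.one_mem, rfl⟩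
    rw [hz, Finset.mem_singleton] at h1 h2
    rw [h1, ← h2]
  by_cases hl : e₁ = e₃
  · -- degree eleven
    left; right
    have he1 : e₁ = 1 := by
      change Nat.card (fixer (cen G t) (insert c F)) = 1
      rw [Subgroup.card_eq_one, Subgroup.eq_bot_iff_forall]
      intro g hg
      refine Equiv.ext fun z => ?_
      rw [Perm.one_apply]
      by_cases hzc : z = c
      · exact hg.2 z (by simp [hzc])
      by_cases hzd : z = d
      · rw [hzd]; exact hcd' g hg.1 (hg.2 c (by simp))
      by_cases hzF : z ∈ F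
      · exact hg.2 z (by simp [hzF])
      have hzM : z ∈ M' := hmemM'.mpr ⟨hzd, hzc, by rw [hMv, Finset.mem_compl]; exact hzF⟩
      have heq : fixer (cen G t) (insert z (insert c F)) = fixer (cen G t) (insert c F) :=
        Subgroup.eq_of_le_of_card_ge (fixer_anti (Finset.subset_insert _ _))
          (by rw [show Nat.card (fixer (cen G t) (insert z (insert c F))) = e₃ from he₃y z hzM];
              exact hl.le)
      rw [← heq] at hg
      exact hg.2 z (by simp)
    rw [he₂i, ← hl, he1] at hmain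
    have hn11 : Fintype.card α = 11 := by omega
    refine ⟨hn11, ?_⟩
    have : Nat.card K = 1 := by
      rw [he₂i, ← hl, he1] at hκ
      simp only [mul_one] at hκ
      exact Nat.eq_one_of_mul_eq_one_right hκ
    rw [hGcard, this, hn11]
  right
  -- the fixer of `a, b, x, c` is the fixer of `a, b, c, d`
  have hKK : fixer G {a, b, x, c} = K := by
    symm
    refine Subgroup.eq_of_le_of_card_ge ?_ (le_of_eq ?_)
    · intro g hg
      refine ⟨hg.1, fun w hw => ?_⟩
      simp only [Finset.mem_insert, Finset.mem_singleton] at hw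
      rcases hw with rfl | rfl | rfl | rfl
      · exact hg.2 _ (by simp)
      · exact hg.2 _ (by simp)
      · exact hKx g hg
      · exact hg.2 _ (by simp)
    · exact card_fixer_of_trans hG hk (by simp [hab, hax, hbx, hac, hbc, hxc])
        (by simp [hab, hax, hbx, hac, hbc, hxc, had, hbd, hcd])
  rw [hKK]
  refine ⟨fun g hg => hg.2 d (by simp), fun z hz => ?_, fun hall => ?_⟩
  · -- `C(t)` moves every other point
    by_contra hne
    simp only [not_or] at hne
    have hzM : z ∈ M' := hmemM'.mpr ⟨hne.2.2.2.2, hne.2.2.2.1, by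
      rw [hMv, Finset.mem_compl, hmemF]; simp [hne]⟩
    apply hl
    rw [← he₃y z hzM]
    refine congrArg (fun H : Subgroup (Perm α) => Nat.card H)
      (le_antisymm (fun g hg => ⟨hg.1, fun w hw => ?_⟩) (fixer_anti (Finset.subset_insert _ _)))
    rcases Finset.mem_insert.mp hw with rfl | hw
    · rw [← hCKt] at hg
      exact hz g ⟨(mem_cen.mp hg.1).1, hg.2⟩
    · exact hg.2 w hw
  · -- otherwise the Klein group centralises the fixer
    apply hl
    have h1 : K ⊓ Subgroup.centralizer {t} = K := inf_eq_left.mpr fun g hg =>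
      Subgroup.mem_centralizer_singleton_iff.mpr (hall g hg)
    have hκe : Nat.card K = e₁ := by rw [← hKt, h1]
    have h2 : K ⊓ Subgroup.centralizer {t'} = K :=
      Subgroup.eq_of_le_of_card_ge inf_le_left (by rw [hKt', hκe])
    have hv : v = e₁ := by
      change Nat.card (K ⊓ Subgroup.centralizer {t'} ⊓ Subgroup.centralizer {t} : Subgroup _) = _
      rw [h2, h1, hκe]
    rw [hκe, hv, he₂i] at hκ
    exact Nat.eq_of_mul_eq_mul_left (Nat.mul_pos he₁pos he₁pos) (by rw [← hκ]; ring)

/-- Odd degree at least seven. -/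
theorem odd_degree (hG : MulAction.IsMultiplyPretransitive G α 4) (hn : 7 ≤ Fintype.card α)
    (hodd : ∀ S : Finset α, 4 ≤ S.card → Odd (Nat.card (fixer G S)))
    (ho : Odd (Fintype.card α)) :
    (Fintype.card α = 7 ∧ Nat.card G = 2520) ∨ (Fintype.card α = 11 ∧ Nat.card G = 7920) := by
  classical
  by_contra hbad
  have hk : 4 ≤ Fintype.card α := by omega
  obtain ⟨Q, -, hQ⟩ := Finset.exists_subset_card_eq (s := (Finset.univ : Finset α)) (n := 4)
    (by rw [Finset.card_univ]; omega)
  obtain ⟨a, b, c, d, hab, hac, had, hbc, hbd, hcd, rfl⟩ := Finset.card_eq_four.mp hQ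
  obtain ⟨g, hg, g1, g2, g3, g4⟩ :=
    map_four hG hk hab hac had hbc hbd hcd hab had hac hbd hbc hcd.symm
  obtain ⟨t, ht, ht2, htc, htd, htS⟩ := exists_involution_of_swap hg (a := c) (b := d) (S := {a, b})
    g3 g4 (fun w hw => by
      simp only [Finset.mem_insert, Finset.mem_singleton] at hw
      rcases hw with rfl | rfl <;> assumption)
    (hodd _ (by simp [hab, hac.symm, had.symm, hbc.symm, hbd.symm, hcd]))
  have hta : t a = a := htS a (by simp)
  have htb : t b = b := htS b (by simp)
  -- the third fixed point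
  obtain ⟨x, hxa, hxb, htx⟩ : ∃ x, x ≠ a ∧ x ≠ b ∧ t x = x := by
    by_contra hno
    simp only [not_exists, not_and] at hno
    have h1 : (Finset.univ.filter fun x => t x = x) = {a, b} := by
      ext z
      simp only [Finset.mem_filter, Finset.mem_univ, true_and, Finset.mem_insert,
        Finset.mem_singleton]
      refine ⟨fun h => ?_, by rintro (rfl | rfl) <;> assumption⟩
      by_contra hz
      simp only [not_or] at hz
      exact hno z hz.1 hz.2 h
    have h2 := card_fixed_add (t := t)
    have h3 := even_card_support ht2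
    rw [h1, Finset.card_pair hab] at h2
    rw [Nat.odd_iff] at ho
    rw [Nat.even_iff] at h3
    omega
  have hxc : x ≠ c := fun e => hcd (by rw [e] at htx; exact htx.symm.trans htc)
  obtain ⟨-, -, h3⟩ :=
    (config hG hn hodd ho ht ht2 hta htb htc htx hab hxa.symm hxb.symm hcd).resolve_left hbad
  apply h3
  intro k hk'
  have hfixt : ∀ z, t z = z → z = a ∨ z = b ∨ z = x := by
    intro z hz
    by_contra hne
    simp only [not_or] at hne
    have := eq_one_of_sq_of_odd (hodd {z, a, b, x} (by simp [hne, hab, hxa.symm, hxb.symm])) ⟨ht,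
      fun w hw => by
        simp only [Finset.mem_insert, Finset.mem_singleton] at hw
        rcases hw with rfl | rfl | rfl | rfl <;> assumption⟩ (by rw [sq, ht2])
    exact hcd (by rw [this] at htc; simpa using htc)
  -- `t` is the only such involution fixing `a`, `b`, `x`
  have hka : k a = a := hk'.2 a (by simp)
  have hkb : k b = b := hk'.2 b (by simp)
  have hkx : k x = x := hk'.2 x (by simp)
  set t₁ := k * t * k⁻¹ with ht₁
  have hkinv : ∀ z, k z = z → k⁻¹ z = z := fun z hz => by rw [Perm.inv_eq_iff_eq]; exact hz.symm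
  have h1a : t₁ a = a := by rw [ht₁, Perm.mul_apply, Perm.mul_apply, hkinv a hka, hta, hka]
  have h1b : t₁ b = b := by rw [ht₁, Perm.mul_apply, Perm.mul_apply, hkinv b hkb, htb, hkb]
  have h1x : t₁ x = x := by rw [ht₁, Perm.mul_apply, Perm.mul_apply, hkinv x hkx, htx, hkx]
  have ht₁G : t₁ ∈ G := G.mul_mem (G.mul_mem hk'.1 ht) (G.inv_mem hk'.1)
  have ht₁2 : t₁ * t₁ = 1 := by
    calc t₁ * t₁ = k * (t * t) * k⁻¹ := by rw [ht₁]; group
      _ = 1 := by rw [ht2]; group
  have key : t₁ = t := by
    refine Equiv.ext fun z => ?_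
    by_cases hz : z = a ∨ z = b ∨ z = x
    · rcases hz with rfl | rfl | rfl
      · rw [h1a, hta]
      · rw [h1b, htb]
      · rw [h1x, htx]
    have hmov : t₁ z ≠ z := fun e => hz (by
      have h : t (k⁻¹ z) = k⁻¹ z := by
        apply k.injective
        rw [Perm.inv_def, Equiv.apply_symm_apply]
        exact e
      rcases hfixt _ h with h' | h' | h'
      · exact Or.inl (by rw [← hka, ← h', Perm.inv_def, Equiv.apply_symm_apply])
      · exact Or.inr (Or.inl (by rw [← hkb, ← h', Perm.inv_def, Equiv.apply_symm_apply]))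
      · exact Or.inr (Or.inr (by rw [← hkx, ← h', Perm.inv_def, Equiv.apply_symm_apply])))
    simp only [not_or] at hz
    have hmt : t z ≠ z := fun e => by rcases hfixt z e with h | h | h <;> simp [h] at hz
    obtain ⟨-, hu, -⟩ := (config hG hn hodd ho ht ht2 hta htb (c := z) rfl htx hab hxa.symm
      hxb.symm hmt.symm).resolve_left hbad
    obtain ⟨hd', -, -⟩ := (config hG hn hodd ho ht₁G ht₁2 h1a h1b (c := z) rfl h1x hab hxa.symm
      hxb.symm hmov.symm).resolve_left hbad
    rcases hu (t₁ z) hd' with h | h | h | h | h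
    · exact absurd (t₁.injective (h.trans h1a.symm)) hz.1
    · exact absurd (t₁.injective (h.trans h1b.symm)) hz.2.1
    · exact absurd (t₁.injective (h.trans h1x.symm)) hz.2.2
    · exact absurd h hmov
    · exact h
  calc k * t = t₁ * k := by rw [ht₁]; group
    _ = t * k := by rw [key]

end CfsgLib.LivWag.Hall
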