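import Cfsg.Agent.Lib.LivWag.Alternating

/-!
A `j`-homogeneous, `(j - 1)`-transitive group of degree at least `j + 2` is `j`-transitive when
`5 ≤ j`.

Otherwise every set stabiliser of a `j`-set induces the alternating group, so the fixers of
`j - 2` points have odd order and every involution has few fixed points. For `6 ≤ j` three
transpositions of an involution give an odd permutation of a `j`-set; for `j = 5` the centraliser
of an involution, acting on its transpositions, gives a contradiction.
-/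

namespace CfsgLib.LivWag

open Equiv Equiv.Perm

variable {α : Type*} [Fintype α] [DecidableEq α] {G : Subgroup (Perm α)} {j : ℕ}

/-- Carrying the alternating group over to the image of a set. -/
theorem alternating_le_image {g : Perm α} (hg : g ∈ G) {S T : Finset α} (hST : S.image g = T)
    (h : alternatingGroup ↥S ≤ inducedPerms G S) : alternatingGroup ↥T ≤ inducedPerms G T := by
  intro σ hσ
  have hmem : ∀ x : ↥S, g x ∈ T := fun x => by
    have := Finset.mem_image_of_mem g x.2
    rwa [hST] at this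
  let e : ↥S ≃ ↥T := Equiv.ofBijective (fun x => (⟨g x, hmem x⟩ : ↥T))
    ⟨fun x y h => Subtype.ext (g.injective (congrArg Subtype.val h)), fun y => by
      obtain ⟨x, hx, he⟩ := Finset.mem_image.mp (show (y : α) ∈ S.image g by rw [hST]; exact y.2)
      exact ⟨⟨x, hx⟩, Subtype.ext he⟩⟩
  have hσ' : e.symm.permCongr σ ∈ alternatingGroup ↥S := by
    rw [mem_alternatingGroup, sign_permCongr]
    exact mem_alternatingGroup.mp hσ
  obtain ⟨h', hh', hx⟩ := h hσ'
  refine ⟨g * h' * g⁻¹, G.mul_mem (G.mul_mem hg hh') (G.inv_mem hg), fun y => ?_⟩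
  obtain ⟨x, rfl⟩ := e.surjective y
  change (g * h' * g⁻¹) (g x) = _
  rw [Perm.mul_apply, Perm.mul_apply, Perm.inv_def, Equiv.symm_apply_apply, hx x,
    Equiv.permCongr_apply, Equiv.symm_symm]
  change ((e (e.symm (σ (e x))) : ↥T) : α) = _
  rw [Equiv.apply_symm_apply]

/-- Homogeneous, with all permutations induced on each set: multiply transitive. -/
theorem isMultiplyPretransitive_of_induced
    (hh : MulAction.IsPretransitive G (Set.powersetCard α j))
    (h : ∀ S : Finset α, S.card = j → inducedPerms G S = ⊤) :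
    MulAction.IsMultiplyPretransitive G α j := by
  rw [MulAction.isMultiplyPretransitive_iff]
  intro u v
  set S := Finset.univ.image u with hS
  set T := Finset.univ.image v with hT
  have hSc : S.card = j := by rw [hS, Finset.card_image_of_injective _ u.injective]; simp
  have hTc : T.card = j := by rw [hT, Finset.card_image_of_injective _ v.injective]; simp
  obtain ⟨g, hg, hgST⟩ := exists_image_eq hh hSc hTc
  have hmem : ∀ i, g (u i) ∈ T := fun i =>
    hgST ▸ Finset.mem_image_of_mem g (Finset.mem_image_of_mem _ (Finset.mem_univ i))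
  let p : Fin j ≃ ↥T := Equiv.ofBijective (fun i => ⟨g (u i), hmem i⟩)
    ((Fintype.bijective_iff_injective_and_card _).mpr
      ⟨fun a b hab => u.injective (g.injective (congrArg Subtype.val hab)), by simp [hTc]⟩)
  let q : Fin j ≃ ↥T := Equiv.ofBijective
    (fun i => ⟨v i, Finset.mem_image_of_mem _ (Finset.mem_univ i)⟩)
    ((Fintype.bijective_iff_injective_and_card _).mpr
      ⟨fun a b hab => v.injective (congrArg Subtype.val hab), by simp [hTc]⟩)
  obtain ⟨h', hh', hx⟩ :=
    (show p.symm.trans q ∈ inducedPerms G T by rw [h T hTc]; exact Subgroup.mem_top _)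
  refine ⟨⟨h' * g, G.mul_mem hh' hg⟩, ?_⟩
  ext i
  change h' (g (u i)) = v i
  rw [show g (u i) = (p i : α) from rfl, hx (p i), Equiv.trans_apply, Equiv.symm_apply_apply]
  rfl

/-- An odd induced permutation next to the alternating group gives all permutations. -/
theorem induced_eq_top_of_odd {S : Finset α} (hA : alternatingGroup ↥S ≤ inducedPerms G S)
    {g : Perm α} (hg : g ∈ G) {τ : Perm α} (hτ : ∀ x, x ∉ S → τ x = x)
    (hgτ : ∀ x ∈ S, g x = τ x) (hs : sign τ ≠ 1) : inducedPerms G S = ⊤ := by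
  have hmaps : ∀ x, τ x ∈ S ↔ x ∈ S := by
    intro x
    constructor
    · intro h
      by_contra hx
      exact hx (hτ x hx ▸ h)
    · intro hx
      by_contra h
      have := τ.injective (hτ _ h)
      exact h (this.symm ▸ hx)
  set σ : Perm ↥S := τ.subtypePerm hmaps with hσ
  have hσL : σ ∈ inducedPerms G S := ⟨g, hg, fun x => by rw [hgτ x x.2]; rfl⟩
  have hsσ : sign σ = -1 := by
    refine Eq.trans ?_ ((Int.units_eq_one_or _).resolve_left hs)
    convert sign_subtypePerm τ hmaps fun x hx => by_contra fun h => hx (hτ x h) using 3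
  rw [eq_top_iff]
  intro π _
  rcases Int.units_eq_one_or (sign π) with h1 | h1
  · exact hA (mem_alternatingGroup.mpr h1)
  · have : π * σ ∈ inducedPerms G S :=
      hA (mem_alternatingGroup.mpr (by rw [map_mul, h1, hsσ]; rfl))
    simpa using mul_mem this (inv_mem hσL)

/-- The sign of a fixed-point-free involution. -/
theorem sign_of_fixedPointFree {β : Type*} [Fintype β] [DecidableEq β] (π : Perm β)
    (h2 : π * π = 1) (hf : ∀ x, π x ≠ x) :
    2 ∣ Fintype.card β ∧ sign π = (-1) ^ (Fintype.card β / 2) := by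
  have h : ∀ n ∈ π.cycleType, n = 2 := fun n hn => by
    have h1 : n ∣ 2 := (dvd_of_mem_cycleType hn).trans (orderOf_dvd_of_pow_eq_one (by rw [sq, h2]))
    have h3 := two_le_of_mem_cycleType hn
    have := Nat.le_of_dvd two_pos h1
    omega
  have hrep : π.cycleType = Multiset.replicate π.cycleType.card 2 :=
    Multiset.eq_replicate_card.mpr h
  have hsum : π.cycleType.sum = Fintype.card β := by
    rw [sum_cycleType, ← Finset.card_univ]
    congr 1
    exact Finset.eq_univ_iff_forall.mpr fun x => mem_support.mpr (hf x)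
  set c := π.cycleType.card
  have hc : Fintype.card β = c * 2 := by rw [← hsum, hrep, Multiset.sum_replicate, smul_eq_mul]
  refine ⟨⟨c, by omega⟩, ?_⟩
  rw [sign_of_cycleType, hsum, hc, Nat.mul_div_cancel _ two_pos, pow_add, pow_mul', neg_one_sq,
    one_pow, one_mul]

/-- An element of odd order has sign one under every homomorphism to `ℤˣ`. -/
theorem map_eq_one_of_odd {M : Type*} [Group M] (f : M →* ℤˣ) {x : M} (hx : Odd (orderOf x)) :
    f x = 1 := by
  obtain ⟨q, hq⟩ := hx
  have h : f x ^ (2 * q + 1) = 1 := by rw [← map_pow, ← hq, pow_orderOf_eq_one, map_one]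
  rwa [pow_succ, pow_mul, Int.units_sq, one_pow, one_mul] at h

/-- Degree five: the fixer of two points has no subgroup of order eight. -/
theorem not_eight_dvd
    (inv3 : ∀ t ∈ G, t * t = 1 → ∀ x y z, x ≠ y → x ≠ z → y ≠ z →
      t x = x → t y = y → t z = z → t = 1)
    (sq1 : ∀ g ∈ G, ∀ c, g c = c → ∀ i, orderOf g = 2 ^ i → g * g = 1)
    {a b c d : α} (hac : a ≠ c) (had : a ≠ d) (hcd : c ≠ d)
    {t' : Perm α} (ht'G : t' ∈ G) (ht'2 : t' * t' = 1) (ht'c : t' c = d) (ht'd : t' d = c)
    (ht'a : t' a = a) (ht'fix : ∀ x, t' x = x → x = a ∨ x = b) :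
    ¬ 8 ∣ Nat.card (fixer G {c, d}) := by
  classical
  set M := fixer G {c, d} with hM
  have hmemM : ∀ {g}, g ∈ M ↔ g ∈ G ∧ g c = c ∧ g d = d := by simp [hM, mem_fixer]
  intro h8
  set H := setStab G {c, d} with hH
  have ht'H : t' ∈ H := mem_setStab_of_maps ht'G fun x hx => by
    simp only [Finset.mem_insert, Finset.mem_singleton] at hx ⊢
    rcases hx with rfl | rfl
    · exact Or.inr ht'c
    · exact Or.inl ht'd
  have hMH : M ≤ H := fun g hg => mem_setStab_of_maps hg.1 fun x hx => by rwa [hg.2 x hx]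
  have hswap : ∀ g ∈ H, g ∉ M → g c = d ∧ g d = c := by
    intro g hg hgM
    have e1 : g c ∈ ({c, d} : Finset α) := (apply_mem_of_setStab hg).mpr (by simp)
    have e2 : g d ∈ ({c, d} : Finset α) := (apply_mem_of_setStab hg).mpr (by simp)
    simp only [Finset.mem_insert, Finset.mem_singleton] at e1 e2
    rcases e1 with e1 | e1 <;> rcases e2 with e2 | e2
    · exact absurd (g.injective (e1.trans e2.symm)) hcd
    · exact absurd (hmemM.mpr ⟨hg.1, e1, e2⟩) hgM
    · exact ⟨e1, e2⟩
    · exact absurd (g.injective (e1.trans e2.symm)) hcd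
  have ht'M : t' ∉ M := fun h => hcd ((hmemM.mp h).2.1.symm.trans ht'c)
  have hHcard : Nat.card H = Nat.card M * 2 := by
    have e : M × Bool ≃ H := Equiv.ofBijective
      (fun z => if z.2 then ⟨z.1 * t', H.mul_mem (hMH z.1.2) ht'H⟩ else ⟨z.1, hMH z.1.2⟩) ⟨?_, ?_⟩
    · rw [← Nat.card_congr e, Nat.card_prod, Nat.card_eq_fintype_card (α := Bool), Fintype.card_bool]
    · rintro ⟨⟨x, hx⟩, _ | _⟩ ⟨⟨y, hy⟩, _ | _⟩ h <;> simp at h
      · simp [h]
      · exact absurd (show t' ∈ M by
          rw [show t' = y⁻¹ * x by rw [h]; group]; exact M.mul_mem (M.inv_mem hy) hx) ht'M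
      · exact absurd (show t' ∈ M by
          rw [show t' = x⁻¹ * y by rw [← h]; group]; exact M.mul_mem (M.inv_mem hx) hy) ht'M
      · simp [h]
    · rintro ⟨g, hg⟩
      by_cases hgM : g ∈ M
      · exact ⟨(⟨g, hgM⟩, false), by simp⟩
      · obtain ⟨e1, e2⟩ := hswap g hg hgM
        refine ⟨(⟨g * t', hmemM.mpr ⟨G.mul_mem hg.1 ht'G, ?_, ?_⟩⟩, true), ?_⟩
        · rw [Perm.mul_apply, ht'c, e2]
        · rw [Perm.mul_apply, ht'd, e1]
        · simp [mul_assoc, ht'2]
  have hz : IsPGroup 2 (Subgroup.zpowers (⟨t', ht'H⟩ : H)) := by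
    refine IsPGroup.of_card (n := 1) ?_
    rw [Nat.card_zpowers, Subgroup.orderOf_mk, pow_one]
    refine orderOf_eq_prime (by rw [sq, ht'2]) fun e => hcd ?_
    rw [← ht'c, e, Perm.one_apply]
  obtain ⟨P, hP⟩ := hz.exists_le_sylow
  have : Fact (Nat.Prime 2) := ⟨Nat.prime_two⟩
  have h16 : 2 ^ 4 ∣ Nat.card (P : Subgroup H) :=
    P.pow_dvd_card_of_pow_dvd_card (by
      rw [hHcard, show (2 : ℕ) ^ 4 = 8 * 2 by norm_num]; exact Nat.mul_dvd_mul_right h8 2)
  set P' := (P : Subgroup H).map H.subtype with hP'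
  have hP'p : IsPGroup 2 P' := P.2.map _
  have ht'P : t' ∈ P' := ⟨⟨t', ht'H⟩, hP (Subgroup.mem_zpowers _), rfl⟩
  have hP'H : P' ≤ H := Subgroup.map_subtype_le _
  set E : Finset (Perm α) := Finset.univ.filter fun g => g ∈ P' ∧ g ∈ M with hE
  have hmemE : ∀ {g}, g ∈ E ↔ g ∈ P' ∧ g ∈ M := by simp [hE]
  have hEsq : ∀ g ∈ E, g * g = 1 := by
    intro g hg
    obtain ⟨hgP, hgM⟩ := hmemE.mp hg
    obtain ⟨i, hi⟩ := hP'p ⟨g, hgP⟩
    have hi' : g ^ 2 ^ i = 1 := by simpa using congrArg Subtype.val hi
    obtain ⟨l, -, hl⟩ := (Nat.dvd_prime_pow Nat.prime_two).mp (orderOf_dvd_of_pow_eq_one hi')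
    exact sq1 g hgM.1 c (hmemM.mp hgM).2.1 l hl
  have hEmul : ∀ g ∈ E, ∀ h ∈ E, g * h ∈ E := fun g hg h hh =>
    hmemE.mpr ⟨P'.mul_mem (hmemE.mp hg).1 (hmemE.mp hh).1,
      M.mul_mem (hmemE.mp hg).2 (hmemE.mp hh).2⟩
  have hEinv : ∀ g ∈ E, g⁻¹ = g := fun g hg => inv_eq_of_mul_eq_one_right (hEsq g hg)
  have hEcomm : ∀ g ∈ E, ∀ h ∈ E, g * h = h * g := fun g hg h hh => by
    have := hEinv _ (hEmul g hg h hh)
    rwa [mul_inv_rev, hEinv g hg, hEinv h hh, eq_comm] at this
  have ht'inv : t'⁻¹ = t' := inv_eq_of_mul_eq_one_right ht'2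
  have ht't' : ∀ x, t' (t' x) = x := fun x => by rw [← Perm.mul_apply, ht'2, Perm.one_apply]
  have hEconj : ∀ g ∈ E, t' * g * t' ∈ E := by
    intro g hg
    obtain ⟨hgP, hgM⟩ := hmemE.mp hg
    obtain ⟨hgG, hgc, hgd⟩ := hmemM.mp hgM
    refine hmemE.mpr ⟨P'.mul_mem (P'.mul_mem ht'P hgP) ht'P,
      hmemM.mpr ⟨G.mul_mem (G.mul_mem ht'G hgG) ht'G, ?_, ?_⟩⟩
    · rw [Perm.mul_apply, Perm.mul_apply, ht'c, hgd, ht'd]
    · rw [Perm.mul_apply, Perm.mul_apply, ht'd, hgc, ht'c]
  set C := E.filter fun g => t' * g * t' = g with hC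
  have hC2 : C.card ≤ 2 := by
    have h1 : ∀ g ∈ C, g ≠ 1 → g a = b := by
      intro g hg hg1
      obtain ⟨hgE, hgc'⟩ := Finset.mem_filter.mp hg
      obtain ⟨hgG, hgc, hgd⟩ := hmemM.mp (hmemE.mp hgE).2
      have hfix : t' (g a) = g a := by
        conv_rhs => rw [← hgc', Perm.mul_apply, Perm.mul_apply, ht'a]
      rcases ht'fix _ hfix with e | e
      · exact absurd (inv3 g hgG (hEsq g hgE) c d a hcd hac.symm had.symm hgc hgd e) hg1
      · exact e
    have : C.erase 1 ⊆ C.filter (fun g => g a = b) := fun g hg =>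
      Finset.mem_filter.mpr ⟨Finset.mem_of_mem_erase hg,
        h1 g (Finset.mem_of_mem_erase hg) (Finset.mem_erase.mp hg).1⟩
    have h2 : (C.filter (fun g => g a = b)).card ≤ 1 := Finset.card_le_one.mpr fun g hg h hh => by
      obtain ⟨hgC, hga⟩ := Finset.mem_filter.mp hg
      obtain ⟨hhC, hha⟩ := Finset.mem_filter.mp hh
      have hgE := (Finset.mem_filter.mp hgC).1
      have hhE := (Finset.mem_filter.mp hhC).1
      have hghE := hEmul g hgE h hhE
      obtain ⟨hG', hc', hd'⟩ := hmemM.mp (hmemE.mp hghE).2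
      have : g * h = 1 := inv3 _ hG' (hEsq _ hghE) c d a hcd hac.symm had.symm hc' hd' (by
        rw [Perm.mul_apply, hha, ← hga, ← Perm.mul_apply, hEsq g hgE, Perm.one_apply])
      rw [← hEinv h hhE]; exact eq_inv_of_mul_eq_one_left this
    have := (Finset.card_le_card this).trans h2
    have := Finset.card_erase_add_one (s := C) (a := (1 : Perm α))
    by_cases h : (1 : Perm α) ∈ C
    · have := this h; omega
    · rw [Finset.erase_eq_of_notMem h] at *; omega
  let φ : Perm α → Perm α := fun g => g * (t' * g * t')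
  have hφ : ∀ g ∈ E, φ g ∈ C := by
    intro g hg
    refine Finset.mem_filter.mpr ⟨hEmul g hg _ (hEconj g hg), ?_⟩
    calc t' * (g * (t' * g * t')) * t' = t' * g * t' * g * (t' * t') := by group
      _ = t' * g * t' * g := by rw [ht'2, mul_one]
      _ = g * (t' * g * t') := hEcomm _ (hEconj g hg) g hg
  have hE4 : E.card ≤ 2 * 2 := by
    refine le_trans (Finset.card_le_mul_card_image_of_maps_to hφ 2 fun z _ => ?_)
      (Nat.mul_le_mul_left 2 hC2)
    rcases (E.filter fun g => φ g = z).eq_empty_or_nonempty with e | ⟨g₀, hg₀⟩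
    · rw [e]; simp
    obtain ⟨hg₀E, hg₀z⟩ := Finset.mem_filter.mp hg₀
    refine le_trans (Finset.card_le_card_of_injOn (fun g => g * g₀) ?_
      (fun g _ h _ e => mul_right_cancel e)) hC2
    intro g hg
    obtain ⟨hgE, hgz⟩ := Finset.mem_filter.mp (Finset.mem_coe.mp hg)
    refine Finset.mem_coe.mpr (Finset.mem_filter.mpr ⟨hEmul g hgE g₀ hg₀E, ?_⟩)
    have heq : g * (t' * g * t') = g₀ * (t' * g₀ * t') := hgz.trans hg₀z.symm
    calc t' * (g * g₀) * t' = t' * g * (t' * t') * g₀ * t' := by rw [ht'2, mul_one]; group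
      _ = t' * g * t' * (t' * g₀ * t') := by group
      _ = g * g * (t' * g * t') * (t' * g₀ * t') := by rw [hEsq g hgE, one_mul]
      _ = g * (g₀ * (t' * g₀ * t')) * (t' * g₀ * t') := by rw [← heq]; group
      _ = g * g₀ * ((t' * g₀ * t') * (t' * g₀ * t')) := by group
      _ = g * g₀ := by rw [hEsq _ (hEconj g₀ hg₀E), mul_one]
  have hP'E : Nat.card P' ≤ E.card * 2 := by
    have : Nat.card P' ≤ Nat.card (↥E × Bool) := by
      refine Nat.card_le_card_of_injective (fun g => if h : (g : Perm α) ∈ M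
        then (⟨g, hmemE.mpr ⟨g.2, h⟩⟩, false)
        else (⟨g * t', hmemE.mpr ⟨P'.mul_mem g.2 ht'P, ?_⟩⟩, true)) ?_
      · obtain ⟨e1, e2⟩ := hswap _ (hP'H g.2) h
        exact hmemM.mpr ⟨G.mul_mem (hP'H g.2).1 ht'G,
          by rw [Perm.mul_apply, ht'c, e2], by rw [Perm.mul_apply, ht'd, e1]⟩
      · intro g h e
        apply Subtype.ext
        by_cases hg : (g : Perm α) ∈ M <;> by_cases hh : (h : Perm α) ∈ M <;>
          simp only [hg, hh, dif_pos, dif_neg, not_false_eq_true, Prod.mk.injEq,
            Subtype.mk.injEq, mul_left_inj, Bool.false_eq_true, Bool.true_eq_false, and_true,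
            and_false] at e
        all_goals exact e
    simpa [Nat.card_prod] using this
  have hcard' : Nat.card P' = Nat.card (P : Subgroup H) :=
    (Nat.card_congr ((P : Subgroup H).equivMapOfInjective _ Subtype.val_injective).toEquiv).symm
  have := Nat.le_of_dvd Nat.card_pos h16
  omega

set_option maxHeartbeats 1600000 in
/-- Degree five: no group is `4`-transitive with exactly the alternating group on each `5`-set. -/
theorem five_absurd (hG : MulAction.IsMultiplyPretransitive G α 4) (hn : 7 ≤ Fintype.card α)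
    (hA : ∀ S : Finset α, S.card = 5 → alternatingGroup ↥S ≤ inducedPerms G S)
    (hev : ∀ S : Finset α, S.card = 5 → ∀ g ∈ G, ∀ τ : Perm α,
      (∀ x, x ∉ S → τ x = x) → (∀ x ∈ S, g x = τ x) → sign τ = 1)
    (hodd : ∀ S : Finset α, 3 ≤ S.card → Odd (Nat.card (fixer G S)))
    (heven : Even (Fintype.card α)) : False := by
  classical
  have hk : 4 ≤ Fintype.card α := by omega
  have inv3 : ∀ t ∈ G, t * t = 1 → ∀ x y z, x ≠ y → x ≠ z → y ≠ z →
      t x = x → t y = y → t z = z → t = 1 := by
    intro t htG ht2 x y z hxy hxz hyz hx hy hz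
    refine eq_one_of_sq_of_odd (hodd {x, y, z} (by simp [hxy, hxz, hyz])) ⟨htG, fun w hw => ?_⟩
      (by rw [sq, ht2])
    simp only [Finset.mem_insert, Finset.mem_singleton] at hw
    rcases hw with rfl | rfl | rfl <;> assumption
  -- no element of order four fixes a point
  have no4 : ∀ g ∈ G, ∀ c, g c = c → g ^ 4 = 1 → g ^ 2 = 1 := by
    intro g hg c hc h4
    by_contra h2
    obtain ⟨y, hy⟩ : ∃ y, g (g y) ≠ y := by
      by_contra hall
      simp only [not_exists, not_not] at hall
      exact h2 (Equiv.ext fun y => by rw [sq, Perm.mul_apply, hall, Perm.one_apply])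
    have h4' : ∀ x, g (g (g (g x))) = x := fun x => by
      have := Equiv.ext_iff.mp h4 x
      simpa [pow_succ, Perm.mul_apply] using this
    have h1 : g y ≠ y := fun e => hy (by rw [e, e])
    have h13 : g (g (g y)) ≠ y := fun e => h1 (by
      have := congrArg g e; rw [h4'] at this; exact this.symm)
    have h12 : g (g y) ≠ g y := fun e => h1 (g.injective e)
    have h123 : g (g (g y)) ≠ g y := fun e => hy (g.injective e)
    have h23 : g (g (g y)) ≠ g (g y) := fun e => h12 (g.injective e)
    have hc0 : y ≠ c := fun e => h1 (e ▸ hc)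
    have hc1 : g y ≠ c := fun e => hc0 (g.injective (e.trans hc.symm))
    have hc2 : g (g y) ≠ c := fun e => hc1 (g.injective (e.trans hc.symm))
    have hc3 : g (g (g y)) ≠ c := fun e => hc2 (g.injective (e.trans hc.symm))
    have := hev {c, y, g y, g (g y), g (g (g y))} (by
        simp [hc0.symm, hc1.symm, hc2.symm, hc3.symm, h1.symm, hy.symm, h13.symm, h12.symm,
          h123.symm, h23.symm]) g hg
      (swap y (g y) * swap (g y) (g (g y)) * swap (g (g y)) (g (g (g y)))) (by
        intro x hx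
        simp only [Finset.mem_insert, Finset.mem_singleton, not_or] at hx
        obtain ⟨-, x0, x1, x2, x3⟩ := hx
        simp [swap_apply_of_ne_of_ne, x0, x1, x2, x3]) (by
        intro x hx
        simp only [Finset.mem_insert, Finset.mem_singleton] at hx
        rcases hx with rfl | rfl | rfl | rfl | rfl
        · simp [hc, swap_apply_of_ne_of_ne, hc0.symm, hc1.symm, hc2.symm, hc3.symm]
        · simp [swap_apply_of_ne_of_ne, h1.symm, hy.symm, h13.symm]
        · simp [swap_apply_of_ne_of_ne, h12.symm, h123.symm, h1, hy]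
        · simp [swap_apply_of_ne_of_ne, h123, h13, h23, hy, h12]
        · rw [h4']
          simp [swap_apply_right])
    rw [map_mul, map_mul, sign_swap h1.symm, sign_swap h12.symm, sign_swap h23.symm] at this
    exact absurd this (by decide)
  have sq1 : ∀ g ∈ G, ∀ c, g c = c → ∀ i, orderOf g = 2 ^ i → g * g = 1 := by
    intro g hg c hc i hi
    rcases Nat.lt_or_ge i 2 with h | h
    · rw [← sq, ← orderOf_dvd_iff_pow_eq_one, hi]
      exact (pow_dvd_pow 2 (by omega : i ≤ 1)).trans (by norm_num)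
    · exfalso
      set g' := g ^ 2 ^ (i - 2)
      have h4 : g' ^ 4 = 1 := by
        rw [← pow_mul, show 2 ^ (i - 2) * 4 = 2 ^ i by
          rw [show (4 : ℕ) = 2 ^ 2 by norm_num, ← pow_add, Nat.sub_add_cancel h], ← hi,
          pow_orderOf_eq_one]
      have h2 := no4 g' (G.pow_mem hg _) c (pow_apply_of_fixed hc _) h4
      rw [← pow_mul, ← pow_succ, ← orderOf_dvd_iff_pow_eq_one, hi,
        Nat.pow_dvd_pow_iff_le_right (by norm_num)] at h2
      omega
  -- four points and two involutions
  obtain ⟨Q, -, hQ⟩ := Finset.exists_subset_card_eq (s := (Finset.univ : Finset α)) (n := 4)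
    (by rw [Finset.card_univ]; omega)
  obtain ⟨a, b, c, d, hab, hac, had, hbc, hbd, hcd, rfl⟩ := Finset.card_eq_four.mp hQ
  have mkInv : ∀ a b c d : α, a ≠ b → a ≠ c → a ≠ d → b ≠ c → b ≠ d → c ≠ d →
      ∃ t ∈ G, t * t = 1 ∧ t a = b ∧ t b = a ∧ t c = c ∧ t d = d ∧
        ∀ x, t x = x → x = c ∨ x = d := by
    intro a b c d hab hac had hbc hbd hcd
    obtain ⟨g, hg, hgf⟩ := exists_map hG hk {a, b, c, d} (by
      simp [hab, hac, had, hbc, hbd, hcd]) (swap a b) (Equiv.injective _).injOn
    obtain ⟨t, ht, ht2, h1, h2, h3⟩ := exists_involution_of_swap hg (a := a) (b := b)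
      (S := {c, d}) (by rw [hgf a (by simp), swap_apply_left])
      (by rw [hgf b (by simp), swap_apply_right]) (by
        intro x hx
        simp only [Finset.mem_insert, Finset.mem_singleton] at hx
        rcases hx with rfl | rfl
        · rw [hgf x (by simp), swap_apply_of_ne_of_ne hac.symm hbc.symm]
        · rw [hgf x (by simp), swap_apply_of_ne_of_ne had.symm hbd.symm])
      (hodd _ (by simp [hab, hac, had, hbc, hbd, hcd]))
    refine ⟨t, ht, ht2, h1, h2, h3 c (by simp), h3 d (by simp), fun x hx => ?_⟩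
    by_contra hne
    simp only [not_or] at hne
    have := inv3 t ht ht2 c d x hcd (Ne.symm hne.1) (Ne.symm hne.2) (h3 c (by simp))
      (h3 d (by simp)) hx
    exact hab (by rw [this] at h1; simpa using h1)
  obtain ⟨t, htG, ht2, hta, htb, htc, htd, htfix⟩ := mkInv a b c d hab hac had hbc hbd hcd
  obtain ⟨t', ht'G, ht'2, ht'c, ht'd, ht'a, ht'b, ht'fix⟩ :=
    mkInv c d a b hcd hac.symm hbc.symm had.symm hbd.symm hab
  have htt : ∀ x, t (t x) = x := fun x => by rw [← Perm.mul_apply, ht2, Perm.one_apply]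
  set M := fixer G {c, d} with hM
  have hmemM : ∀ {g}, g ∈ M ↔ g ∈ G ∧ g c = c ∧ g d = d := by simp [hM, mem_fixer]
  have hM8 : ¬ 8 ∣ Nat.card M :=
    not_eight_dvd inv3 sq1 hac had hcd ht'G ht'2 ht'c ht'd ht'a ht'fix
  -- centraliser of `t` in `M`, acting on the transpositions of `t`
  let X : Subgroup (Perm α) := M ⊓ Subgroup.centralizer {t}
  have hmemX : ∀ {g}, g ∈ X ↔ (g ∈ G ∧ g c = c ∧ g d = d) ∧ g * t = t * g := by
    intro g
    simp [X, hmemM, Subgroup.mem_centralizer_iff, eq_comm]
  set mv : Finset α := ({c, d} : Finset α)ᶜ with hmv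
  have hmemv : ∀ {y}, y ∈ mv ↔ y ≠ c ∧ y ≠ d := by simp [hmv]
  have hmvc : mv.card = Fintype.card α - 2 := by
    rw [hmv, Finset.card_compl, Finset.card_pair hcd]
  have hmovt : ∀ y ∈ mv, t y ≠ y := fun y hy e =>
    (htfix y e).elim (hmemv.mp hy).1 (hmemv.mp hy).2
  have hXmv : ∀ g ∈ X, ∀ y ∈ mv, g y ∈ mv := by
    intro g hg y hy
    obtain ⟨⟨-, hgc, hgd⟩, -⟩ := hmemX.mp hg
    exact hmemv.mpr ⟨fun e => (hmemv.mp hy).1 (g.injective (e.trans hgc.symm)),
      fun e => (hmemv.mp hy).2 (g.injective (e.trans hgd.symm))⟩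
  let pr : α → Finset α := fun y => {y, t y}
  set PS : Finset (Finset α) := mv.image pr with hPS
  have hpr : ∀ g ∈ X, ∀ y, (pr y).image g = pr (g y) := by
    intro g hg y
    simp only [pr, Finset.image_insert, Finset.image_singleton]
    rw [← Perm.mul_apply g t, (hmemX.mp hg).2, Perm.mul_apply]
  have hXPS : ∀ g : X, ∀ s ∈ PS, s.image (g : Perm α) ∈ PS := by
    intro g s hs
    obtain ⟨y, hy, rfl⟩ := Finset.mem_image.mp hs
    rw [hpr g g.2 y]
    exact Finset.mem_image_of_mem _ (hXmv g g.2 y hy)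
  let ρ : X →* Perm ↥PS :=
    { toFun := fun g =>
        { toFun := fun s => ⟨s.1.image (g : Perm α), hXPS g s s.2⟩
          invFun := fun s => ⟨s.1.image ((g⁻¹ : X) : Perm α), hXPS g⁻¹ s s.2⟩
          left_inv := fun s => Subtype.ext (by simp [Finset.image_image, Function.comp_def])
          right_inv := fun s => Subtype.ext (by simp [Finset.image_image, Function.comp_def]) }
      map_one' := Equiv.ext fun s => Subtype.ext (by simp)
      map_mul' := fun g h => Equiv.ext fun s => Subtype.ext (by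
        simp [Finset.image_image, Function.comp_def]) }
  let sg : X →* ℤˣ := (sign : Perm ↥PS →* ℤˣ).comp ρ
  have htX : t ∈ X := hmemX.mpr ⟨⟨htG, htc, htd⟩, rfl⟩
  have hsgt : sg ⟨t, htX⟩ = 1 := by
    have : ρ ⟨t, htX⟩ = 1 := by
      refine Equiv.ext fun s => Subtype.ext ?_
      obtain ⟨y, hy, hs⟩ := Finset.mem_image.mp s.2
      change s.1.image t = s.1
      rw [← hs]
      simp only [pr, Finset.image_insert, Finset.image_singleton, htt, Finset.pair_comm]
    change sign (ρ ⟨t, htX⟩) = 1
    rw [this, map_one]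
  -- stabilisers of a transposition have sign one
  have hfix1 : ∀ (g : X) (y : α), y ∈ mv → (g : Perm α) y = y → sg g = 1 := by
    intro g y hy hgy
    apply map_eq_one_of_odd
    have hmem : (g : Perm α) ∈ fixer G {y, c, d} := ⟨(hmemX.mp g.2).1.1, fun x hx => by
      simp only [Finset.mem_insert, Finset.mem_singleton] at hx
      rcases hx with rfl | rfl | rfl
      · exact hgy
      · exact (hmemX.mp g.2).1.2.1
      · exact (hmemX.mp g.2).1.2.2⟩
    refine (hodd {y, c, d} (by simp [(hmemv.mp hy).1, (hmemv.mp hy).2, hcd])).of_dvd_nat ?_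
    rw [← Subgroup.orderOf_coe, ← Subgroup.orderOf_mk _ hmem]
    exact orderOf_dvd_natCard _
  have hstab : ∀ (g : X) (y : α), y ∈ mv → (g : Perm α) y ∈ pr y → sg g = 1 := by
    intro g y hy hgy
    simp only [pr, Finset.mem_insert, Finset.mem_singleton] at hgy
    rcases hgy with e | e
    · exact hfix1 g y hy e
    · have h1 := hfix1 (⟨t, htX⟩ * g) y hy (by
        change t ((g : Perm α) y) = y; rw [e, htt])
      rwa [map_mul, hsgt, one_mul] at h1
  -- elements fixing `a` reach every other transposition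
  have hamv : a ∈ mv := hmemv.mpr ⟨hac, had⟩
  have tperm : ∀ g ∈ G, g * t = t * g → (g c = c ∧ g d = d) ∨ (g c = d ∧ g d = c) := by
    intro g _ hgt
    have e : ∀ z, t z = z → t (g z) = g z := fun z hz => by
      rw [← Perm.mul_apply, ← hgt, Perm.mul_apply, hz]
    rcases htfix _ (e c htc) with h1 | h1 <;> rcases htfix _ (e d htd) with h2 | h2
    · exact absurd (g.injective (h1.trans h2.symm)) hcd
    · exact Or.inl ⟨h1, h2⟩
    · exact Or.inr ⟨h1, h2⟩
    · exact absurd (g.injective (h1.trans h2.symm)) hcd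
  have tmv : ∀ e ∈ mv, t e ∈ mv := fun e he =>
    hmemv.mpr ⟨fun h => (hmemv.mp he).1 (t.injective (h.trans htc.symm)),
      fun h => (hmemv.mp he).2 (t.injective (h.trans htd.symm))⟩
  have tout : ∀ e, e ≠ a → e ≠ b → t e ≠ a ∧ t e ≠ b := fun e h1 h2 =>
    ⟨fun h => h2 (by rw [← htt e, h, hta]), fun h => h1 (by rw [← htt e, h, htb])⟩
  have lift : ∀ e ∈ mv, ∀ e' ∈ mv, e ≠ a → e ≠ b → e' ≠ a → e' ≠ b →
      ∃ g ∈ G, g * t = t * g ∧ g a = a ∧ g e = e' := by
    intro e he e' he' hea heb he'a he'b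
    obtain ⟨htea, hteb⟩ := tout e hea heb
    obtain ⟨hte'a, hte'b⟩ := tout e' he'a he'b
    have hte := hmovt e he
    have hte' := hmovt e' he'
    let f : α → α := fun x => if x = e then e' else if x = t e then t e' else x
    have hfa : f a = a := by simp [f, hea.symm, htea.symm]
    have hfb : f b = b := by simp [f, heb.symm, hteb.symm]
    have hfe : f e = e' := by simp [f]
    have hfte : f (t e) = t e' := by simp [f, hte]
    obtain ⟨g₀, hg₀, hf⟩ := exists_map hG hk {a, b, e, t e} (by
      simp [hab, hea.symm, heb.symm, htea.symm, hteb.symm, hte.symm]) f (by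
      intro x hx y hy he
      simp only [Finset.coe_insert, Finset.coe_singleton, Set.mem_insert_iff,
        Set.mem_singleton_iff] at hx hy
      rcases hx with rfl | rfl | rfl | rfl <;> rcases hy with rfl | rfl | rfl | rfl <;>
        simp only [hfa, hfb, hfe, hfte] at he <;>
        first | rfl | exact he | exact absurd he (by assumption) | exact absurd he.symm (by assumption))
    have hc : ∀ x ∈ ({a, b, e, t e} : Finset α), t (g₀ x) = g₀ (t x) := by
      intro x hx
      have e1 : g₀ a = a := by rw [hf a (by simp), hfa]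
      have e2 : g₀ b = b := by rw [hf b (by simp), hfb]
      have e3 : g₀ e = e' := by rw [hf e (by simp), hfe]
      have e4 : g₀ (t e) = t e' := by rw [hf (t e) (by simp), hfte]
      simp only [Finset.mem_insert, Finset.mem_singleton] at hx
      rcases hx with rfl | rfl | rfl | rfl
      · rw [e1, hta, e2]
      · rw [e2, htb, e1]
      · rw [e3, e4]
      · rw [e4, htt, htt, e3]
    obtain ⟨g, hg, hgt, hgS⟩ := exists_commute_lift htG ht2 hg₀ hc (hodd _ (by
      rw [Finset.card_image_of_injective _ g₀.injective]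
      simp [hab, hea.symm, heb.symm, htea.symm, hteb.symm, hte.symm]))
    exact ⟨g, hg, hgt, by rw [hgS a (by simp), hf a (by simp), hfa],
      by rw [hgS e (by simp), hf e (by simp), hfe]⟩
  have hcover : ∀ e ∈ mv, ∀ e' ∈ mv, e ≠ a → e ≠ b → e' ≠ a → e' ≠ b →
      ∃ h : X, (h : Perm α) a = a ∧ (h : Perm α) e ∈ pr e' := by
    intro e he e' he' hea heb he'a he'b
    obtain ⟨g₁, hg₁, hg₁t, hg₁a, hg₁e⟩ := lift e he e' he' hea heb he'a he'b
    rcases tperm g₁ hg₁ hg₁t with h | h
    · exact ⟨⟨g₁, hmemX.mpr ⟨⟨hg₁, h.1, h.2⟩, hg₁t⟩⟩, hg₁a, by simp [pr, hg₁e]⟩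
    obtain ⟨g₂, hg₂, hg₂t, hg₂a, hg₂e⟩ :=
      lift e he (t e) (tmv e he) hea heb (tout e hea heb).1 (tout e hea heb).2
    rcases tperm g₂ hg₂ hg₂t with h' | h'
    · -- an element of odd order cannot swap
      exfalso
      have hswap2 : g₂ (t e) = e := by
        rw [← Perm.mul_apply, hg₂t, Perm.mul_apply, hg₂e, htt]
      have ho : Odd (orderOf g₂) := by
        have hmem : g₂ ∈ fixer G {a, c, d} := ⟨hg₂, fun x hx => by
          simp only [Finset.mem_insert, Finset.mem_singleton] at hx
          rcases hx with rfl | rfl | rfl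
          exacts [hg₂a, h'.1, h'.2]⟩
        refine (hodd {a, c, d} (by simp [hac, had, hcd])).of_dvd_nat ?_
        rw [← Subgroup.orderOf_mk g₂ hmem]; exact orderOf_dvd_natCard _
      have := (pow_odd_apply_of_swap hg₂e hswap2 ho).1
      rw [pow_orderOf_eq_one, Perm.one_apply] at this
      exact hmovt e he this.symm
    · have hinvd : g₂⁻¹ c = d := by rw [Perm.inv_eq_iff_eq, h'.2]
      have hinvc : g₂⁻¹ d = c := by rw [Perm.inv_eq_iff_eq, h'.1]
      refine ⟨⟨g₁ * g₂⁻¹, hmemX.mpr ⟨⟨G.mul_mem hg₁ (G.inv_mem hg₂),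
        by rw [Perm.mul_apply, hinvd, h.2], by rw [Perm.mul_apply, hinvc, h.1]⟩, ?_⟩⟩, ?_, ?_⟩
      · calc g₁ * g₂⁻¹ * t = g₁ * (g₂⁻¹ * (t * g₂)) * g₂⁻¹ := by group
          _ = g₁ * t * g₂⁻¹ := by rw [← hg₂t]; group
          _ = t * (g₁ * g₂⁻¹) := by rw [hg₁t]; group
      · change (g₁ * g₂⁻¹) a = a
        rw [Perm.mul_apply, show g₂⁻¹ a = a by rw [Perm.inv_eq_iff_eq, hg₂a], hg₁a]
      · change (g₁ * g₂⁻¹) e ∈ pr e'
        have h5 : g₂⁻¹ e = t e := by
          rw [Perm.inv_eq_iff_eq, ← Perm.mul_apply g₂ t, hg₂t, Perm.mul_apply, hg₂e, htt]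
        rw [Perm.mul_apply, h5, ← Perm.mul_apply g₁ t, hg₁t, Perm.mul_apply, hg₁e]
        simp [pr]
  -- fixed-point-free involutions of sign minus one
  have mkU : ∀ e ∈ mv, e ≠ a → e ≠ b →
      ∃ u : X, (u : Perm α) a = e ∧ (u : Perm α) e = a ∧ sg u = -1 := by
    intro e he hea heb
    obtain ⟨htea, hteb⟩ := tout e hea heb
    have hte := hmovt e he
    obtain ⟨hec, hed⟩ := hmemv.mp he
    obtain ⟨htec, hted⟩ := hmemv.mp (tmv e he)
    set S : Finset α := {a, b, e, t e, c} with hS
    have hSc : S.card = 5 := by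
      simp [hS, hab, hea.symm, htea.symm, hac, heb.symm, hteb.symm, hbc, hte.symm, hec, htec]
    set τ : Perm α := swap a e * swap b (t e) with hτ
    have hmaps : ∀ x, τ x ∈ S ↔ x ∈ S := by
      intro x
      by_cases hx : x ∈ S
      · simp only [hx, iff_true]
        simp only [hS, Finset.mem_insert, Finset.mem_singleton] at hx ⊢
        rcases hx with rfl | rfl | rfl | rfl | rfl <;>
          simp [hτ, swap_apply_of_ne_of_ne, hab, hab.symm, hea, hea.symm, htea, htea.symm, heb,
            heb.symm, hteb, hteb.symm, hte, hte.symm, hac.symm, hbc.symm, hec.symm, htec.symm]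
      · simp only [hx, iff_false]
        simp only [hS, Finset.mem_insert, Finset.mem_singleton, not_or] at hx
        rw [hτ, Perm.mul_apply, swap_apply_of_ne_of_ne hx.2.1 hx.2.2.2.1,
          swap_apply_of_ne_of_ne hx.1 hx.2.2.1]
        simp [hS, hx]
    have hsig : sign (τ.subtypePerm hmaps) = 1 := by
      refine Eq.trans (b := sign τ) ?_ (by
        rw [hτ, map_mul, sign_swap hea.symm, sign_swap hteb.symm]; decide)
      convert sign_subtypePerm τ hmaps (fun x hx => by_contra fun h => hx (by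
          simp only [hS, Finset.mem_insert, Finset.mem_singleton, not_or] at h
          rw [hτ, Perm.mul_apply, swap_apply_of_ne_of_ne h.2.1 h.2.2.2.1,
            swap_apply_of_ne_of_ne h.1 h.2.2.1])) using 3
    obtain ⟨g₀, hg₀, hx₀⟩ := hA S hSc (mem_alternatingGroup.mpr hsig)
    have hg₀τ : ∀ x ∈ S, g₀ x = τ x := fun x hx => hx₀ ⟨x, hx⟩
    have v1 : g₀ a = e := by
      rw [hg₀τ a (by simp [hS]), hτ, Perm.mul_apply, swap_apply_of_ne_of_ne hab htea.symm,
        swap_apply_left]
    have v2 : g₀ e = a := by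
      rw [hg₀τ e (by simp [hS]), hτ, Perm.mul_apply, swap_apply_of_ne_of_ne heb hte.symm,
        swap_apply_right]
    have v3 : g₀ b = t e := by
      rw [hg₀τ b (by simp [hS]), hτ, Perm.mul_apply, swap_apply_left,
        swap_apply_of_ne_of_ne htea hte]
    have v4 : g₀ (t e) = b := by
      rw [hg₀τ (t e) (by simp [hS]), hτ, Perm.mul_apply, swap_apply_right,
        swap_apply_of_ne_of_ne hab.symm heb.symm]
    have v5 : g₀ c = c := by
      rw [hg₀τ c (by simp [hS]), hτ, Perm.mul_apply, swap_apply_of_ne_of_ne hbc.symm htec.symm,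
        swap_apply_of_ne_of_ne hac.symm hec.symm]
    obtain ⟨g, hg, hgt, hgS⟩ := exists_commute_lift htG ht2 hg₀ (S := S) (by
      intro x hx
      simp only [hS, Finset.mem_insert, Finset.mem_singleton] at hx
      rcases hx with rfl | rfl | rfl | rfl | rfl
      · rw [v1, hta, v3]
      · rw [v3, htt, htb, v1]
      · rw [v2, hta, v4]
      · rw [v4, htb, htt, v2]
      · rw [v5, htc, v5]) (hodd _ (by
        rw [Finset.card_image_of_injective _ g₀.injective, hSc]; norm_num))
    obtain ⟨m, i, hm, hi⟩ := exists_two_part g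
    have huc : (g ^ m) c = c := pow_apply_of_fixed (by rw [hgS c (by simp [hS]), v5]) m
    have hut : g ^ m * t = t * g ^ m := (Commute.pow_left (show Commute g t from hgt) m).eq
    have hud : (g ^ m) d = d := by
      rcases tperm _ (G.pow_mem hg m) hut with h | h
      · exact h.2
      · exact absurd (huc.symm.trans h.1) hcd
    obtain ⟨hua, hue⟩ := pow_odd_apply_of_swap (a := a) (b := e) (g := g)
      (by rw [hgS a (by simp [hS]), v1]) (by rw [hgS e (by simp [hS]), v2]) hm
    have hu2 : g ^ m * g ^ m = 1 := sq1 _ (G.pow_mem hg m) c huc i hi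
    let u : X := ⟨g ^ m, hmemX.mpr ⟨⟨G.pow_mem hg m, huc, hud⟩, hut⟩⟩
    refine ⟨u, hua, hue, ?_⟩
    have hρ2 : ρ u * ρ u = 1 := by
      rw [← map_mul, show u * u = 1 from Subtype.ext hu2, map_one]
    have hρf : ∀ s, ρ u s ≠ s := by
      intro s he'
      obtain ⟨y, hy, hs⟩ := Finset.mem_image.mp s.2
      have h1 : (g ^ m) y ∈ pr y := by
        have := congrArg Subtype.val he'
        change s.1.image (g ^ m) = s.1 at this
        rw [← hs, hpr _ u.2] at this
        rw [← this]
        exact Finset.mem_insert_self _ _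
      simp only [pr, Finset.mem_insert, Finset.mem_singleton] at h1
      obtain ⟨hyc, hyd⟩ := hmemv.mp hy
      rcases h1 with h1 | h1
      · have := inv3 _ (G.pow_mem hg m) hu2 y c d hyc hyd hcd h1 huc hud
        rw [this] at hua
        exact hea (by simpa using hua.symm)
      · have := inv3 (t * g ^ m) (G.mul_mem htG (G.pow_mem hg m)) (by
          calc t * g ^ m * (t * g ^ m) = t * (g ^ m * t) * g ^ m := by group
            _ = t * t * (g ^ m * g ^ m) := by rw [hut]; group
            _ = 1 := by rw [ht2, hu2, one_mul]) y c d hyc hyd hcd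
          (by rw [Perm.mul_apply, h1, htt]) (by rw [Perm.mul_apply, huc, htc])
          (by rw [Perm.mul_apply, hud, htd])
        have h6 : g ^ m = t := by
          calc g ^ m = t * (t * g ^ m) := by rw [← mul_assoc, ht2, one_mul]
            _ = t := by rw [this, mul_one]
        rw [h6, hta] at hua
        exact heb hua.symm
    obtain ⟨h2dvd, hsgn⟩ := sign_of_fixedPointFree (ρ u) hρ2 hρf
    change sign (ρ u) = -1
    rw [hsgn]
    -- the number of transpositions is twice an odd number
    have hcard : PS.card * 2 = Fintype.card α - 2 := by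
      rw [← hmvc, Finset.card_eq_sum_card_image pr mv]
      rw [Finset.sum_const_nat fun s hs => ?_]
      obtain ⟨y, hy, rfl⟩ := Finset.mem_image.mp hs
      rw [show mv.filter (fun z => pr z = pr y) = pr y by
        ext z
        simp only [Finset.mem_filter, pr]
        constructor
        · rintro ⟨-, hz⟩
          rw [← hz]; simp
        · intro hz
          simp only [Finset.mem_insert, Finset.mem_singleton] at hz
          rcases hz with rfl | rfl
          · exact ⟨hy, rfl⟩
          · exact ⟨tmv y hy, by rw [htt, Finset.pair_comm]⟩]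
      exact Finset.card_pair (hmovt y hy).symm
    have hdiv : Fintype.card α - 2 ∣ Nat.card M := by
      have h := card_fixer_eq_mul (G := G) (S := {c, d}) (y := a) (by simp [hac, had])
        (fun z hz => exists_fixer_map hG hk (by rw [Finset.card_pair hcd]; norm_num)
          (by simp [hac, had]) hz)
      rw [Finset.card_pair hcd] at h
      exact ⟨_, h⟩
    rw [Fintype.card_coe] at h2dvd ⊢
    refine Odd.neg_one_pow (Nat.not_even_iff_odd.mp fun he' => hM8 ?_)
    refine dvd_trans ?_ hdiv
    obtain ⟨r, hr⟩ := h2dvd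
    obtain ⟨q, hq⟩ := he'
    exact ⟨q, by omega⟩
  -- conclusion
  have hmv6 : 6 ≤ mv.card := by obtain ⟨r, hr⟩ := heven; omega
  obtain ⟨e, he⟩ : ((mv.erase a).erase b).Nonempty := Finset.card_pos.mp (by
    have := Finset.pred_card_le_card_erase (s := mv) (a := a)
    have := Finset.pred_card_le_card_erase (s := mv.erase a) (a := b)
    omega)
  simp only [Finset.mem_erase] at he
  obtain ⟨e'', he''⟩ : ((((mv.erase a).erase b).erase e).erase (t e)).Nonempty :=
    Finset.card_pos.mp (by
      have := Finset.pred_card_le_card_erase (s := mv) (a := a)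
      have := Finset.pred_card_le_card_erase (s := mv.erase a) (a := b)
      have := Finset.pred_card_le_card_erase (s := (mv.erase a).erase b) (a := e)
      have := Finset.pred_card_le_card_erase (s := ((mv.erase a).erase b).erase e) (a := t e)
      omega)
  simp only [Finset.mem_erase] at he''
  obtain ⟨u₁, hu₁a, hu₁e, hu₁s⟩ := mkU e he.2.2 he.2.1 he.1
  obtain ⟨u₂, hu₂a, hu₂e, hu₂s⟩ := mkU e'' he''.2.2.2.2 he''.2.2.2.1 he''.2.2.1
  set w := u₁ * u₂
  have hwa : (w : Perm α) a = (u₁ : Perm α) e'' := by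
    change (u₁ : Perm α) ((u₂ : Perm α) a) = _
    rw [hu₂a]
  set e₃ := (u₁ : Perm α) e''
  have he₃ : e₃ ∈ mv := hXmv _ u₁.2 _ he''.2.2.2.2
  have he₃a : e₃ ≠ a := fun h => he''.2.1 ((u₁ : Perm α).injective (h.trans hu₁e.symm))
  have he₃b : e₃ ≠ b := by
    intro h
    have h1 : (u₁ : Perm α) (t e) = b := by
      rw [← Perm.mul_apply, (hmemX.mp u₁.2).2, Perm.mul_apply, hu₁e, hta]
    exact he''.1 ((u₁ : Perm α).injective (h.trans h1.symm))
  obtain ⟨h, hha, hhe⟩ := hcover e₃ he₃ e he.2.2 he₃a he₃b he.2.1 he.1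
  have hfin := hstab (u₁ * h * w) a hamv (by
    change (u₁ : Perm α) ((h : Perm α) ((w : Perm α) a)) ∈ pr a
    rw [hwa]
    simp only [pr, Finset.mem_insert, Finset.mem_singleton] at hhe ⊢
    rcases hhe with h' | h'
    · left; rw [h', hu₁e]
    · right; rw [h', ← Perm.mul_apply, (hmemX.mp u₁.2).2, Perm.mul_apply, hu₁e])
  rw [map_mul, map_mul, hfix1 h a hamv hha, map_mul, hu₁s, hu₂s] at hfin
  exact absurd hfin (by decide)

/-- A `j`-homogeneous and `(j - 1)`-transitive group, `5 ≤ j ≤ n - 2`, is `j`-transitive. -/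
theorem isMultiplyPretransitive_of_homogeneous (hj : 5 ≤ j) (hjn : j + 2 ≤ Fintype.card α)
    (ht : MulAction.IsMultiplyPretransitive G α (j - 1))
    (hh : MulAction.IsPretransitive G (Set.powersetCard α j)) :
    MulAction.IsMultiplyPretransitive G α j := by
  classical
  by_contra hnt
  have hk : j - 1 ≤ Fintype.card α := by omega
  obtain ⟨Δ₀, hΔ₀, hA₀⟩ := exists_induced_alternating G (k := j - 1) (by omega) (by omega) ht
  have hA : ∀ S : Finset α, S.card = j → alternatingGroup ↥S ≤ inducedPerms G S := by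
    intro S hS
    obtain ⟨g, hg, he⟩ := exists_image_eq hh (show Δ₀.card = j by omega) hS
    exact alternating_le_image hg he hA₀
  have hev : ∀ S : Finset α, S.card = j → ∀ g ∈ G, ∀ τ : Perm α,
      (∀ x, x ∉ S → τ x = x) → (∀ x ∈ S, g x = τ x) → sign τ = 1 := by
    intro S hS g hg τ hτ hgτ
    by_contra hs
    have htop := induced_eq_top_of_odd (hA S hS) hg hτ hgτ hs
    refine hnt (isMultiplyPretransitive_of_induced hh fun T hT => ?_)
    obtain ⟨k, hk', he⟩ := exists_image_eq hh hT hS
    -- carry the odd permutation back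
    have hτ' : ∀ x, x ∉ T → (k⁻¹ * τ * k) x = x := fun x hx => by
      rw [Perm.mul_apply, Perm.mul_apply, hτ _ (fun h => hx ?_), Perm.inv_def,
        Equiv.symm_apply_apply]
      rw [← he] at h
      obtain ⟨y, hy, hyx⟩ := Finset.mem_image.mp h
      exact k.injective hyx ▸ hy
    refine induced_eq_top_of_odd (hA T hT) (g := k⁻¹ * g * k)
      (G.mul_mem (G.mul_mem (G.inv_mem hk') hg) hk') hτ' (fun x hx => ?_) ?_
    · simp only [Perm.mul_apply]
      rw [hgτ _ (he ▸ Finset.mem_image_of_mem k hx)]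
    · rw [map_mul, map_mul, map_inv, mul_comm (sign k)⁻¹, mul_assoc, inv_mul_cancel, mul_one]
      exact hs
  -- fixers of `j - 2` points have odd order
  have hoddj : ∀ S : Finset α, j - 2 ≤ S.card → Odd (Nat.card (fixer G S)) := by
    intro S hS
    rw [← Nat.not_even_iff_odd]
    intro he
    obtain ⟨S', hS', hS'c⟩ := Finset.exists_subset_card_eq (s := S) (n := j - 2) hS
    have h2 : 2 ∣ Nat.card (fixer G S') :=
      he.two_dvd.trans (Subgroup.card_dvd_of_le (fixer_anti hS'))
    obtain ⟨t, ht'⟩ := exists_prime_orderOf_dvd_card' (G := fixer G S') 2 h2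
    rw [← Subgroup.orderOf_coe] at ht'
    obtain ⟨y, hy⟩ : ∃ y, (t : Perm α) y ≠ y := by
      by_contra hall
      simp only [not_exists, not_not] at hall
      rw [show (t : Perm α) = 1 from Equiv.ext hall, orderOf_one] at ht'
      omega
    have htty : (t : Perm α) ((t : Perm α) y) = y := by
      rw [← Perm.mul_apply, ← sq, ← ht', pow_orderOf_eq_one, Perm.one_apply]
    have hy1 : y ∉ S' := fun h => hy (t.2.2 y h)
    have hy2 : (t : Perm α) y ∉ S' := fun h => hy1 (by
      have := t.2.2 _ h; rw [htty] at this; exact this.symm ▸ h)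
    have := hev (insert y (insert ((t : Perm α) y) S')) (by
      rw [Finset.card_insert_of_notMem (by simp [hy1, hy.symm]),
        Finset.card_insert_of_notMem hy2, hS'c]; omega) t t.2.1 (swap y ((t : Perm α) y))
      (fun x hx => by
        simp only [Finset.mem_insert, not_or] at hx
        exact swap_apply_of_ne_of_ne hx.1 hx.2.1)
      (fun x hx => by
        simp only [Finset.mem_insert] at hx
        rcases hx with rfl | rfl | hx
        · rw [swap_apply_left]
        · rw [swap_apply_right, htty]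
        · rw [t.2.2 x hx, swap_apply_of_ne_of_ne (ne_of_mem_of_not_mem hx hy1)
            (ne_of_mem_of_not_mem hx hy2)])
    rw [sign_swap hy.symm] at this
    exact absurd this (by decide)
  -- parity
  have hpar : Odd (Fintype.card α - (j - 2)) := by
    obtain ⟨S, -, hS⟩ := Finset.exists_subset_card_eq (s := (Finset.univ : Finset α))
      (n := j - 2) (by rw [Finset.card_univ]; omega)
    obtain ⟨y, hy⟩ : ∃ y, y ∉ S := by
      by_contra hall
      simp only [not_exists, not_not] at hall
      have := Finset.card_le_card (fun x (_ : x ∈ (Finset.univ : Finset α)) => hall x)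
      rw [Finset.card_univ] at this
      omega
    have h := card_fixer_eq_mul (G := G) hy fun z hz =>
      exists_fixer_map ht hk (by omega) hy hz
    rw [hS] at h
    exact (hoddj S hS.ge).of_dvd_nat ⟨_, h⟩
  rcases Nat.lt_or_ge j 6 with h6 | h6
  · obtain rfl : j = 5 := by omega
    refine five_absurd ht (by omega) hA hev hoddj ?_
    obtain ⟨r, hr⟩ := hpar
    exact ⟨r + 2, by omega⟩
  -- `j ≥ 6`: three transpositions of an involution
  obtain ⟨U, -, hU⟩ := Finset.exists_subset_card_eq (s := (Finset.univ : Finset α))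
    (n := j - 1) (by rw [Finset.card_univ]; omega)
  obtain ⟨a, haU, b, hbU, hab⟩ := Finset.one_lt_card.mp (show 1 < U.card by omega)
  obtain ⟨g, hg, hgf⟩ := exists_map ht hk U hU.le (swap a b) (Equiv.injective _).injOn
  set E := (U.erase a).erase b with hE
  have hEc : E.card = j - 3 := by
    rw [hE, Finset.card_erase_of_mem (Finset.mem_erase.mpr ⟨hab.symm, hbU⟩),
      Finset.card_erase_of_mem haU, hU]; omega
  obtain ⟨t, htG, ht2, hta, htb, htE⟩ := exists_involution_of_swap hg (a := a) (b := b) (S := E)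
    (by rw [hgf a haU, swap_apply_left]) (by rw [hgf b hbU, swap_apply_right])
    (fun x hx => by
      simp only [hE, Finset.mem_erase] at hx
      rw [hgf x hx.2.2, swap_apply_of_ne_of_ne hx.2.1 hx.1])
    (hoddj _ (by
      rw [hE, Finset.insert_erase (Finset.mem_erase.mpr ⟨hab.symm, hbU⟩),
        Finset.insert_erase haU, hU]; omega))
  have htt : ∀ x, t (t x) = x := fun x => by rw [← Perm.mul_apply, ht2, Perm.one_apply]
  have hmov : ∀ x, x ∉ E → t x ≠ x := by
    intro x hx e
    have := eq_one_of_sq_of_odd (hoddj (insert x E) (by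
      rw [Finset.card_insert_of_notMem hx, hEc]; omega)) (x := t) ⟨htG, fun z hz => by
        rcases Finset.mem_insert.mp hz with rfl | hz
        · exact e
        · exact htE z hz⟩ (by rw [sq, ht2])
    exact hab (by rw [this] at hta; simpa using hta)
  have hnE : ∀ x, x ∉ E → t x ∉ E := fun x hx h => hmov x hx (by
    have := htE _ h; rw [htt] at this; exact this.symm)
  have hEcompl : 6 ≤ Eᶜ.card := by
    rw [Finset.card_compl, hEc]; obtain ⟨r, hr⟩ := hpar; omega
  have haE : a ∉ E := by simp [hE]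
  have hbE : b ∉ E := by simp [hE]
  obtain ⟨x, hx⟩ : ((Eᶜ.erase a).erase b).Nonempty := Finset.card_pos.mp (by
    have := Finset.pred_card_le_card_erase (s := Eᶜ) (a := a)
    have := Finset.pred_card_le_card_erase (s := Eᶜ.erase a) (a := b)
    omega)
  obtain ⟨y, hy⟩ : ((((Eᶜ.erase a).erase b).erase x).erase (t x)).Nonempty :=
    Finset.card_pos.mp (by
      have := Finset.pred_card_le_card_erase (s := Eᶜ) (a := a)
      have := Finset.pred_card_le_card_erase (s := Eᶜ.erase a) (a := b)
      have := Finset.pred_card_le_card_erase (s := (Eᶜ.erase a).erase b) (a := x)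
      have := Finset.pred_card_le_card_erase (s := ((Eᶜ.erase a).erase b).erase x) (a := t x)
      omega)
  simp only [Finset.mem_erase, Finset.mem_compl] at hx hy
  obtain ⟨hxb, hxa, hxE⟩ := hx
  obtain ⟨hytx, hyx, hyb, hya, hyE⟩ := hy
  have htxa : t x ≠ a := fun h => hxb (by rw [← htt x, h, hta])
  have htxb : t x ≠ b := fun h => hxa (by rw [← htt x, h, htb])
  have htya : t y ≠ a := fun h => hyb (by rw [← htt y, h, hta])
  have htyb : t y ≠ b := fun h => hya (by rw [← htt y, h, htb])
  have htyx : t y ≠ x := fun h => hytx (by rw [← h, htt])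
  have htytx : t y ≠ t x := fun h => hyx (t.injective h)
  obtain ⟨E', hE'E, hE'⟩ := Finset.exists_subset_card_eq (s := E) (n := j - 6) (by omega)
  set six : Finset α := {a, b, x, t x, y, t y} with hsix
  have hsixc : six.card = 6 := by
    simp [hsix, hab, hxa.symm, hxb.symm, htxa.symm, htxb.symm, (hmov x hxE).symm, hya.symm,
      hyb.symm, hyx.symm, hytx.symm, htya.symm, htyb.symm, htyx.symm, htytx.symm,
      (hmov y hyE).symm]
  have hsixE : ∀ z ∈ six, z ∉ E := by
    intro z hz
    simp only [hsix, Finset.mem_insert, Finset.mem_singleton] at hz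
    rcases hz with rfl | rfl | rfl | rfl | rfl | rfl
    exacts [haE, hbE, hxE, hnE _ hxE, hyE, hnE _ hyE]
  have := hev (six ∪ E') (by
      rw [Finset.card_union_of_disjoint (Finset.disjoint_left.mpr fun z hz hz' =>
        hsixE z hz (hE'E hz')), hsixc, hE']; omega) t htG
    (swap a b * swap x (t x) * swap y (t y)) (fun z hz => by
      simp only [hsix, Finset.mem_union, Finset.mem_insert, Finset.mem_singleton, not_or] at hz
      obtain ⟨⟨z1, z2, z3, z4, z5, z6⟩, -⟩ := hz
      rw [Perm.mul_apply, Perm.mul_apply, swap_apply_of_ne_of_ne z5 z6,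
        swap_apply_of_ne_of_ne z3 z4, swap_apply_of_ne_of_ne z1 z2]) (fun z hz => by
      rw [Perm.mul_apply, Perm.mul_apply]
      simp only [hsix, Finset.mem_union, Finset.mem_insert, Finset.mem_singleton] at hz
      rcases hz with (rfl | rfl | rfl | rfl | rfl | rfl) | hz
      · rw [swap_apply_of_ne_of_ne hya.symm htya.symm, swap_apply_of_ne_of_ne hxa.symm htxa.symm,
          swap_apply_left, hta]
      · rw [swap_apply_of_ne_of_ne hyb.symm htyb.symm, swap_apply_of_ne_of_ne hxb.symm htxb.symm,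
          swap_apply_right, htb]
      · rw [swap_apply_of_ne_of_ne hyx.symm htyx.symm, swap_apply_left,
          swap_apply_of_ne_of_ne htxa htxb]
      · rw [swap_apply_of_ne_of_ne hytx.symm htytx.symm, swap_apply_right,
          swap_apply_of_ne_of_ne hxa hxb, htt]
      · rw [swap_apply_left, swap_apply_of_ne_of_ne htyx htytx, swap_apply_of_ne_of_ne htya htyb]
      · rw [swap_apply_right, swap_apply_of_ne_of_ne hyx hytx, swap_apply_of_ne_of_ne hya hyb, htt]
      · have hzE := hE'E hz
        have hne : ∀ w, w ∉ E → z ≠ w := fun w hw e => hw (e ▸ hzE)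
        rw [swap_apply_of_ne_of_ne (hne _ hyE) (hne _ (hnE _ hyE)),
          swap_apply_of_ne_of_ne (hne _ hxE) (hne _ (hnE _ hxE)),
          swap_apply_of_ne_of_ne (hne _ haE) (hne _ hbE), htE z hzE])
  rw [map_mul, map_mul, sign_swap hab, sign_swap (hmov x hxE).symm,
    sign_swap (hmov y hyE).symm] at this
  exact absurd this (by decide)

end CfsgLib.LivWag
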