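import Mathlib.GroupTheory.GroupAction.MultipleTransitivity
import Mathlib.GroupTheory.SpecificGroups.Alternating
import Mathlib.GroupTheory.Perm.Cycle.Type
import Mathlib.GroupTheory.Sylow
import Mathlib.Algebra.Group.Pointwise.Finset.Scalar
import Mathlib.GroupTheory.GroupAction.SubMulAction.Combination
import Mathlib.Tactic

/-!
Tools for the Livingstone–Wagner theorems: pointwise fixers, set stabilisers and the
permutations which a group induces on a set of points.
-/

namespace CfsgLib.LivWag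

set_option linter.unusedSectionVars false

open Equiv Equiv.Perm

variable {α : Type*} [DecidableEq α]

/-- The elements of `G` fixing every point of `S`. -/
def fixer (G : Subgroup (Perm α)) (S : Finset α) : Subgroup (Perm α) where
  carrier := {g | g ∈ G ∧ ∀ x ∈ S, g x = x}
  one_mem' := ⟨G.one_mem, fun _ _ => rfl⟩
  mul_mem' := fun {a b} ha hb =>
    ⟨G.mul_mem ha.1 hb.1, fun x hx => by rw [Perm.mul_apply, hb.2 x hx, ha.2 x hx]⟩
  inv_mem' := fun {a} ha => ⟨G.inv_mem ha.1, fun x hx => by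
    rw [Perm.inv_eq_iff_eq]; exact (ha.2 x hx).symm⟩

variable {G : Subgroup (Perm α)}

theorem mem_fixer {S : Finset α} {g : Perm α} : g ∈ fixer G S ↔ g ∈ G ∧ ∀ x ∈ S, g x = x :=
  Iff.rfl

theorem fixer_le (G : Subgroup (Perm α)) (S : Finset α) : fixer G S ≤ G := fun _ h => h.1

theorem fixer_anti {S T : Finset α} (h : S ⊆ T) : fixer G T ≤ fixer G S :=
  fun _ hg => ⟨hg.1, fun x hx => hg.2 x (h hx)⟩

/-- The elements of `G` mapping `S` onto itself. -/
def setStab (G : Subgroup (Perm α)) (S : Finset α) : Subgroup (Perm α) where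
  carrier := {g | g ∈ G ∧ S.image g = S}
  one_mem' := ⟨G.one_mem, by simp⟩
  mul_mem' := fun {a b} ha hb => ⟨G.mul_mem ha.1 hb.1, by
    rw [Perm.coe_mul, ← Finset.image_image, hb.2, ha.2]⟩
  inv_mem' := fun {a} ha => ⟨G.inv_mem ha.1, by
    conv_lhs => rw [← ha.2]
    rw [Finset.image_image, ← Perm.coe_mul, inv_mul_cancel, Perm.coe_one, Finset.image_id]⟩

theorem mem_setStab {S : Finset α} {g : Perm α} :
    g ∈ setStab G S ↔ g ∈ G ∧ S.image g = S := Iff.rfl

theorem mem_setStab_of_maps {S : Finset α} {g : Perm α} (hg : g ∈ G) (h : ∀ x ∈ S, g x ∈ S) :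
    g ∈ setStab G S := by
  refine ⟨hg, Finset.eq_of_subset_of_card_le ?_ ?_⟩
  · intro y hy
    obtain ⟨x, hx, rfl⟩ := Finset.mem_image.mp hy
    exact h x hx
  · rw [Finset.card_image_of_injective _ g.injective]

theorem apply_mem_of_setStab {S : Finset α} {g : Perm α} (hg : g ∈ setStab G S) {x : α} :
    g x ∈ S ↔ x ∈ S := by
  constructor
  · intro h
    rw [← hg.2] at h
    obtain ⟨y, hy, he⟩ := Finset.mem_image.mp h
    exact g.injective he ▸ hy
  · intro h
    rw [← hg.2]
    exact Finset.mem_image_of_mem _ h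

/-- The permutations of `S` induced by elements of `G`. -/
def inducedPerms (G : Subgroup (Perm α)) (S : Finset α) : Subgroup (Perm ↥S) where
  carrier := {σ | ∃ g ∈ G, ∀ x : ↥S, g x = σ x}
  one_mem' := ⟨1, G.one_mem, fun _ => rfl⟩
  mul_mem' := by
    rintro a b ⟨g, hg, ha⟩ ⟨h, hh, hb⟩
    exact ⟨g * h, G.mul_mem hg hh, fun x => by rw [Perm.mul_apply, hb, ha, Perm.mul_apply]⟩
  inv_mem' := by
    rintro a ⟨g, hg, ha⟩
    refine ⟨g⁻¹, G.inv_mem hg, fun x => ?_⟩
    rw [Perm.inv_eq_iff_eq, ha, Perm.inv_def, Equiv.apply_symm_apply]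

theorem mem_inducedPerms {S : Finset α} {σ : Perm ↥S} :
    σ ∈ inducedPerms G S ↔ ∃ g ∈ G, ∀ x : ↥S, g x = σ x := Iff.rfl

/-- Multiple transitivity, stated with partial injections. -/
theorem exists_map [Fintype α] {k : ℕ} (hG : MulAction.IsMultiplyPretransitive G α k)
    (hk : k ≤ Fintype.card α) (S : Finset α) (hS : S.card ≤ k) (f : α → α)
    (hf : Set.InjOn f S) : ∃ g ∈ G, ∀ x ∈ S, g x = f x := by
  have h2 : MulAction.IsMultiplyPretransitive G α S.card :=
    MulAction.isMultiplyPretransitive_of_le hS (by rw [Nat.card_eq_fintype_card]; exact hk)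
  let e := S.equivFin.symm
  let u : Fin S.card ↪ α := ⟨fun i => e i, fun i j h => e.injective (Subtype.ext h)⟩
  let v : Fin S.card ↪ α := ⟨fun i => f (e i), fun i j h =>
    e.injective (Subtype.ext (hf (e i).2 (e j).2 h))⟩
  obtain ⟨g, hg⟩ := h2.exists_smul_eq u v
  refine ⟨g, g.2, fun x hx => ?_⟩
  have := DFunLike.congr_fun hg (S.equivFin ⟨x, hx⟩)
  change (g : Perm α) (e (S.equivFin ⟨x, hx⟩)) = f (e (S.equivFin ⟨x, hx⟩)) at this
  simpa [e] using this

/-- Homogeneity, stated with sets. -/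
theorem exists_image_eq {k : ℕ} (hG : MulAction.IsPretransitive G (Set.powersetCard α k))
    {S T : Finset α} (hS : S.card = k) (hT : T.card = k) : ∃ g ∈ G, S.image g = T := by
  obtain ⟨g, hg⟩ := hG.exists_smul_eq ⟨S, hS⟩ ⟨T, hT⟩
  exact ⟨g, g.2, congrArg Subtype.val hg⟩

theorem exists_image_eq_of_trans [Fintype α] {k : ℕ}
    (hG : MulAction.IsMultiplyPretransitive G α k) (hk : k ≤ Fintype.card α)
    {S T : Finset α} (hS : S.card ≤ k) (hT : T.card = S.card) :
    ∃ g ∈ G, S.image g = T := by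
  classical
  let e : ↥S ≃ ↥T := Finset.equivOfCardEq hT.symm
  obtain ⟨g, hg, hgf⟩ := exists_map hG hk S hS
    (fun x => if h : x ∈ S then (e ⟨x, h⟩ : α) else x) (by
      intro a ha b hb hab
      simp only [Finset.mem_coe] at ha hb
      simp only [ha, hb, dif_pos] at hab
      exact congrArg Subtype.val (e.injective (Subtype.ext hab)))
  refine ⟨g, hg, Finset.eq_of_subset_of_card_le ?_ ?_⟩
  · intro y hy
    obtain ⟨x, hx, rfl⟩ := Finset.mem_image.mp hy
    rw [hgf x hx, dif_pos hx]
    exact (e ⟨x, hx⟩).2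
  · rw [Finset.card_image_of_injective _ g.injective, hT]

/-- Fixers of corresponding sets have the same order. -/
theorem card_fixer_image {g : Perm α} (hg : g ∈ G) (S : Finset α) :
    Nat.card (fixer G (S.image g)) = Nat.card (fixer G S) := by
  refine Nat.card_congr
    { toFun := fun a => ⟨g⁻¹ * a * g, G.mul_mem (G.mul_mem (G.inv_mem hg) a.2.1) hg,
        fun x hx => ?_⟩
      invFun := fun a => ⟨g * a * g⁻¹, G.mul_mem (G.mul_mem hg a.2.1) (G.inv_mem hg),
        fun y hy => ?_⟩
      left_inv := fun a => Subtype.ext (by simp [mul_assoc])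
      right_inv := fun a => Subtype.ext (by simp [mul_assoc]) }
  · rw [Perm.mul_apply, Perm.mul_apply, a.2.2 _ (Finset.mem_image_of_mem _ hx),
      Perm.inv_def, Equiv.symm_apply_apply]
  · obtain ⟨x, hx, rfl⟩ := Finset.mem_image.mp hy
    rw [Perm.mul_apply, Perm.mul_apply, Perm.inv_def, Equiv.symm_apply_apply, a.2.2 x hx]

theorem card_fixer_of_homogeneous {k : ℕ}
    (hG : MulAction.IsPretransitive G (Set.powersetCard α k))
    {S T : Finset α} (hS : S.card = k) (hT : T.card = k) :
    Nat.card (fixer G S) = Nat.card (fixer G T) := by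
  obtain ⟨g, hg, hST⟩ := exists_image_eq hG hS hT
  rw [← hST, card_fixer_image hg]

theorem card_fixer_of_trans [Fintype α] {k : ℕ}
    (hG : MulAction.IsMultiplyPretransitive G α k) (hk : k ≤ Fintype.card α)
    {S T : Finset α} (hS : S.card ≤ k) (hT : T.card = S.card) :
    Nat.card (fixer G S) = Nat.card (fixer G T) := by
  obtain ⟨g, hg, hST⟩ := exists_image_eq_of_trans hG hk hS hT
  rw [← hST, card_fixer_image hg]

section Finite

variable [Fintype α]

/-- An element of odd order with trivial square is trivial. -/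
theorem eq_one_of_sq_of_odd {H : Subgroup (Perm α)} (hH : Odd (Nat.card H)) {x : Perm α}
    (hx : x ∈ H) (h2 : x ^ 2 = 1) : x = 1 := by
  have ho : orderOf x ∣ Nat.card H := by
    rw [← Subgroup.orderOf_mk x hx]; exact orderOf_dvd_natCard _
  have h1 : orderOf x ∣ 2 := orderOf_dvd_of_pow_eq_one h2
  rcases (Nat.dvd_prime Nat.prime_two).mp h1 with h | h
  · exact orderOf_eq_one_iff.mp h
  · exact absurd (even_iff_two_dvd.mpr (h ▸ ho)) (Nat.not_even_iff_odd.mpr hH)

/-- A `2`-element of a group of odd order is trivial. -/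
theorem eq_one_of_two_power_of_odd {H : Subgroup (Perm α)} (hH : Odd (Nat.card H)) {x : Perm α}
    (hx : x ∈ H) {i : ℕ} (hi : orderOf x = 2 ^ i) : x = 1 := by
  have ho : orderOf x ∣ Nat.card H := by
    rw [← Subgroup.orderOf_mk x hx]; exact orderOf_dvd_natCard _
  rcases Nat.eq_zero_or_pos i with h | h
  · rw [h, pow_zero] at hi; exact orderOf_eq_one_iff.mp hi
  · exfalso
    have h2 : 2 ∣ Nat.card H := (dvd_pow_self 2 (by omega)).trans (hi ▸ ho)
    exact Nat.not_even_iff_odd.mpr hH (even_iff_two_dvd.mpr h2)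

omit [Fintype α] in
/-- An odd power does the same as the element on a swapped pair. -/
theorem pow_odd_apply_of_swap {g : Perm α} {a b : α} (hab : g a = b) (hba : g b = a) {m : ℕ}
    (hm : Odd m) : (g ^ m) a = b ∧ (g ^ m) b = a := by
  obtain ⟨q, rfl⟩ := hm
  have h : ∀ x, x = a ∨ x = b → ((g ^ 2) ^ q) x = x := by
    intro x hx
    induction q with
    | zero => simp
    | succ q ih =>
      rw [pow_succ', Perm.mul_apply, ih]
      rw [sq, Perm.mul_apply]
      rcases hx with rfl | rfl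
      · rw [hab, hba]
      · rw [hba, hab]
  rw [pow_succ', pow_mul, Perm.mul_apply, Perm.mul_apply, h a (.inl rfl), h b (.inr rfl)]
  exact ⟨hab, hba⟩

omit [Fintype α] [DecidableEq α] in
theorem pow_apply_of_fixed {g : Perm α} {x : α} (h : g x = x) (m : ℕ) : (g ^ m) x = x :=
  Perm.pow_apply_eq_self_of_apply_eq_self h m

/-- The `2`-part of an element, as an odd power of it. -/
theorem exists_two_part (g : Perm α) :
    ∃ m i : ℕ, Odd m ∧ orderOf (g ^ m) = 2 ^ i := by
  obtain ⟨i, m, hm, he⟩ := Nat.exists_eq_pow_mul_and_not_dvd (orderOf_pos g).ne' 2 (by norm_num)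
  refine ⟨m, i, Nat.not_even_iff_odd.mp fun h => hm h.two_dvd, ?_⟩
  have hm0 : m ≠ 0 := by rintro rfl; exact hm (dvd_zero _)
  rw [orderOf_pow_of_dvd hm0 ⟨2 ^ i, by rw [he, mul_comm]⟩, he,
    Nat.mul_div_cancel _ (Nat.pos_of_ne_zero hm0)]

/-- If an element swaps two points, a suitable odd power of it is a nontrivial `2`-element
doing the same; and if the fixer of these points and `S` has odd order it is an involution. -/
theorem exists_involution_of_swap {g : Perm α} (hg : g ∈ G) {a b : α} {S : Finset α}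
    (hab : g a = b) (hba : g b = a) (hS : ∀ x ∈ S, g x = x)
    (hodd : Odd (Nat.card (fixer G (insert a (insert b S))))) :
    ∃ t ∈ G, t * t = 1 ∧ t a = b ∧ t b = a ∧ ∀ x ∈ S, t x = x := by
  obtain ⟨m, i, hm, hi⟩ := exists_two_part g
  set t := g ^ m
  obtain ⟨h1, h2⟩ := pow_odd_apply_of_swap hab hba hm
  have hS' : ∀ x ∈ S, t x = x := fun x hx => pow_apply_of_fixed (hS x hx) m
  refine ⟨t, G.pow_mem hg m, ?_, h1, h2, hS'⟩
  have hmem : t * t ∈ fixer G (insert a (insert b S)) := by
    refine ⟨G.mul_mem (G.pow_mem hg m) (G.pow_mem hg m), fun x hx => ?_⟩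
    rw [Perm.mul_apply]
    rcases Finset.mem_insert.mp hx with rfl | hx
    · rw [h1, h2]
    rcases Finset.mem_insert.mp hx with rfl | hx
    · rw [h2, h1]
    rw [hS' x hx, hS' x hx]
  obtain ⟨j, -, hj⟩ := (Nat.dvd_prime_pow Nat.prime_two).mp
    (show orderOf (t * t) ∣ 2 ^ i by rw [← hi, ← sq]; exact orderOf_pow_dvd 2)
  exact eq_one_of_two_power_of_odd hodd hmem hj

/-- Two involutions agreeing, through `g`, on a set whose image has a fixer of odd order are
conjugate by an element agreeing with `g` on the set. -/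
theorem exists_conj_lift {t t₂ g : Perm α} (ht : t ∈ G) (ht2 : t * t = 1) (ht₂ : t₂ ∈ G)
    (ht₂2 : t₂ * t₂ = 1) (hg : g ∈ G) {S : Finset α} (hc : ∀ x ∈ S, t₂ (g x) = g (t x))
    (hodd : Odd (Nat.card (fixer G (S.image g)))) :
    ∃ g' ∈ G, g' * t = t₂ * g' ∧ ∀ x ∈ S, g' x = g x := by
  set K := fixer G (S.image g)
  set t₁ := g * t * g⁻¹ with ht₁
  have ht₁2 : t₁ * t₁ = 1 := by
    calc t₁ * t₁ = g * (t * t) * g⁻¹ := by rw [ht₁]; group
      _ = 1 := by rw [ht2]; group
  set d := t₁ * t₂ with hd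
  have hdK : d ∈ K := by
    refine ⟨G.mul_mem (G.mul_mem (G.mul_mem hg ht) (G.inv_mem hg)) ht₂, fun y hy => ?_⟩
    obtain ⟨x, hx, rfl⟩ := Finset.mem_image.mp hy
    rw [hd, Perm.mul_apply, hc x hx, ht₁, Perm.mul_apply, Perm.mul_apply, Perm.inv_def,
      Equiv.symm_apply_apply, ← Perm.mul_apply t t, ht2, Perm.one_apply]
  have ho : Odd (orderOf d) := by
    refine hodd.of_dvd_nat ?_
    rw [← Subgroup.orderOf_mk d hdK]; exact orderOf_dvd_natCard _
  obtain ⟨q, hq⟩ := ho
  set h := d ^ (q + 1) with hh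
  have hhd : h * h = d := by
    rw [hh, ← pow_add, show q + 1 + (q + 1) = orderOf d + 1 by omega, pow_succ,
      pow_orderOf_eq_one, one_mul]
  have htd : t₂ * d * t₂ = d⁻¹ := by
    rw [hd, mul_inv_rev, show t₂⁻¹ = t₂ from inv_eq_of_mul_eq_one_right ht₂2,
      show t₁⁻¹ = t₁ from inv_eq_of_mul_eq_one_right ht₁2]
    calc t₂ * (t₁ * t₂) * t₂ = t₂ * t₁ * (t₂ * t₂) := by group
      _ = t₂ * t₁ := by rw [ht₂2, mul_one]
  have hth : t₂ * h⁻¹ = h * t₂ := by
    have hc' : t₂ * h * t₂ = h⁻¹ := by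
      have hpow : ∀ r : ℕ, t₂ * d ^ r * t₂ = (t₂ * d * t₂) ^ r := by
        intro r
        induction r with
        | zero => simp [ht₂2]
        | succ r ih =>
          rw [pow_succ, pow_succ (t₂ * d * t₂), ← ih]
          calc t₂ * (d ^ r * d) * t₂ = t₂ * d ^ r * (t₂ * t₂) * d * t₂ := by rw [ht₂2]; group
            _ = t₂ * d ^ r * t₂ * (t₂ * d * t₂) := by group
      rw [hh, hpow, htd, inv_pow]
    rw [← hc']
    calc t₂ * (t₂ * h * t₂) = (t₂ * t₂) * h * t₂ := by group
      _ = h * t₂ := by rw [ht₂2, one_mul]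
  have key : t₁ * h = h * t₂ := by
    have e : h * t₂ * h⁻¹ = t₁ := by
      calc h * t₂ * h⁻¹ = h * (t₂ * h⁻¹) := by group
        _ = (h * h) * t₂ := by rw [hth]; group
        _ = t₁ := by rw [hhd, hd, mul_assoc, ht₂2, mul_one]
    rw [← e]; group
  refine ⟨h⁻¹ * g, G.mul_mem (G.inv_mem (G.pow_mem hdK.1 _)) hg, ?_, fun x hx => ?_⟩
  · calc h⁻¹ * g * t = h⁻¹ * t₁ * g := by rw [ht₁]; group
      _ = h⁻¹ * (t₁ * h) * h⁻¹ * g := by group
      _ = t₂ * (h⁻¹ * g) := by rw [key]; group
  · exact (K.inv_mem (K.pow_mem hdK (q + 1))).2 (g x) (Finset.mem_image_of_mem _ hx)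

/-- Transferring an image to the centraliser of an involution: if `g` respects the action of the
involution `t` on `S` and the fixer of the image has odd order, some element of the centraliser of
`t` agrees with `g` on `S`. -/
theorem exists_commute_lift {t g : Perm α} (ht : t ∈ G) (ht2 : t * t = 1) (hg : g ∈ G)
    {S : Finset α} (hc : ∀ x ∈ S, t (g x) = g (t x))
    (hodd : Odd (Nat.card (fixer G (S.image g)))) :
    ∃ g' ∈ G, g' * t = t * g' ∧ ∀ x ∈ S, g' x = g x :=
  exists_conj_lift ht ht2 ht ht2 hg hc hodd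

/-- Orbit counting in a fixer. -/
theorem card_fixer_eq_mul {S : Finset α} {y : α} (hy : y ∉ S)
    (h : ∀ z, z ∉ S → ∃ g ∈ fixer G S, g y = z) :
    Nat.card (fixer G S) = (Fintype.card α - S.card) * Nat.card (fixer G (insert y S)) := by
  classical
  set H := fixer G S
  have horb : MulAction.orbit H y = ((Sᶜ : Finset α) : Set α) := by
    ext z
    simp only [MulAction.mem_orbit_iff, Finset.coe_compl, Set.mem_compl_iff, Finset.mem_coe]
    constructor
    · rintro ⟨g, rfl⟩ hz
      rw [Subgroup.smul_def, Perm.smul_def] at hz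
      have := g.2.2 _ hz
      exact hy ((g : Perm α).injective this ▸ hz)
    · intro hz
      obtain ⟨g, hg, hgz⟩ := h z hz
      exact ⟨⟨g, hg⟩, hgz⟩
  have hst : Nat.card (MulAction.stabilizer H y) = Nat.card (fixer G (insert y S)) :=
    Nat.card_congr
      { toFun := fun g => ⟨(g.1 : Perm α), g.1.2.1, fun x hx => by
          rcases Finset.mem_insert.mp hx with rfl | hx
          · exact g.2
          · exact g.1.2.2 x hx⟩
        invFun := fun g => ⟨⟨(g : Perm α), g.2.1,
          fun x hx => g.2.2 x (Finset.mem_insert_of_mem hx)⟩,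
          g.2.2 y (Finset.mem_insert_self _ _)⟩
        left_inv := fun g => rfl
        right_inv := fun g => rfl }
  have hmul : Nat.card H = Nat.card (MulAction.orbit H y) * Nat.card (MulAction.stabilizer H y) := by
    rw [← Nat.card_prod]
    exact (Nat.card_congr (MulAction.orbitProdStabilizerEquivGroup H y)).symm
  rw [hmul, hst, horb, Nat.card_coe_set_eq, Set.ncard_coe_finset, Finset.card_compl]

theorem exists_fixer_map {k : ℕ} (hG : MulAction.IsMultiplyPretransitive G α k)
    (hk : k ≤ Fintype.card α) {S : Finset α} (hS : S.card < k) {y z : α} (hy : y ∉ S)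
    (hz : z ∉ S) : ∃ g ∈ fixer G S, g y = z := by
  obtain ⟨g, hg, hgf⟩ := exists_map hG hk (insert y S)
    (by rw [Finset.card_insert_of_notMem hy]; omega)
    (fun x => if x = y then z else x) (by
      intro a ha b hb hab
      simp only [Finset.coe_insert, Set.mem_insert_iff, Finset.mem_coe] at ha hb
      simp only at hab
      split_ifs at hab with h1 h2 h2
      · exact h1.trans h2.symm
      · exact absurd ((hb.resolve_left h2)) (hab ▸ hz)
      · exact absurd ((ha.resolve_left h1)) (hab ▸ hz)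
      · exact hab)
  refine ⟨g, ⟨hg, fun x hx => ?_⟩, by simpa using hgf y (Finset.mem_insert_self _ _)⟩
  rw [hgf x (Finset.mem_insert_of_mem hx), if_neg (fun h : x = y => hy (h ▸ hx))]

end Finite

end CfsgLib.LivWag
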